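import Cfsg.Agent.Lib.Helper35.ONOrd.X0.Data

set_option Elab.async false

namespace Cfsg.Agent.Lib.Helper35.ONOrd.X0

open Cfsg.Agent.Lib.Helper35

theorem q0c0 : allBelow (fun k => fq0 (Nat.add 0 k)) 224 = true := by decide +kernel
theorem q0u0 : ∀ i, i < 224 → fq0 i = true := below_step fq0 0 224 224 (below_zero fq0) q0c0 rfl
theorem q0c1 : allBelow (fun k => fq0 (Nat.add 224 k)) 224 = true := by decide +kernel
theorem q0u1 : ∀ i, i < 448 → fq0 i = true := below_step fq0 224 224 448 q0u0 q0c1 rfl
theorem q0c2 : allBelow (fun k => fq0 (Nat.add 448 k)) 224 = true := by decide +kernel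
theorem q0u2 : ∀ i, i < 672 → fq0 i = true := below_step fq0 448 224 672 q0u1 q0c2 rfl
theorem q0c3 : allBelow (fun k => fq0 (Nat.add 672 k)) 224 = true := by decide +kernel
theorem q0u3 : ∀ i, i < 896 → fq0 i = true := below_step fq0 672 224 896 q0u2 q0c3 rfl
theorem q0c4 : allBelow (fun k => fq0 (Nat.add 896 k)) 224 = true := by decide +kernel
theorem q0u4 : ∀ i, i < 1120 → fq0 i = true := below_step fq0 896 224 1120 q0u3 q0c4 rfl
theorem q0c5 : allBelow (fun k => fq0 (Nat.add 1120 k)) 224 = true := by decide +kernel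
theorem q0u5 : ∀ i, i < 1344 → fq0 i = true := below_step fq0 1120 224 1344 q0u4 q0c5 rfl
theorem q0c6 : allBelow (fun k => fq0 (Nat.add 1344 k)) 224 = true := by decide +kernel
theorem q0u6 : ∀ i, i < 1568 → fq0 i = true := below_step fq0 1344 224 1568 q0u5 q0c6 rfl
theorem q0c7 : allBelow (fun k => fq0 (Nat.add 1568 k)) 224 = true := by decide +kernel
theorem q0u7 : ∀ i, i < 1792 → fq0 i = true := below_step fq0 1568 224 1792 q0u6 q0c7 rfl
theorem q0c8 : allBelow (fun k => fq0 (Nat.add 1792 k)) 224 = true := by decide +kernel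
theorem q0u8 : ∀ i, i < 2016 → fq0 i = true := below_step fq0 1792 224 2016 q0u7 q0c8 rfl
theorem q0c9 : allBelow (fun k => fq0 (Nat.add 2016 k)) 224 = true := by decide +kernel
theorem q0u9 : ∀ i, i < 2240 → fq0 i = true := below_step fq0 2016 224 2240 q0u8 q0c9 rfl
theorem q0c10 : allBelow (fun k => fq0 (Nat.add 2240 k)) 224 = true := by decide +kernel
theorem q0u10 : ∀ i, i < 2464 → fq0 i = true := below_step fq0 2240 224 2464 q0u9 q0c10 rfl
theorem q0c11 : allBelow (fun k => fq0 (Nat.add 2464 k)) 224 = true := by decide +kernel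
theorem q0u11 : ∀ i, i < 2688 → fq0 i = true := below_step fq0 2464 224 2688 q0u10 q0c11 rfl
theorem q0c12 : allBelow (fun k => fq0 (Nat.add 2688 k)) 224 = true := by decide +kernel
theorem q0u12 : ∀ i, i < 2912 → fq0 i = true := below_step fq0 2688 224 2912 q0u11 q0c12 rfl
theorem q0c13 : allBelow (fun k => fq0 (Nat.add 2912 k)) 224 = true := by decide +kernel
theorem q0u13 : ∀ i, i < 3136 → fq0 i = true := below_step fq0 2912 224 3136 q0u12 q0c13 rfl
theorem q0c14 : allBelow (fun k => fq0 (Nat.add 3136 k)) 224 = true := by decide +kernel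
theorem q0u14 : ∀ i, i < 3360 → fq0 i = true := below_step fq0 3136 224 3360 q0u13 q0c14 rfl
theorem q0c15 : allBelow (fun k => fq0 (Nat.add 3360 k)) 224 = true := by decide +kernel
theorem q0u15 : ∀ i, i < 3584 → fq0 i = true := below_step fq0 3360 224 3584 q0u14 q0c15 rfl
theorem q0c16 : allBelow (fun k => fq0 (Nat.add 3584 k)) 224 = true := by decide +kernel
theorem q0u16 : ∀ i, i < 3808 → fq0 i = true := below_step fq0 3584 224 3808 q0u15 q0c16 rfl
theorem q0c17 : allBelow (fun k => fq0 (Nat.add 3808 k)) 224 = true := by decide +kernel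
theorem q0u17 : ∀ i, i < 4032 → fq0 i = true := below_step fq0 3808 224 4032 q0u16 q0c17 rfl
theorem q0c18 : allBelow (fun k => fq0 (Nat.add 4032 k)) 224 = true := by decide +kernel
theorem q0u18 : ∀ i, i < 4256 → fq0 i = true := below_step fq0 4032 224 4256 q0u17 q0c18 rfl
theorem q0c19 : allBelow (fun k => fq0 (Nat.add 4256 k)) 224 = true := by decide +kernel
theorem q0u19 : ∀ i, i < 4480 → fq0 i = true := below_step fq0 4256 224 4480 q0u18 q0c19 rfl
theorem q0c20 : allBelow (fun k => fq0 (Nat.add 4480 k)) 224 = true := by decide +kernel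
theorem q0u20 : ∀ i, i < 4704 → fq0 i = true := below_step fq0 4480 224 4704 q0u19 q0c20 rfl
theorem q0c21 : allBelow (fun k => fq0 (Nat.add 4704 k)) 224 = true := by decide +kernel
theorem q0u21 : ∀ i, i < 4928 → fq0 i = true := below_step fq0 4704 224 4928 q0u20 q0c21 rfl
theorem q0c22 : allBelow (fun k => fq0 (Nat.add 4928 k)) 224 = true := by decide +kernel
theorem q0u22 : ∀ i, i < 5152 → fq0 i = true := below_step fq0 4928 224 5152 q0u21 q0c22 rfl
theorem q0c23 : allBelow (fun k => fq0 (Nat.add 5152 k)) 224 = true := by decide +kernel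
theorem q0u23 : ∀ i, i < 5376 → fq0 i = true := below_step fq0 5152 224 5376 q0u22 q0c23 rfl
theorem q0c24 : allBelow (fun k => fq0 (Nat.add 5376 k)) 224 = true := by decide +kernel
theorem q0u24 : ∀ i, i < 5600 → fq0 i = true := below_step fq0 5376 224 5600 q0u23 q0c24 rfl
theorem q0c25 : allBelow (fun k => fq0 (Nat.add 5600 k)) 224 = true := by decide +kernel
theorem q0u25 : ∀ i, i < 5824 → fq0 i = true := below_step fq0 5600 224 5824 q0u24 q0c25 rfl
theorem q0c26 : allBelow (fun k => fq0 (Nat.add 5824 k)) 224 = true := by decide +kernel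
theorem q0u26 : ∀ i, i < 6048 → fq0 i = true := below_step fq0 5824 224 6048 q0u25 q0c26 rfl
theorem q0c27 : allBelow (fun k => fq0 (Nat.add 6048 k)) 224 = true := by decide +kernel
theorem q0u27 : ∀ i, i < 6272 → fq0 i = true := below_step fq0 6048 224 6272 q0u26 q0c27 rfl
theorem q0c28 : allBelow (fun k => fq0 (Nat.add 6272 k)) 224 = true := by decide +kernel
theorem q0u28 : ∀ i, i < 6496 → fq0 i = true := below_step fq0 6272 224 6496 q0u27 q0c28 rfl
theorem q0c29 : allBelow (fun k => fq0 (Nat.add 6496 k)) 224 = true := by decide +kernel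
theorem q0u29 : ∀ i, i < 6720 → fq0 i = true := below_step fq0 6496 224 6720 q0u28 q0c29 rfl
theorem q0c30 : allBelow (fun k => fq0 (Nat.add 6720 k)) 224 = true := by decide +kernel
theorem q0u30 : ∀ i, i < 6944 → fq0 i = true := below_step fq0 6720 224 6944 q0u29 q0c30 rfl
theorem q0c31 : allBelow (fun k => fq0 (Nat.add 6944 k)) 224 = true := by decide +kernel
theorem q0u31 : ∀ i, i < 7168 → fq0 i = true := below_step fq0 6944 224 7168 q0u30 q0c31 rfl
theorem q0c32 : allBelow (fun k => fq0 (Nat.add 7168 k)) 224 = true := by decide +kernel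
theorem q0u32 : ∀ i, i < 7392 → fq0 i = true := below_step fq0 7168 224 7392 q0u31 q0c32 rfl
theorem q0c33 : allBelow (fun k => fq0 (Nat.add 7392 k)) 224 = true := by decide +kernel
theorem q0u33 : ∀ i, i < 7616 → fq0 i = true := below_step fq0 7392 224 7616 q0u32 q0c33 rfl
theorem q0c34 : allBelow (fun k => fq0 (Nat.add 7616 k)) 224 = true := by decide +kernel
theorem q0u34 : ∀ i, i < 7840 → fq0 i = true := below_step fq0 7616 224 7840 q0u33 q0c34 rfl
theorem q0c35 : allBelow (fun k => fq0 (Nat.add 7840 k)) 224 = true := by decide +kernel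
theorem q0u35 : ∀ i, i < 8064 → fq0 i = true := below_step fq0 7840 224 8064 q0u34 q0c35 rfl
theorem q0c36 : allBelow (fun k => fq0 (Nat.add 8064 k)) 224 = true := by decide +kernel
theorem q0u36 : ∀ i, i < 8288 → fq0 i = true := below_step fq0 8064 224 8288 q0u35 q0c36 rfl
theorem q0c37 : allBelow (fun k => fq0 (Nat.add 8288 k)) 224 = true := by decide +kernel
theorem q0u37 : ∀ i, i < 8512 → fq0 i = true := below_step fq0 8288 224 8512 q0u36 q0c37 rfl
theorem q0c38 : allBelow (fun k => fq0 (Nat.add 8512 k)) 224 = true := by decide +kernel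
theorem q0u38 : ∀ i, i < 8736 → fq0 i = true := below_step fq0 8512 224 8736 q0u37 q0c38 rfl
theorem q0c39 : allBelow (fun k => fq0 (Nat.add 8736 k)) 224 = true := by decide +kernel
theorem q0u39 : ∀ i, i < 8960 → fq0 i = true := below_step fq0 8736 224 8960 q0u38 q0c39 rfl
theorem q0c40 : allBelow (fun k => fq0 (Nat.add 8960 k)) 224 = true := by decide +kernel
theorem q0u40 : ∀ i, i < 9184 → fq0 i = true := below_step fq0 8960 224 9184 q0u39 q0c40 rfl
theorem q0c41 : allBelow (fun k => fq0 (Nat.add 9184 k)) 224 = true := by decide +kernel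
theorem q0u41 : ∀ i, i < 9408 → fq0 i = true := below_step fq0 9184 224 9408 q0u40 q0c41 rfl
theorem q0c42 : allBelow (fun k => fq0 (Nat.add 9408 k)) 224 = true := by decide +kernel
theorem q0u42 : ∀ i, i < 9632 → fq0 i = true := below_step fq0 9408 224 9632 q0u41 q0c42 rfl
theorem q0c43 : allBelow (fun k => fq0 (Nat.add 9632 k)) 224 = true := by decide +kernel
theorem q0u43 : ∀ i, i < 9856 → fq0 i = true := below_step fq0 9632 224 9856 q0u42 q0c43 rfl
theorem q0c44 : allBelow (fun k => fq0 (Nat.add 9856 k)) 224 = true := by decide +kernel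
theorem q0u44 : ∀ i, i < 10080 → fq0 i = true := below_step fq0 9856 224 10080 q0u43 q0c44 rfl
theorem q0c45 : allBelow (fun k => fq0 (Nat.add 10080 k)) 224 = true := by decide +kernel
theorem q0u45 : ∀ i, i < 10304 → fq0 i = true := below_step fq0 10080 224 10304 q0u44 q0c45 rfl
theorem q0c46 : allBelow (fun k => fq0 (Nat.add 10304 k)) 224 = true := by decide +kernel
theorem q0u46 : ∀ i, i < 10528 → fq0 i = true := below_step fq0 10304 224 10528 q0u45 q0c46 rfl
theorem q0c47 : allBelow (fun k => fq0 (Nat.add 10528 k)) 224 = true := by decide +kernel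
theorem q0u47 : ∀ i, i < 10752 → fq0 i = true := below_step fq0 10528 224 10752 q0u46 q0c47 rfl
theorem q0c48 : allBelow (fun k => fq0 (Nat.add 10752 k)) 224 = true := by decide +kernel
theorem q0u48 : ∀ i, i < 10976 → fq0 i = true := below_step fq0 10752 224 10976 q0u47 q0c48 rfl
theorem q0c49 : allBelow (fun k => fq0 (Nat.add 10976 k)) 224 = true := by decide +kernel
theorem q0u49 : ∀ i, i < 11200 → fq0 i = true := below_step fq0 10976 224 11200 q0u48 q0c49 rfl
theorem q0c50 : allBelow (fun k => fq0 (Nat.add 11200 k)) 224 = true := by decide +kernel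
theorem q0u50 : ∀ i, i < 11424 → fq0 i = true := below_step fq0 11200 224 11424 q0u49 q0c50 rfl
theorem q0c51 : allBelow (fun k => fq0 (Nat.add 11424 k)) 224 = true := by decide +kernel
theorem q0u51 : ∀ i, i < 11648 → fq0 i = true := below_step fq0 11424 224 11648 q0u50 q0c51 rfl
theorem q0c52 : allBelow (fun k => fq0 (Nat.add 11648 k)) 224 = true := by decide +kernel
theorem q0u52 : ∀ i, i < 11872 → fq0 i = true := below_step fq0 11648 224 11872 q0u51 q0c52 rfl
theorem q0c53 : allBelow (fun k => fq0 (Nat.add 11872 k)) 224 = true := by decide +kernel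
theorem q0u53 : ∀ i, i < 12096 → fq0 i = true := below_step fq0 11872 224 12096 q0u52 q0c53 rfl
theorem q0c54 : allBelow (fun k => fq0 (Nat.add 12096 k)) 224 = true := by decide +kernel
theorem q0u54 : ∀ i, i < 12320 → fq0 i = true := below_step fq0 12096 224 12320 q0u53 q0c54 rfl
theorem q0c55 : allBelow (fun k => fq0 (Nat.add 12320 k)) 224 = true := by decide +kernel
theorem q0u55 : ∀ i, i < 12544 → fq0 i = true := below_step fq0 12320 224 12544 q0u54 q0c55 rfl
theorem q0c56 : allBelow (fun k => fq0 (Nat.add 12544 k)) 224 = true := by decide +kernel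
theorem q0u56 : ∀ i, i < 12768 → fq0 i = true := below_step fq0 12544 224 12768 q0u55 q0c56 rfl
theorem q0c57 : allBelow (fun k => fq0 (Nat.add 12768 k)) 224 = true := by decide +kernel
theorem q0u57 : ∀ i, i < 12992 → fq0 i = true := below_step fq0 12768 224 12992 q0u56 q0c57 rfl
theorem q0c58 : allBelow (fun k => fq0 (Nat.add 12992 k)) 224 = true := by decide +kernel
theorem q0u58 : ∀ i, i < 13216 → fq0 i = true := below_step fq0 12992 224 13216 q0u57 q0c58 rfl
theorem q0c59 : allBelow (fun k => fq0 (Nat.add 13216 k)) 224 = true := by decide +kernel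
theorem q0u59 : ∀ i, i < 13440 → fq0 i = true := below_step fq0 13216 224 13440 q0u58 q0c59 rfl
theorem q0c60 : allBelow (fun k => fq0 (Nat.add 13440 k)) 224 = true := by decide +kernel
theorem q0u60 : ∀ i, i < 13664 → fq0 i = true := below_step fq0 13440 224 13664 q0u59 q0c60 rfl
theorem q0c61 : allBelow (fun k => fq0 (Nat.add 13664 k)) 224 = true := by decide +kernel
theorem q0u61 : ∀ i, i < 13888 → fq0 i = true := below_step fq0 13664 224 13888 q0u60 q0c61 rfl
theorem q0c62 : allBelow (fun k => fq0 (Nat.add 13888 k)) 224 = true := by decide +kernel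
theorem q0u62 : ∀ i, i < 14112 → fq0 i = true := below_step fq0 13888 224 14112 q0u61 q0c62 rfl
theorem q0c63 : allBelow (fun k => fq0 (Nat.add 14112 k)) 224 = true := by decide +kernel
theorem q0u63 : ∀ i, i < 14336 → fq0 i = true := below_step fq0 14112 224 14336 q0u62 q0c63 rfl
theorem q0c64 : allBelow (fun k => fq0 (Nat.add 14336 k)) 224 = true := by decide +kernel
theorem q0u64 : ∀ i, i < 14560 → fq0 i = true := below_step fq0 14336 224 14560 q0u63 q0c64 rfl
theorem q0c65 : allBelow (fun k => fq0 (Nat.add 14560 k)) 224 = true := by decide +kernel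
theorem q0u65 : ∀ i, i < 14784 → fq0 i = true := below_step fq0 14560 224 14784 q0u64 q0c65 rfl
theorem q0c66 : allBelow (fun k => fq0 (Nat.add 14784 k)) 224 = true := by decide +kernel
theorem q0u66 : ∀ i, i < 15008 → fq0 i = true := below_step fq0 14784 224 15008 q0u65 q0c66 rfl
theorem q0c67 : allBelow (fun k => fq0 (Nat.add 15008 k)) 224 = true := by decide +kernel
theorem q0u67 : ∀ i, i < 15232 → fq0 i = true := below_step fq0 15008 224 15232 q0u66 q0c67 rfl
theorem q0c68 : allBelow (fun k => fq0 (Nat.add 15232 k)) 224 = true := by decide +kernel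
theorem q0u68 : ∀ i, i < 15456 → fq0 i = true := below_step fq0 15232 224 15456 q0u67 q0c68 rfl
theorem q0c69 : allBelow (fun k => fq0 (Nat.add 15456 k)) 224 = true := by decide +kernel
theorem q0u69 : ∀ i, i < 15680 → fq0 i = true := below_step fq0 15456 224 15680 q0u68 q0c69 rfl
theorem q0c70 : allBelow (fun k => fq0 (Nat.add 15680 k)) 224 = true := by decide +kernel
theorem q0u70 : ∀ i, i < 15904 → fq0 i = true := below_step fq0 15680 224 15904 q0u69 q0c70 rfl
theorem q0c71 : allBelow (fun k => fq0 (Nat.add 15904 k)) 224 = true := by decide +kernel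
theorem q0u71 : ∀ i, i < 16128 → fq0 i = true := below_step fq0 15904 224 16128 q0u70 q0c71 rfl
theorem q0c72 : allBelow (fun k => fq0 (Nat.add 16128 k)) 224 = true := by decide +kernel
theorem q0u72 : ∀ i, i < 16352 → fq0 i = true := below_step fq0 16128 224 16352 q0u71 q0c72 rfl
theorem q0c73 : allBelow (fun k => fq0 (Nat.add 16352 k)) 224 = true := by decide +kernel
theorem q0u73 : ∀ i, i < 16576 → fq0 i = true := below_step fq0 16352 224 16576 q0u72 q0c73 rfl
theorem q0c74 : allBelow (fun k => fq0 (Nat.add 16576 k)) 224 = true := by decide +kernel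
theorem q0u74 : ∀ i, i < 16800 → fq0 i = true := below_step fq0 16576 224 16800 q0u73 q0c74 rfl
theorem q0c75 : allBelow (fun k => fq0 (Nat.add 16800 k)) 224 = true := by decide +kernel
theorem q0u75 : ∀ i, i < 17024 → fq0 i = true := below_step fq0 16800 224 17024 q0u74 q0c75 rfl
theorem q0c76 : allBelow (fun k => fq0 (Nat.add 17024 k)) 224 = true := by decide +kernel
theorem q0u76 : ∀ i, i < 17248 → fq0 i = true := below_step fq0 17024 224 17248 q0u75 q0c76 rfl
theorem q0c77 : allBelow (fun k => fq0 (Nat.add 17248 k)) 224 = true := by decide +kernel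
theorem q0u77 : ∀ i, i < 17472 → fq0 i = true := below_step fq0 17248 224 17472 q0u76 q0c77 rfl
theorem q0c78 : allBelow (fun k => fq0 (Nat.add 17472 k)) 224 = true := by decide +kernel
theorem q0u78 : ∀ i, i < 17696 → fq0 i = true := below_step fq0 17472 224 17696 q0u77 q0c78 rfl
theorem q0c79 : allBelow (fun k => fq0 (Nat.add 17696 k)) 224 = true := by decide +kernel
theorem q0u79 : ∀ i, i < 17920 → fq0 i = true := below_step fq0 17696 224 17920 q0u78 q0c79 rfl
theorem q0c80 : allBelow (fun k => fq0 (Nat.add 17920 k)) 224 = true := by decide +kernel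
theorem q0u80 : ∀ i, i < 18144 → fq0 i = true := below_step fq0 17920 224 18144 q0u79 q0c80 rfl
theorem q0c81 : allBelow (fun k => fq0 (Nat.add 18144 k)) 224 = true := by decide +kernel
theorem q0u81 : ∀ i, i < 18368 → fq0 i = true := below_step fq0 18144 224 18368 q0u80 q0c81 rfl
theorem q0c82 : allBelow (fun k => fq0 (Nat.add 18368 k)) 224 = true := by decide +kernel
theorem q0u82 : ∀ i, i < 18592 → fq0 i = true := below_step fq0 18368 224 18592 q0u81 q0c82 rfl
theorem q0c83 : allBelow (fun k => fq0 (Nat.add 18592 k)) 224 = true := by decide +kernel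
theorem q0u83 : ∀ i, i < 18816 → fq0 i = true := below_step fq0 18592 224 18816 q0u82 q0c83 rfl
theorem q0c84 : allBelow (fun k => fq0 (Nat.add 18816 k)) 224 = true := by decide +kernel
theorem q0u84 : ∀ i, i < 19040 → fq0 i = true := below_step fq0 18816 224 19040 q0u83 q0c84 rfl
theorem q0c85 : allBelow (fun k => fq0 (Nat.add 19040 k)) 224 = true := by decide +kernel
theorem q0u85 : ∀ i, i < 19264 → fq0 i = true := below_step fq0 19040 224 19264 q0u84 q0c85 rfl
theorem q0c86 : allBelow (fun k => fq0 (Nat.add 19264 k)) 224 = true := by decide +kernel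
theorem q0u86 : ∀ i, i < 19488 → fq0 i = true := below_step fq0 19264 224 19488 q0u85 q0c86 rfl
theorem q0c87 : allBelow (fun k => fq0 (Nat.add 19488 k)) 224 = true := by decide +kernel
theorem q0u87 : ∀ i, i < 19712 → fq0 i = true := below_step fq0 19488 224 19712 q0u86 q0c87 rfl
theorem q0c88 : allBelow (fun k => fq0 (Nat.add 19712 k)) 224 = true := by decide +kernel
theorem q0u88 : ∀ i, i < 19936 → fq0 i = true := below_step fq0 19712 224 19936 q0u87 q0c88 rfl
theorem q0c89 : allBelow (fun k => fq0 (Nat.add 19936 k)) 224 = true := by decide +kernel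
theorem q0u89 : ∀ i, i < 20160 → fq0 i = true := below_step fq0 19936 224 20160 q0u88 q0c89 rfl
theorem q0c90 : allBelow (fun k => fq0 (Nat.add 20160 k)) 224 = true := by decide +kernel
theorem q0u90 : ∀ i, i < 20384 → fq0 i = true := below_step fq0 20160 224 20384 q0u89 q0c90 rfl
theorem q0c91 : allBelow (fun k => fq0 (Nat.add 20384 k)) 224 = true := by decide +kernel
theorem q0u91 : ∀ i, i < 20608 → fq0 i = true := below_step fq0 20384 224 20608 q0u90 q0c91 rfl
theorem q0c92 : allBelow (fun k => fq0 (Nat.add 20608 k)) 224 = true := by decide +kernel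
theorem q0u92 : ∀ i, i < 20832 → fq0 i = true := below_step fq0 20608 224 20832 q0u91 q0c92 rfl
theorem q0c93 : allBelow (fun k => fq0 (Nat.add 20832 k)) 224 = true := by decide +kernel
theorem q0u93 : ∀ i, i < 21056 → fq0 i = true := below_step fq0 20832 224 21056 q0u92 q0c93 rfl
theorem q0c94 : allBelow (fun k => fq0 (Nat.add 21056 k)) 224 = true := by decide +kernel
theorem q0u94 : ∀ i, i < 21280 → fq0 i = true := below_step fq0 21056 224 21280 q0u93 q0c94 rfl
theorem q0c95 : allBelow (fun k => fq0 (Nat.add 21280 k)) 224 = true := by decide +kernel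
theorem q0u95 : ∀ i, i < 21504 → fq0 i = true := below_step fq0 21280 224 21504 q0u94 q0c95 rfl
theorem q0c96 : allBelow (fun k => fq0 (Nat.add 21504 k)) 224 = true := by decide +kernel
theorem q0u96 : ∀ i, i < 21728 → fq0 i = true := below_step fq0 21504 224 21728 q0u95 q0c96 rfl
theorem q0c97 : allBelow (fun k => fq0 (Nat.add 21728 k)) 224 = true := by decide +kernel
theorem q0u97 : ∀ i, i < 21952 → fq0 i = true := below_step fq0 21728 224 21952 q0u96 q0c97 rfl
theorem q0c98 : allBelow (fun k => fq0 (Nat.add 21952 k)) 224 = true := by decide +kernel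
theorem q0u98 : ∀ i, i < 22176 → fq0 i = true := below_step fq0 21952 224 22176 q0u97 q0c98 rfl
theorem q0c99 : allBelow (fun k => fq0 (Nat.add 22176 k)) 224 = true := by decide +kernel
theorem q0u99 : ∀ i, i < 22400 → fq0 i = true := below_step fq0 22176 224 22400 q0u98 q0c99 rfl
theorem q0c100 : allBelow (fun k => fq0 (Nat.add 22400 k)) 224 = true := by decide +kernel
theorem q0u100 : ∀ i, i < 22624 → fq0 i = true := below_step fq0 22400 224 22624 q0u99 q0c100 rfl
theorem q0c101 : allBelow (fun k => fq0 (Nat.add 22624 k)) 224 = true := by decide +kernel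
theorem q0u101 : ∀ i, i < 22848 → fq0 i = true := below_step fq0 22624 224 22848 q0u100 q0c101 rfl
theorem q0c102 : allBelow (fun k => fq0 (Nat.add 22848 k)) 224 = true := by decide +kernel
theorem q0u102 : ∀ i, i < 23072 → fq0 i = true := below_step fq0 22848 224 23072 q0u101 q0c102 rfl
theorem q0c103 : allBelow (fun k => fq0 (Nat.add 23072 k)) 224 = true := by decide +kernel
theorem q0u103 : ∀ i, i < 23296 → fq0 i = true := below_step fq0 23072 224 23296 q0u102 q0c103 rfl
theorem q0c104 : allBelow (fun k => fq0 (Nat.add 23296 k)) 224 = true := by decide +kernel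
theorem q0u104 : ∀ i, i < 23520 → fq0 i = true := below_step fq0 23296 224 23520 q0u103 q0c104 rfl
theorem q0c105 : allBelow (fun k => fq0 (Nat.add 23520 k)) 224 = true := by decide +kernel
theorem q0u105 : ∀ i, i < 23744 → fq0 i = true := below_step fq0 23520 224 23744 q0u104 q0c105 rfl
theorem q0c106 : allBelow (fun k => fq0 (Nat.add 23744 k)) 224 = true := by decide +kernel
theorem q0u106 : ∀ i, i < 23968 → fq0 i = true := below_step fq0 23744 224 23968 q0u105 q0c106 rfl
theorem q0c107 : allBelow (fun k => fq0 (Nat.add 23968 k)) 224 = true := by decide +kernel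
theorem q0u107 : ∀ i, i < 24192 → fq0 i = true := below_step fq0 23968 224 24192 q0u106 q0c107 rfl
theorem q0c108 : allBelow (fun k => fq0 (Nat.add 24192 k)) 224 = true := by decide +kernel
theorem q0u108 : ∀ i, i < 24416 → fq0 i = true := below_step fq0 24192 224 24416 q0u107 q0c108 rfl
theorem q0c109 : allBelow (fun k => fq0 (Nat.add 24416 k)) 224 = true := by decide +kernel
theorem q0u109 : ∀ i, i < 24640 → fq0 i = true := below_step fq0 24416 224 24640 q0u108 q0c109 rfl
theorem q0c110 : allBelow (fun k => fq0 (Nat.add 24640 k)) 224 = true := by decide +kernel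
theorem q0u110 : ∀ i, i < 24864 → fq0 i = true := below_step fq0 24640 224 24864 q0u109 q0c110 rfl
theorem q0c111 : allBelow (fun k => fq0 (Nat.add 24864 k)) 224 = true := by decide +kernel
theorem q0u111 : ∀ i, i < 25088 → fq0 i = true := below_step fq0 24864 224 25088 q0u110 q0c111 rfl
theorem q0c112 : allBelow (fun k => fq0 (Nat.add 25088 k)) 224 = true := by decide +kernel
theorem q0u112 : ∀ i, i < 25312 → fq0 i = true := below_step fq0 25088 224 25312 q0u111 q0c112 rfl
theorem q0c113 : allBelow (fun k => fq0 (Nat.add 25312 k)) 224 = true := by decide +kernel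
theorem q0u113 : ∀ i, i < 25536 → fq0 i = true := below_step fq0 25312 224 25536 q0u112 q0c113 rfl
theorem q0c114 : allBelow (fun k => fq0 (Nat.add 25536 k)) 224 = true := by decide +kernel
theorem q0u114 : ∀ i, i < 25760 → fq0 i = true := below_step fq0 25536 224 25760 q0u113 q0c114 rfl
theorem q0c115 : allBelow (fun k => fq0 (Nat.add 25760 k)) 224 = true := by decide +kernel
theorem q0u115 : ∀ i, i < 25984 → fq0 i = true := below_step fq0 25760 224 25984 q0u114 q0c115 rfl
theorem q0c116 : allBelow (fun k => fq0 (Nat.add 25984 k)) 224 = true := by decide +kernel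
theorem q0u116 : ∀ i, i < 26208 → fq0 i = true := below_step fq0 25984 224 26208 q0u115 q0c116 rfl
theorem q0c117 : allBelow (fun k => fq0 (Nat.add 26208 k)) 224 = true := by decide +kernel
theorem q0u117 : ∀ i, i < 26432 → fq0 i = true := below_step fq0 26208 224 26432 q0u116 q0c117 rfl
theorem q0c118 : allBelow (fun k => fq0 (Nat.add 26432 k)) 224 = true := by decide +kernel
theorem q0u118 : ∀ i, i < 26656 → fq0 i = true := below_step fq0 26432 224 26656 q0u117 q0c118 rfl
theorem q0c119 : allBelow (fun k => fq0 (Nat.add 26656 k)) 224 = true := by decide +kernel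
theorem q0u119 : ∀ i, i < 26880 → fq0 i = true := below_step fq0 26656 224 26880 q0u118 q0c119 rfl
theorem q0c120 : allBelow (fun k => fq0 (Nat.add 26880 k)) 224 = true := by decide +kernel
theorem q0u120 : ∀ i, i < 27104 → fq0 i = true := below_step fq0 26880 224 27104 q0u119 q0c120 rfl
theorem q0c121 : allBelow (fun k => fq0 (Nat.add 27104 k)) 224 = true := by decide +kernel
theorem q0u121 : ∀ i, i < 27328 → fq0 i = true := below_step fq0 27104 224 27328 q0u120 q0c121 rfl
theorem q0c122 : allBelow (fun k => fq0 (Nat.add 27328 k)) 224 = true := by decide +kernel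
theorem q0u122 : ∀ i, i < 27552 → fq0 i = true := below_step fq0 27328 224 27552 q0u121 q0c122 rfl
theorem q0c123 : allBelow (fun k => fq0 (Nat.add 27552 k)) 224 = true := by decide +kernel
theorem q0u123 : ∀ i, i < 27776 → fq0 i = true := below_step fq0 27552 224 27776 q0u122 q0c123 rfl
theorem q0c124 : allBelow (fun k => fq0 (Nat.add 27776 k)) 224 = true := by decide +kernel
theorem q0u124 : ∀ i, i < 28000 → fq0 i = true := below_step fq0 27776 224 28000 q0u123 q0c124 rfl
theorem q0c125 : allBelow (fun k => fq0 (Nat.add 28000 k)) 224 = true := by decide +kernel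
theorem q0u125 : ∀ i, i < 28224 → fq0 i = true := below_step fq0 28000 224 28224 q0u124 q0c125 rfl
theorem q0c126 : allBelow (fun k => fq0 (Nat.add 28224 k)) 224 = true := by decide +kernel
theorem q0u126 : ∀ i, i < 28448 → fq0 i = true := below_step fq0 28224 224 28448 q0u125 q0c126 rfl
theorem q0c127 : allBelow (fun k => fq0 (Nat.add 28448 k)) 224 = true := by decide +kernel
theorem q0u127 : ∀ i, i < 28672 → fq0 i = true := below_step fq0 28448 224 28672 q0u126 q0c127 rfl
theorem q0c128 : allBelow (fun k => fq0 (Nat.add 28672 k)) 224 = true := by decide +kernel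
theorem q0u128 : ∀ i, i < 28896 → fq0 i = true := below_step fq0 28672 224 28896 q0u127 q0c128 rfl
theorem q0c129 : allBelow (fun k => fq0 (Nat.add 28896 k)) 224 = true := by decide +kernel
theorem q0u129 : ∀ i, i < 29120 → fq0 i = true := below_step fq0 28896 224 29120 q0u128 q0c129 rfl
theorem q0c130 : allBelow (fun k => fq0 (Nat.add 29120 k)) 224 = true := by decide +kernel
theorem q0u130 : ∀ i, i < 29344 → fq0 i = true := below_step fq0 29120 224 29344 q0u129 q0c130 rfl
theorem q0c131 : allBelow (fun k => fq0 (Nat.add 29344 k)) 224 = true := by decide +kernel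
theorem q0u131 : ∀ i, i < 29568 → fq0 i = true := below_step fq0 29344 224 29568 q0u130 q0c131 rfl
theorem q0c132 : allBelow (fun k => fq0 (Nat.add 29568 k)) 224 = true := by decide +kernel
theorem q0u132 : ∀ i, i < 29792 → fq0 i = true := below_step fq0 29568 224 29792 q0u131 q0c132 rfl
theorem q0c133 : allBelow (fun k => fq0 (Nat.add 29792 k)) 224 = true := by decide +kernel
theorem q0u133 : ∀ i, i < 30016 → fq0 i = true := below_step fq0 29792 224 30016 q0u132 q0c133 rfl
theorem q0c134 : allBelow (fun k => fq0 (Nat.add 30016 k)) 224 = true := by decide +kernel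
theorem q0u134 : ∀ i, i < 30240 → fq0 i = true := below_step fq0 30016 224 30240 q0u133 q0c134 rfl
theorem q0c135 : allBelow (fun k => fq0 (Nat.add 30240 k)) 224 = true := by decide +kernel
theorem q0u135 : ∀ i, i < 30464 → fq0 i = true := below_step fq0 30240 224 30464 q0u134 q0c135 rfl
theorem q0c136 : allBelow (fun k => fq0 (Nat.add 30464 k)) 224 = true := by decide +kernel
theorem q0u136 : ∀ i, i < 30688 → fq0 i = true := below_step fq0 30464 224 30688 q0u135 q0c136 rfl
theorem q0c137 : allBelow (fun k => fq0 (Nat.add 30688 k)) 224 = true := by decide +kernel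
theorem q0u137 : ∀ i, i < 30912 → fq0 i = true := below_step fq0 30688 224 30912 q0u136 q0c137 rfl
theorem q0c138 : allBelow (fun k => fq0 (Nat.add 30912 k)) 224 = true := by decide +kernel
theorem q0u138 : ∀ i, i < 31136 → fq0 i = true := below_step fq0 30912 224 31136 q0u137 q0c138 rfl
theorem q0c139 : allBelow (fun k => fq0 (Nat.add 31136 k)) 224 = true := by decide +kernel
theorem q0u139 : ∀ i, i < 31360 → fq0 i = true := below_step fq0 31136 224 31360 q0u138 q0c139 rfl
theorem q0c140 : allBelow (fun k => fq0 (Nat.add 31360 k)) 224 = true := by decide +kernel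
theorem q0u140 : ∀ i, i < 31584 → fq0 i = true := below_step fq0 31360 224 31584 q0u139 q0c140 rfl
theorem q0c141 : allBelow (fun k => fq0 (Nat.add 31584 k)) 224 = true := by decide +kernel
theorem q0u141 : ∀ i, i < 31808 → fq0 i = true := below_step fq0 31584 224 31808 q0u140 q0c141 rfl
theorem q0c142 : allBelow (fun k => fq0 (Nat.add 31808 k)) 224 = true := by decide +kernel
theorem q0u142 : ∀ i, i < 32032 → fq0 i = true := below_step fq0 31808 224 32032 q0u141 q0c142 rfl
theorem q0c143 : allBelow (fun k => fq0 (Nat.add 32032 k)) 224 = true := by decide +kernel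
theorem q0u143 : ∀ i, i < 32256 → fq0 i = true := below_step fq0 32032 224 32256 q0u142 q0c143 rfl
theorem q0c144 : allBelow (fun k => fq0 (Nat.add 32256 k)) 224 = true := by decide +kernel
theorem q0u144 : ∀ i, i < 32480 → fq0 i = true := below_step fq0 32256 224 32480 q0u143 q0c144 rfl
theorem q0c145 : allBelow (fun k => fq0 (Nat.add 32480 k)) 224 = true := by decide +kernel
theorem q0u145 : ∀ i, i < 32704 → fq0 i = true := below_step fq0 32480 224 32704 q0u144 q0c145 rfl
theorem q0c146 : allBelow (fun k => fq0 (Nat.add 32704 k)) 224 = true := by decide +kernel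
theorem q0u146 : ∀ i, i < 32928 → fq0 i = true := below_step fq0 32704 224 32928 q0u145 q0c146 rfl
theorem q0c147 : allBelow (fun k => fq0 (Nat.add 32928 k)) 224 = true := by decide +kernel
theorem q0u147 : ∀ i, i < 33152 → fq0 i = true := below_step fq0 32928 224 33152 q0u146 q0c147 rfl
theorem q0c148 : allBelow (fun k => fq0 (Nat.add 33152 k)) 224 = true := by decide +kernel
theorem q0u148 : ∀ i, i < 33376 → fq0 i = true := below_step fq0 33152 224 33376 q0u147 q0c148 rfl
theorem q0c149 : allBelow (fun k => fq0 (Nat.add 33376 k)) 224 = true := by decide +kernel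
theorem q0u149 : ∀ i, i < 33600 → fq0 i = true := below_step fq0 33376 224 33600 q0u148 q0c149 rfl
theorem q0c150 : allBelow (fun k => fq0 (Nat.add 33600 k)) 224 = true := by decide +kernel
theorem q0u150 : ∀ i, i < 33824 → fq0 i = true := below_step fq0 33600 224 33824 q0u149 q0c150 rfl
theorem q0c151 : allBelow (fun k => fq0 (Nat.add 33824 k)) 224 = true := by decide +kernel
theorem q0u151 : ∀ i, i < 34048 → fq0 i = true := below_step fq0 33824 224 34048 q0u150 q0c151 rfl
theorem q0c152 : allBelow (fun k => fq0 (Nat.add 34048 k)) 224 = true := by decide +kernel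
theorem q0u152 : ∀ i, i < 34272 → fq0 i = true := below_step fq0 34048 224 34272 q0u151 q0c152 rfl
theorem q0c153 : allBelow (fun k => fq0 (Nat.add 34272 k)) 224 = true := by decide +kernel
theorem q0u153 : ∀ i, i < 34496 → fq0 i = true := below_step fq0 34272 224 34496 q0u152 q0c153 rfl
theorem q0c154 : allBelow (fun k => fq0 (Nat.add 34496 k)) 224 = true := by decide +kernel
theorem q0u154 : ∀ i, i < 34720 → fq0 i = true := below_step fq0 34496 224 34720 q0u153 q0c154 rfl
theorem q0c155 : allBelow (fun k => fq0 (Nat.add 34720 k)) 224 = true := by decide +kernel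
theorem q0u155 : ∀ i, i < 34944 → fq0 i = true := below_step fq0 34720 224 34944 q0u154 q0c155 rfl
theorem q0c156 : allBelow (fun k => fq0 (Nat.add 34944 k)) 224 = true := by decide +kernel
theorem q0u156 : ∀ i, i < 35168 → fq0 i = true := below_step fq0 34944 224 35168 q0u155 q0c156 rfl
theorem q0c157 : allBelow (fun k => fq0 (Nat.add 35168 k)) 224 = true := by decide +kernel
theorem q0u157 : ∀ i, i < 35392 → fq0 i = true := below_step fq0 35168 224 35392 q0u156 q0c157 rfl
theorem q0c158 : allBelow (fun k => fq0 (Nat.add 35392 k)) 224 = true := by decide +kernel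
theorem q0u158 : ∀ i, i < 35616 → fq0 i = true := below_step fq0 35392 224 35616 q0u157 q0c158 rfl
theorem q0c159 : allBelow (fun k => fq0 (Nat.add 35616 k)) 224 = true := by decide +kernel
theorem q0u159 : ∀ i, i < 35840 → fq0 i = true := below_step fq0 35616 224 35840 q0u158 q0c159 rfl
theorem q0c160 : allBelow (fun k => fq0 (Nat.add 35840 k)) 224 = true := by decide +kernel
theorem q0u160 : ∀ i, i < 36064 → fq0 i = true := below_step fq0 35840 224 36064 q0u159 q0c160 rfl
theorem q0c161 : allBelow (fun k => fq0 (Nat.add 36064 k)) 224 = true := by decide +kernel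
theorem q0u161 : ∀ i, i < 36288 → fq0 i = true := below_step fq0 36064 224 36288 q0u160 q0c161 rfl
theorem q0c162 : allBelow (fun k => fq0 (Nat.add 36288 k)) 224 = true := by decide +kernel
theorem q0u162 : ∀ i, i < 36512 → fq0 i = true := below_step fq0 36288 224 36512 q0u161 q0c162 rfl
theorem q0c163 : allBelow (fun k => fq0 (Nat.add 36512 k)) 224 = true := by decide +kernel
theorem q0u163 : ∀ i, i < 36736 → fq0 i = true := below_step fq0 36512 224 36736 q0u162 q0c163 rfl
theorem q0c164 : allBelow (fun k => fq0 (Nat.add 36736 k)) 224 = true := by decide +kernel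
theorem q0u164 : ∀ i, i < 36960 → fq0 i = true := below_step fq0 36736 224 36960 q0u163 q0c164 rfl
theorem q0c165 : allBelow (fun k => fq0 (Nat.add 36960 k)) 224 = true := by decide +kernel
theorem q0u165 : ∀ i, i < 37184 → fq0 i = true := below_step fq0 36960 224 37184 q0u164 q0c165 rfl
theorem q0c166 : allBelow (fun k => fq0 (Nat.add 37184 k)) 224 = true := by decide +kernel
theorem q0u166 : ∀ i, i < 37408 → fq0 i = true := below_step fq0 37184 224 37408 q0u165 q0c166 rfl
theorem q0c167 : allBelow (fun k => fq0 (Nat.add 37408 k)) 224 = true := by decide +kernel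
theorem q0u167 : ∀ i, i < 37632 → fq0 i = true := below_step fq0 37408 224 37632 q0u166 q0c167 rfl
theorem q0c168 : allBelow (fun k => fq0 (Nat.add 37632 k)) 224 = true := by decide +kernel
theorem q0u168 : ∀ i, i < 37856 → fq0 i = true := below_step fq0 37632 224 37856 q0u167 q0c168 rfl
theorem q0c169 : allBelow (fun k => fq0 (Nat.add 37856 k)) 224 = true := by decide +kernel
theorem q0u169 : ∀ i, i < 38080 → fq0 i = true := below_step fq0 37856 224 38080 q0u168 q0c169 rfl
theorem q0c170 : allBelow (fun k => fq0 (Nat.add 38080 k)) 224 = true := by decide +kernel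
theorem q0u170 : ∀ i, i < 38304 → fq0 i = true := below_step fq0 38080 224 38304 q0u169 q0c170 rfl
theorem q0c171 : allBelow (fun k => fq0 (Nat.add 38304 k)) 224 = true := by decide +kernel
theorem q0u171 : ∀ i, i < 38528 → fq0 i = true := below_step fq0 38304 224 38528 q0u170 q0c171 rfl
theorem q0c172 : allBelow (fun k => fq0 (Nat.add 38528 k)) 224 = true := by decide +kernel
theorem q0u172 : ∀ i, i < 38752 → fq0 i = true := below_step fq0 38528 224 38752 q0u171 q0c172 rfl
theorem q0c173 : allBelow (fun k => fq0 (Nat.add 38752 k)) 224 = true := by decide +kernel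
theorem q0u173 : ∀ i, i < 38976 → fq0 i = true := below_step fq0 38752 224 38976 q0u172 q0c173 rfl
theorem q0c174 : allBelow (fun k => fq0 (Nat.add 38976 k)) 224 = true := by decide +kernel
theorem q0u174 : ∀ i, i < 39200 → fq0 i = true := below_step fq0 38976 224 39200 q0u173 q0c174 rfl
theorem q0c175 : allBelow (fun k => fq0 (Nat.add 39200 k)) 224 = true := by decide +kernel
theorem q0u175 : ∀ i, i < 39424 → fq0 i = true := below_step fq0 39200 224 39424 q0u174 q0c175 rfl
theorem q0c176 : allBelow (fun k => fq0 (Nat.add 39424 k)) 224 = true := by decide +kernel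
theorem q0u176 : ∀ i, i < 39648 → fq0 i = true := below_step fq0 39424 224 39648 q0u175 q0c176 rfl
theorem q0c177 : allBelow (fun k => fq0 (Nat.add 39648 k)) 224 = true := by decide +kernel
theorem q0u177 : ∀ i, i < 39872 → fq0 i = true := below_step fq0 39648 224 39872 q0u176 q0c177 rfl
theorem q0c178 : allBelow (fun k => fq0 (Nat.add 39872 k)) 224 = true := by decide +kernel
theorem q0u178 : ∀ i, i < 40096 → fq0 i = true := below_step fq0 39872 224 40096 q0u177 q0c178 rfl
theorem q0c179 : allBelow (fun k => fq0 (Nat.add 40096 k)) 224 = true := by decide +kernel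
theorem q0u179 : ∀ i, i < 40320 → fq0 i = true := below_step fq0 40096 224 40320 q0u178 q0c179 rfl
theorem q0c180 : allBelow (fun k => fq0 (Nat.add 40320 k)) 224 = true := by decide +kernel
theorem q0u180 : ∀ i, i < 40544 → fq0 i = true := below_step fq0 40320 224 40544 q0u179 q0c180 rfl
theorem q0c181 : allBelow (fun k => fq0 (Nat.add 40544 k)) 224 = true := by decide +kernel
theorem q0u181 : ∀ i, i < 40768 → fq0 i = true := below_step fq0 40544 224 40768 q0u180 q0c181 rfl
theorem q0c182 : allBelow (fun k => fq0 (Nat.add 40768 k)) 224 = true := by decide +kernel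
theorem q0u182 : ∀ i, i < 40992 → fq0 i = true := below_step fq0 40768 224 40992 q0u181 q0c182 rfl
theorem q0c183 : allBelow (fun k => fq0 (Nat.add 40992 k)) 224 = true := by decide +kernel
theorem q0u183 : ∀ i, i < 41216 → fq0 i = true := below_step fq0 40992 224 41216 q0u182 q0c183 rfl
theorem q0c184 : allBelow (fun k => fq0 (Nat.add 41216 k)) 224 = true := by decide +kernel
theorem q0u184 : ∀ i, i < 41440 → fq0 i = true := below_step fq0 41216 224 41440 q0u183 q0c184 rfl
theorem q0c185 : allBelow (fun k => fq0 (Nat.add 41440 k)) 224 = true := by decide +kernel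
theorem q0u185 : ∀ i, i < 41664 → fq0 i = true := below_step fq0 41440 224 41664 q0u184 q0c185 rfl
theorem q0c186 : allBelow (fun k => fq0 (Nat.add 41664 k)) 224 = true := by decide +kernel
theorem q0u186 : ∀ i, i < 41888 → fq0 i = true := below_step fq0 41664 224 41888 q0u185 q0c186 rfl
theorem q0c187 : allBelow (fun k => fq0 (Nat.add 41888 k)) 224 = true := by decide +kernel
theorem q0u187 : ∀ i, i < 42112 → fq0 i = true := below_step fq0 41888 224 42112 q0u186 q0c187 rfl
theorem q0c188 : allBelow (fun k => fq0 (Nat.add 42112 k)) 224 = true := by decide +kernel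
theorem q0u188 : ∀ i, i < 42336 → fq0 i = true := below_step fq0 42112 224 42336 q0u187 q0c188 rfl
theorem q0c189 : allBelow (fun k => fq0 (Nat.add 42336 k)) 224 = true := by decide +kernel
theorem q0u189 : ∀ i, i < 42560 → fq0 i = true := below_step fq0 42336 224 42560 q0u188 q0c189 rfl
theorem q0c190 : allBelow (fun k => fq0 (Nat.add 42560 k)) 224 = true := by decide +kernel
theorem q0u190 : ∀ i, i < 42784 → fq0 i = true := below_step fq0 42560 224 42784 q0u189 q0c190 rfl
theorem q0c191 : allBelow (fun k => fq0 (Nat.add 42784 k)) 224 = true := by decide +kernel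
theorem q0u191 : ∀ i, i < 43008 → fq0 i = true := below_step fq0 42784 224 43008 q0u190 q0c191 rfl
theorem q0c192 : allBelow (fun k => fq0 (Nat.add 43008 k)) 224 = true := by decide +kernel
theorem q0u192 : ∀ i, i < 43232 → fq0 i = true := below_step fq0 43008 224 43232 q0u191 q0c192 rfl
theorem q0c193 : allBelow (fun k => fq0 (Nat.add 43232 k)) 224 = true := by decide +kernel
theorem q0u193 : ∀ i, i < 43456 → fq0 i = true := below_step fq0 43232 224 43456 q0u192 q0c193 rfl
theorem q0c194 : allBelow (fun k => fq0 (Nat.add 43456 k)) 224 = true := by decide +kernel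
theorem q0u194 : ∀ i, i < 43680 → fq0 i = true := below_step fq0 43456 224 43680 q0u193 q0c194 rfl
theorem q0c195 : allBelow (fun k => fq0 (Nat.add 43680 k)) 224 = true := by decide +kernel
theorem q0u195 : ∀ i, i < 43904 → fq0 i = true := below_step fq0 43680 224 43904 q0u194 q0c195 rfl
theorem q0c196 : allBelow (fun k => fq0 (Nat.add 43904 k)) 224 = true := by decide +kernel
theorem q0u196 : ∀ i, i < 44128 → fq0 i = true := below_step fq0 43904 224 44128 q0u195 q0c196 rfl
theorem q0c197 : allBelow (fun k => fq0 (Nat.add 44128 k)) 224 = true := by decide +kernel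
theorem q0u197 : ∀ i, i < 44352 → fq0 i = true := below_step fq0 44128 224 44352 q0u196 q0c197 rfl
theorem q0c198 : allBelow (fun k => fq0 (Nat.add 44352 k)) 224 = true := by decide +kernel
theorem q0u198 : ∀ i, i < 44576 → fq0 i = true := below_step fq0 44352 224 44576 q0u197 q0c198 rfl
theorem q0c199 : allBelow (fun k => fq0 (Nat.add 44576 k)) 224 = true := by decide +kernel
theorem q0u199 : ∀ i, i < 44800 → fq0 i = true := below_step fq0 44576 224 44800 q0u198 q0c199 rfl
theorem q0c200 : allBelow (fun k => fq0 (Nat.add 44800 k)) 224 = true := by decide +kernel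
theorem q0u200 : ∀ i, i < 45024 → fq0 i = true := below_step fq0 44800 224 45024 q0u199 q0c200 rfl
theorem q0c201 : allBelow (fun k => fq0 (Nat.add 45024 k)) 224 = true := by decide +kernel
theorem q0u201 : ∀ i, i < 45248 → fq0 i = true := below_step fq0 45024 224 45248 q0u200 q0c201 rfl
theorem q0c202 : allBelow (fun k => fq0 (Nat.add 45248 k)) 224 = true := by decide +kernel
theorem q0u202 : ∀ i, i < 45472 → fq0 i = true := below_step fq0 45248 224 45472 q0u201 q0c202 rfl
theorem q0c203 : allBelow (fun k => fq0 (Nat.add 45472 k)) 224 = true := by decide +kernel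
theorem q0u203 : ∀ i, i < 45696 → fq0 i = true := below_step fq0 45472 224 45696 q0u202 q0c203 rfl
theorem q0c204 : allBelow (fun k => fq0 (Nat.add 45696 k)) 224 = true := by decide +kernel
theorem q0u204 : ∀ i, i < 45920 → fq0 i = true := below_step fq0 45696 224 45920 q0u203 q0c204 rfl
theorem q0c205 : allBelow (fun k => fq0 (Nat.add 45920 k)) 224 = true := by decide +kernel
theorem q0u205 : ∀ i, i < 46144 → fq0 i = true := below_step fq0 45920 224 46144 q0u204 q0c205 rfl
theorem q0c206 : allBelow (fun k => fq0 (Nat.add 46144 k)) 224 = true := by decide +kernel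
theorem q0u206 : ∀ i, i < 46368 → fq0 i = true := below_step fq0 46144 224 46368 q0u205 q0c206 rfl
theorem q0c207 : allBelow (fun k => fq0 (Nat.add 46368 k)) 224 = true := by decide +kernel
theorem q0u207 : ∀ i, i < 46592 → fq0 i = true := below_step fq0 46368 224 46592 q0u206 q0c207 rfl
theorem q0c208 : allBelow (fun k => fq0 (Nat.add 46592 k)) 224 = true := by decide +kernel
theorem q0u208 : ∀ i, i < 46816 → fq0 i = true := below_step fq0 46592 224 46816 q0u207 q0c208 rfl
theorem q0c209 : allBelow (fun k => fq0 (Nat.add 46816 k)) 224 = true := by decide +kernel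
theorem q0u209 : ∀ i, i < 47040 → fq0 i = true := below_step fq0 46816 224 47040 q0u208 q0c209 rfl
theorem q0c210 : allBelow (fun k => fq0 (Nat.add 47040 k)) 224 = true := by decide +kernel
theorem q0u210 : ∀ i, i < 47264 → fq0 i = true := below_step fq0 47040 224 47264 q0u209 q0c210 rfl
theorem q0c211 : allBelow (fun k => fq0 (Nat.add 47264 k)) 224 = true := by decide +kernel
theorem q0u211 : ∀ i, i < 47488 → fq0 i = true := below_step fq0 47264 224 47488 q0u210 q0c211 rfl
theorem q0c212 : allBelow (fun k => fq0 (Nat.add 47488 k)) 224 = true := by decide +kernel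
theorem q0u212 : ∀ i, i < 47712 → fq0 i = true := below_step fq0 47488 224 47712 q0u211 q0c212 rfl
theorem q0c213 : allBelow (fun k => fq0 (Nat.add 47712 k)) 224 = true := by decide +kernel
theorem q0u213 : ∀ i, i < 47936 → fq0 i = true := below_step fq0 47712 224 47936 q0u212 q0c213 rfl
theorem q0c214 : allBelow (fun k => fq0 (Nat.add 47936 k)) 224 = true := by decide +kernel
theorem q0u214 : ∀ i, i < 48160 → fq0 i = true := below_step fq0 47936 224 48160 q0u213 q0c214 rfl
theorem q0c215 : allBelow (fun k => fq0 (Nat.add 48160 k)) 224 = true := by decide +kernel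
theorem q0u215 : ∀ i, i < 48384 → fq0 i = true := below_step fq0 48160 224 48384 q0u214 q0c215 rfl
theorem q0c216 : allBelow (fun k => fq0 (Nat.add 48384 k)) 224 = true := by decide +kernel
theorem q0u216 : ∀ i, i < 48608 → fq0 i = true := below_step fq0 48384 224 48608 q0u215 q0c216 rfl
theorem q0c217 : allBelow (fun k => fq0 (Nat.add 48608 k)) 224 = true := by decide +kernel
theorem q0u217 : ∀ i, i < 48832 → fq0 i = true := below_step fq0 48608 224 48832 q0u216 q0c217 rfl
theorem q0c218 : allBelow (fun k => fq0 (Nat.add 48832 k)) 224 = true := by decide +kernel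
theorem q0u218 : ∀ i, i < 49056 → fq0 i = true := below_step fq0 48832 224 49056 q0u217 q0c218 rfl
theorem q0c219 : allBelow (fun k => fq0 (Nat.add 49056 k)) 224 = true := by decide +kernel
theorem q0u219 : ∀ i, i < 49280 → fq0 i = true := below_step fq0 49056 224 49280 q0u218 q0c219 rfl
theorem q0c220 : allBelow (fun k => fq0 (Nat.add 49280 k)) 224 = true := by decide +kernel
theorem q0u220 : ∀ i, i < 49504 → fq0 i = true := below_step fq0 49280 224 49504 q0u219 q0c220 rfl
theorem q0c221 : allBelow (fun k => fq0 (Nat.add 49504 k)) 224 = true := by decide +kernel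
theorem q0u221 : ∀ i, i < 49728 → fq0 i = true := below_step fq0 49504 224 49728 q0u220 q0c221 rfl
theorem q0c222 : allBelow (fun k => fq0 (Nat.add 49728 k)) 224 = true := by decide +kernel
theorem q0u222 : ∀ i, i < 49952 → fq0 i = true := below_step fq0 49728 224 49952 q0u221 q0c222 rfl
theorem q0c223 : allBelow (fun k => fq0 (Nat.add 49952 k)) 224 = true := by decide +kernel
theorem q0u223 : ∀ i, i < 50176 → fq0 i = true := below_step fq0 49952 224 50176 q0u222 q0c223 rfl
theorem q0c224 : allBelow (fun k => fq0 (Nat.add 50176 k)) 224 = true := by decide +kernel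
theorem q0u224 : ∀ i, i < 50400 → fq0 i = true := below_step fq0 50176 224 50400 q0u223 q0c224 rfl
theorem q0c225 : allBelow (fun k => fq0 (Nat.add 50400 k)) 224 = true := by decide +kernel
theorem q0u225 : ∀ i, i < 50624 → fq0 i = true := below_step fq0 50400 224 50624 q0u224 q0c225 rfl
theorem q0c226 : allBelow (fun k => fq0 (Nat.add 50624 k)) 224 = true := by decide +kernel
theorem q0u226 : ∀ i, i < 50848 → fq0 i = true := below_step fq0 50624 224 50848 q0u225 q0c226 rfl
theorem q0c227 : allBelow (fun k => fq0 (Nat.add 50848 k)) 224 = true := by decide +kernel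
theorem q0u227 : ∀ i, i < 51072 → fq0 i = true := below_step fq0 50848 224 51072 q0u226 q0c227 rfl
theorem q0c228 : allBelow (fun k => fq0 (Nat.add 51072 k)) 224 = true := by decide +kernel
theorem q0u228 : ∀ i, i < 51296 → fq0 i = true := below_step fq0 51072 224 51296 q0u227 q0c228 rfl
theorem q0c229 : allBelow (fun k => fq0 (Nat.add 51296 k)) 224 = true := by decide +kernel
theorem q0u229 : ∀ i, i < 51520 → fq0 i = true := below_step fq0 51296 224 51520 q0u228 q0c229 rfl
theorem q0c230 : allBelow (fun k => fq0 (Nat.add 51520 k)) 224 = true := by decide +kernel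
theorem q0u230 : ∀ i, i < 51744 → fq0 i = true := below_step fq0 51520 224 51744 q0u229 q0c230 rfl
theorem q0c231 : allBelow (fun k => fq0 (Nat.add 51744 k)) 224 = true := by decide +kernel
theorem q0u231 : ∀ i, i < 51968 → fq0 i = true := below_step fq0 51744 224 51968 q0u230 q0c231 rfl
theorem q0c232 : allBelow (fun k => fq0 (Nat.add 51968 k)) 224 = true := by decide +kernel
theorem q0u232 : ∀ i, i < 52192 → fq0 i = true := below_step fq0 51968 224 52192 q0u231 q0c232 rfl
theorem q0c233 : allBelow (fun k => fq0 (Nat.add 52192 k)) 224 = true := by decide +kernel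
theorem q0u233 : ∀ i, i < 52416 → fq0 i = true := below_step fq0 52192 224 52416 q0u232 q0c233 rfl
theorem q0c234 : allBelow (fun k => fq0 (Nat.add 52416 k)) 224 = true := by decide +kernel
theorem q0u234 : ∀ i, i < 52640 → fq0 i = true := below_step fq0 52416 224 52640 q0u233 q0c234 rfl
theorem q0c235 : allBelow (fun k => fq0 (Nat.add 52640 k)) 224 = true := by decide +kernel
theorem q0u235 : ∀ i, i < 52864 → fq0 i = true := below_step fq0 52640 224 52864 q0u234 q0c235 rfl
theorem q0c236 : allBelow (fun k => fq0 (Nat.add 52864 k)) 224 = true := by decide +kernel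
theorem q0u236 : ∀ i, i < 53088 → fq0 i = true := below_step fq0 52864 224 53088 q0u235 q0c236 rfl
theorem q0c237 : allBelow (fun k => fq0 (Nat.add 53088 k)) 224 = true := by decide +kernel
theorem q0u237 : ∀ i, i < 53312 → fq0 i = true := below_step fq0 53088 224 53312 q0u236 q0c237 rfl
theorem q0c238 : allBelow (fun k => fq0 (Nat.add 53312 k)) 224 = true := by decide +kernel
theorem q0u238 : ∀ i, i < 53536 → fq0 i = true := below_step fq0 53312 224 53536 q0u237 q0c238 rfl
theorem q0c239 : allBelow (fun k => fq0 (Nat.add 53536 k)) 224 = true := by decide +kernel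
theorem q0u239 : ∀ i, i < 53760 → fq0 i = true := below_step fq0 53536 224 53760 q0u238 q0c239 rfl
theorem q0c240 : allBelow (fun k => fq0 (Nat.add 53760 k)) 224 = true := by decide +kernel
theorem q0u240 : ∀ i, i < 53984 → fq0 i = true := below_step fq0 53760 224 53984 q0u239 q0c240 rfl
theorem q0c241 : allBelow (fun k => fq0 (Nat.add 53984 k)) 224 = true := by decide +kernel
theorem q0u241 : ∀ i, i < 54208 → fq0 i = true := below_step fq0 53984 224 54208 q0u240 q0c241 rfl
theorem q0c242 : allBelow (fun k => fq0 (Nat.add 54208 k)) 224 = true := by decide +kernel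
theorem q0u242 : ∀ i, i < 54432 → fq0 i = true := below_step fq0 54208 224 54432 q0u241 q0c242 rfl
theorem q0c243 : allBelow (fun k => fq0 (Nat.add 54432 k)) 224 = true := by decide +kernel
theorem q0u243 : ∀ i, i < 54656 → fq0 i = true := below_step fq0 54432 224 54656 q0u242 q0c243 rfl
theorem q0c244 : allBelow (fun k => fq0 (Nat.add 54656 k)) 224 = true := by decide +kernel
theorem q0u244 : ∀ i, i < 54880 → fq0 i = true := below_step fq0 54656 224 54880 q0u243 q0c244 rfl
theorem q0c245 : allBelow (fun k => fq0 (Nat.add 54880 k)) 224 = true := by decide +kernel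
theorem q0u245 : ∀ i, i < 55104 → fq0 i = true := below_step fq0 54880 224 55104 q0u244 q0c245 rfl
theorem q0c246 : allBelow (fun k => fq0 (Nat.add 55104 k)) 224 = true := by decide +kernel
theorem q0u246 : ∀ i, i < 55328 → fq0 i = true := below_step fq0 55104 224 55328 q0u245 q0c246 rfl
theorem q0c247 : allBelow (fun k => fq0 (Nat.add 55328 k)) 224 = true := by decide +kernel
theorem q0u247 : ∀ i, i < 55552 → fq0 i = true := below_step fq0 55328 224 55552 q0u246 q0c247 rfl
theorem q0c248 : allBelow (fun k => fq0 (Nat.add 55552 k)) 224 = true := by decide +kernel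
theorem q0u248 : ∀ i, i < 55776 → fq0 i = true := below_step fq0 55552 224 55776 q0u247 q0c248 rfl
theorem q0c249 : allBelow (fun k => fq0 (Nat.add 55776 k)) 224 = true := by decide +kernel
theorem q0u249 : ∀ i, i < 56000 → fq0 i = true := below_step fq0 55776 224 56000 q0u248 q0c249 rfl
theorem q0c250 : allBelow (fun k => fq0 (Nat.add 56000 k)) 224 = true := by decide +kernel
theorem q0u250 : ∀ i, i < 56224 → fq0 i = true := below_step fq0 56000 224 56224 q0u249 q0c250 rfl
theorem q0c251 : allBelow (fun k => fq0 (Nat.add 56224 k)) 224 = true := by decide +kernel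
theorem q0u251 : ∀ i, i < 56448 → fq0 i = true := below_step fq0 56224 224 56448 q0u250 q0c251 rfl
theorem q0c252 : allBelow (fun k => fq0 (Nat.add 56448 k)) 224 = true := by decide +kernel
theorem q0u252 : ∀ i, i < 56672 → fq0 i = true := below_step fq0 56448 224 56672 q0u251 q0c252 rfl
theorem q0c253 : allBelow (fun k => fq0 (Nat.add 56672 k)) 224 = true := by decide +kernel
theorem q0u253 : ∀ i, i < 56896 → fq0 i = true := below_step fq0 56672 224 56896 q0u252 q0c253 rfl
theorem q0c254 : allBelow (fun k => fq0 (Nat.add 56896 k)) 224 = true := by decide +kernel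
theorem q0u254 : ∀ i, i < 57120 → fq0 i = true := below_step fq0 56896 224 57120 q0u253 q0c254 rfl
theorem q0c255 : allBelow (fun k => fq0 (Nat.add 57120 k)) 224 = true := by decide +kernel
theorem q0u255 : ∀ i, i < 57344 → fq0 i = true := below_step fq0 57120 224 57344 q0u254 q0c255 rfl
theorem q0c256 : allBelow (fun k => fq0 (Nat.add 57344 k)) 224 = true := by decide +kernel
theorem q0u256 : ∀ i, i < 57568 → fq0 i = true := below_step fq0 57344 224 57568 q0u255 q0c256 rfl
theorem q0c257 : allBelow (fun k => fq0 (Nat.add 57568 k)) 224 = true := by decide +kernel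
theorem q0u257 : ∀ i, i < 57792 → fq0 i = true := below_step fq0 57568 224 57792 q0u256 q0c257 rfl
theorem q0c258 : allBelow (fun k => fq0 (Nat.add 57792 k)) 224 = true := by decide +kernel
theorem q0u258 : ∀ i, i < 58016 → fq0 i = true := below_step fq0 57792 224 58016 q0u257 q0c258 rfl
theorem q0c259 : allBelow (fun k => fq0 (Nat.add 58016 k)) 224 = true := by decide +kernel
theorem q0u259 : ∀ i, i < 58240 → fq0 i = true := below_step fq0 58016 224 58240 q0u258 q0c259 rfl
theorem q0c260 : allBelow (fun k => fq0 (Nat.add 58240 k)) 224 = true := by decide +kernel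
theorem q0u260 : ∀ i, i < 58464 → fq0 i = true := below_step fq0 58240 224 58464 q0u259 q0c260 rfl
theorem q0c261 : allBelow (fun k => fq0 (Nat.add 58464 k)) 224 = true := by decide +kernel
theorem q0u261 : ∀ i, i < 58688 → fq0 i = true := below_step fq0 58464 224 58688 q0u260 q0c261 rfl
theorem q0c262 : allBelow (fun k => fq0 (Nat.add 58688 k)) 224 = true := by decide +kernel
theorem q0u262 : ∀ i, i < 58912 → fq0 i = true := below_step fq0 58688 224 58912 q0u261 q0c262 rfl
theorem q0c263 : allBelow (fun k => fq0 (Nat.add 58912 k)) 224 = true := by decide +kernel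
theorem q0u263 : ∀ i, i < 59136 → fq0 i = true := below_step fq0 58912 224 59136 q0u262 q0c263 rfl
theorem q0c264 : allBelow (fun k => fq0 (Nat.add 59136 k)) 224 = true := by decide +kernel
theorem q0u264 : ∀ i, i < 59360 → fq0 i = true := below_step fq0 59136 224 59360 q0u263 q0c264 rfl
theorem q0c265 : allBelow (fun k => fq0 (Nat.add 59360 k)) 224 = true := by decide +kernel
theorem q0u265 : ∀ i, i < 59584 → fq0 i = true := below_step fq0 59360 224 59584 q0u264 q0c265 rfl
theorem q0c266 : allBelow (fun k => fq0 (Nat.add 59584 k)) 224 = true := by decide +kernel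
theorem q0u266 : ∀ i, i < 59808 → fq0 i = true := below_step fq0 59584 224 59808 q0u265 q0c266 rfl
theorem q0c267 : allBelow (fun k => fq0 (Nat.add 59808 k)) 224 = true := by decide +kernel
theorem q0u267 : ∀ i, i < 60032 → fq0 i = true := below_step fq0 59808 224 60032 q0u266 q0c267 rfl
theorem q0c268 : allBelow (fun k => fq0 (Nat.add 60032 k)) 224 = true := by decide +kernel
theorem q0u268 : ∀ i, i < 60256 → fq0 i = true := below_step fq0 60032 224 60256 q0u267 q0c268 rfl
theorem q0c269 : allBelow (fun k => fq0 (Nat.add 60256 k)) 224 = true := by decide +kernel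
theorem q0u269 : ∀ i, i < 60480 → fq0 i = true := below_step fq0 60256 224 60480 q0u268 q0c269 rfl
theorem q0c270 : allBelow (fun k => fq0 (Nat.add 60480 k)) 224 = true := by decide +kernel
theorem q0u270 : ∀ i, i < 60704 → fq0 i = true := below_step fq0 60480 224 60704 q0u269 q0c270 rfl
theorem q0c271 : allBelow (fun k => fq0 (Nat.add 60704 k)) 224 = true := by decide +kernel
theorem q0u271 : ∀ i, i < 60928 → fq0 i = true := below_step fq0 60704 224 60928 q0u270 q0c271 rfl
theorem q0c272 : allBelow (fun k => fq0 (Nat.add 60928 k)) 224 = true := by decide +kernel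
theorem q0u272 : ∀ i, i < 61152 → fq0 i = true := below_step fq0 60928 224 61152 q0u271 q0c272 rfl
theorem q0c273 : allBelow (fun k => fq0 (Nat.add 61152 k)) 224 = true := by decide +kernel
theorem q0u273 : ∀ i, i < 61376 → fq0 i = true := below_step fq0 61152 224 61376 q0u272 q0c273 rfl
theorem q0c274 : allBelow (fun k => fq0 (Nat.add 61376 k)) 224 = true := by decide +kernel
theorem q0u274 : ∀ i, i < 61600 → fq0 i = true := below_step fq0 61376 224 61600 q0u273 q0c274 rfl
theorem q0c275 : allBelow (fun k => fq0 (Nat.add 61600 k)) 224 = true := by decide +kernel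
theorem q0u275 : ∀ i, i < 61824 → fq0 i = true := below_step fq0 61600 224 61824 q0u274 q0c275 rfl
theorem q0c276 : allBelow (fun k => fq0 (Nat.add 61824 k)) 224 = true := by decide +kernel
theorem q0u276 : ∀ i, i < 62048 → fq0 i = true := below_step fq0 61824 224 62048 q0u275 q0c276 rfl
theorem q0c277 : allBelow (fun k => fq0 (Nat.add 62048 k)) 224 = true := by decide +kernel
theorem q0u277 : ∀ i, i < 62272 → fq0 i = true := below_step fq0 62048 224 62272 q0u276 q0c277 rfl
theorem q0c278 : allBelow (fun k => fq0 (Nat.add 62272 k)) 224 = true := by decide +kernel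
theorem q0u278 : ∀ i, i < 62496 → fq0 i = true := below_step fq0 62272 224 62496 q0u277 q0c278 rfl
theorem q0c279 : allBelow (fun k => fq0 (Nat.add 62496 k)) 224 = true := by decide +kernel
theorem q0u279 : ∀ i, i < 62720 → fq0 i = true := below_step fq0 62496 224 62720 q0u278 q0c279 rfl
theorem q0c280 : allBelow (fun k => fq0 (Nat.add 62720 k)) 224 = true := by decide +kernel
theorem q0u280 : ∀ i, i < 62944 → fq0 i = true := below_step fq0 62720 224 62944 q0u279 q0c280 rfl
theorem q0c281 : allBelow (fun k => fq0 (Nat.add 62944 k)) 224 = true := by decide +kernel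
theorem q0u281 : ∀ i, i < 63168 → fq0 i = true := below_step fq0 62944 224 63168 q0u280 q0c281 rfl
theorem q0c282 : allBelow (fun k => fq0 (Nat.add 63168 k)) 224 = true := by decide +kernel
theorem q0u282 : ∀ i, i < 63392 → fq0 i = true := below_step fq0 63168 224 63392 q0u281 q0c282 rfl
theorem q0c283 : allBelow (fun k => fq0 (Nat.add 63392 k)) 224 = true := by decide +kernel
theorem q0u283 : ∀ i, i < 63616 → fq0 i = true := below_step fq0 63392 224 63616 q0u282 q0c283 rfl
theorem q0c284 : allBelow (fun k => fq0 (Nat.add 63616 k)) 224 = true := by decide +kernel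
theorem q0u284 : ∀ i, i < 63840 → fq0 i = true := below_step fq0 63616 224 63840 q0u283 q0c284 rfl
theorem q0c285 : allBelow (fun k => fq0 (Nat.add 63840 k)) 224 = true := by decide +kernel
theorem q0u285 : ∀ i, i < 64064 → fq0 i = true := below_step fq0 63840 224 64064 q0u284 q0c285 rfl
theorem q0c286 : allBelow (fun k => fq0 (Nat.add 64064 k)) 224 = true := by decide +kernel
theorem q0u286 : ∀ i, i < 64288 → fq0 i = true := below_step fq0 64064 224 64288 q0u285 q0c286 rfl
theorem q0c287 : allBelow (fun k => fq0 (Nat.add 64288 k)) 224 = true := by decide +kernel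
theorem q0u287 : ∀ i, i < 64512 → fq0 i = true := below_step fq0 64288 224 64512 q0u286 q0c287 rfl
theorem q0c288 : allBelow (fun k => fq0 (Nat.add 64512 k)) 224 = true := by decide +kernel
theorem q0u288 : ∀ i, i < 64736 → fq0 i = true := below_step fq0 64512 224 64736 q0u287 q0c288 rfl
theorem q0c289 : allBelow (fun k => fq0 (Nat.add 64736 k)) 224 = true := by decide +kernel
theorem q0u289 : ∀ i, i < 64960 → fq0 i = true := below_step fq0 64736 224 64960 q0u288 q0c289 rfl
theorem q0c290 : allBelow (fun k => fq0 (Nat.add 64960 k)) 224 = true := by decide +kernel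
theorem q0u290 : ∀ i, i < 65184 → fq0 i = true := below_step fq0 64960 224 65184 q0u289 q0c290 rfl
theorem q0c291 : allBelow (fun k => fq0 (Nat.add 65184 k)) 224 = true := by decide +kernel
theorem q0u291 : ∀ i, i < 65408 → fq0 i = true := below_step fq0 65184 224 65408 q0u290 q0c291 rfl
theorem q0c292 : allBelow (fun k => fq0 (Nat.add 65408 k)) 224 = true := by decide +kernel
theorem q0u292 : ∀ i, i < 65632 → fq0 i = true := below_step fq0 65408 224 65632 q0u291 q0c292 rfl
theorem q0c293 : allBelow (fun k => fq0 (Nat.add 65632 k)) 224 = true := by decide +kernel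
theorem q0u293 : ∀ i, i < 65856 → fq0 i = true := below_step fq0 65632 224 65856 q0u292 q0c293 rfl
theorem q0c294 : allBelow (fun k => fq0 (Nat.add 65856 k)) 224 = true := by decide +kernel
theorem q0u294 : ∀ i, i < 66080 → fq0 i = true := below_step fq0 65856 224 66080 q0u293 q0c294 rfl
theorem q0c295 : allBelow (fun k => fq0 (Nat.add 66080 k)) 224 = true := by decide +kernel
theorem q0u295 : ∀ i, i < 66304 → fq0 i = true := below_step fq0 66080 224 66304 q0u294 q0c295 rfl
theorem q0c296 : allBelow (fun k => fq0 (Nat.add 66304 k)) 224 = true := by decide +kernel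
theorem q0u296 : ∀ i, i < 66528 → fq0 i = true := below_step fq0 66304 224 66528 q0u295 q0c296 rfl
theorem q0c297 : allBelow (fun k => fq0 (Nat.add 66528 k)) 224 = true := by decide +kernel
theorem q0u297 : ∀ i, i < 66752 → fq0 i = true := below_step fq0 66528 224 66752 q0u296 q0c297 rfl
theorem q0c298 : allBelow (fun k => fq0 (Nat.add 66752 k)) 224 = true := by decide +kernel
theorem q0u298 : ∀ i, i < 66976 → fq0 i = true := below_step fq0 66752 224 66976 q0u297 q0c298 rfl
theorem q0c299 : allBelow (fun k => fq0 (Nat.add 66976 k)) 224 = true := by decide +kernel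
theorem q0u299 : ∀ i, i < 67200 → fq0 i = true := below_step fq0 66976 224 67200 q0u298 q0c299 rfl
theorem q0c300 : allBelow (fun k => fq0 (Nat.add 67200 k)) 224 = true := by decide +kernel
theorem q0u300 : ∀ i, i < 67424 → fq0 i = true := below_step fq0 67200 224 67424 q0u299 q0c300 rfl
theorem q0c301 : allBelow (fun k => fq0 (Nat.add 67424 k)) 224 = true := by decide +kernel
theorem q0u301 : ∀ i, i < 67648 → fq0 i = true := below_step fq0 67424 224 67648 q0u300 q0c301 rfl
theorem q0c302 : allBelow (fun k => fq0 (Nat.add 67648 k)) 224 = true := by decide +kernel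
theorem q0u302 : ∀ i, i < 67872 → fq0 i = true := below_step fq0 67648 224 67872 q0u301 q0c302 rfl
theorem q0c303 : allBelow (fun k => fq0 (Nat.add 67872 k)) 224 = true := by decide +kernel
theorem q0u303 : ∀ i, i < 68096 → fq0 i = true := below_step fq0 67872 224 68096 q0u302 q0c303 rfl
theorem q0c304 : allBelow (fun k => fq0 (Nat.add 68096 k)) 224 = true := by decide +kernel
theorem q0u304 : ∀ i, i < 68320 → fq0 i = true := below_step fq0 68096 224 68320 q0u303 q0c304 rfl
theorem q0c305 : allBelow (fun k => fq0 (Nat.add 68320 k)) 224 = true := by decide +kernel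
theorem q0u305 : ∀ i, i < 68544 → fq0 i = true := below_step fq0 68320 224 68544 q0u304 q0c305 rfl
theorem q0c306 : allBelow (fun k => fq0 (Nat.add 68544 k)) 224 = true := by decide +kernel
theorem q0u306 : ∀ i, i < 68768 → fq0 i = true := below_step fq0 68544 224 68768 q0u305 q0c306 rfl
theorem q0c307 : allBelow (fun k => fq0 (Nat.add 68768 k)) 224 = true := by decide +kernel
theorem q0u307 : ∀ i, i < 68992 → fq0 i = true := below_step fq0 68768 224 68992 q0u306 q0c307 rfl
theorem q0c308 : allBelow (fun k => fq0 (Nat.add 68992 k)) 224 = true := by decide +kernel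
theorem q0u308 : ∀ i, i < 69216 → fq0 i = true := below_step fq0 68992 224 69216 q0u307 q0c308 rfl
theorem q0c309 : allBelow (fun k => fq0 (Nat.add 69216 k)) 224 = true := by decide +kernel
theorem q0u309 : ∀ i, i < 69440 → fq0 i = true := below_step fq0 69216 224 69440 q0u308 q0c309 rfl
theorem q0c310 : allBelow (fun k => fq0 (Nat.add 69440 k)) 224 = true := by decide +kernel
theorem q0u310 : ∀ i, i < 69664 → fq0 i = true := below_step fq0 69440 224 69664 q0u309 q0c310 rfl
theorem q0c311 : allBelow (fun k => fq0 (Nat.add 69664 k)) 224 = true := by decide +kernel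
theorem q0u311 : ∀ i, i < 69888 → fq0 i = true := below_step fq0 69664 224 69888 q0u310 q0c311 rfl
theorem q0c312 : allBelow (fun k => fq0 (Nat.add 69888 k)) 224 = true := by decide +kernel
theorem q0u312 : ∀ i, i < 70112 → fq0 i = true := below_step fq0 69888 224 70112 q0u311 q0c312 rfl
theorem q0c313 : allBelow (fun k => fq0 (Nat.add 70112 k)) 224 = true := by decide +kernel
theorem q0u313 : ∀ i, i < 70336 → fq0 i = true := below_step fq0 70112 224 70336 q0u312 q0c313 rfl
theorem q0c314 : allBelow (fun k => fq0 (Nat.add 70336 k)) 224 = true := by decide +kernel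
theorem q0u314 : ∀ i, i < 70560 → fq0 i = true := below_step fq0 70336 224 70560 q0u313 q0c314 rfl
theorem q0c315 : allBelow (fun k => fq0 (Nat.add 70560 k)) 224 = true := by decide +kernel
theorem q0u315 : ∀ i, i < 70784 → fq0 i = true := below_step fq0 70560 224 70784 q0u314 q0c315 rfl
theorem q0c316 : allBelow (fun k => fq0 (Nat.add 70784 k)) 224 = true := by decide +kernel
theorem q0u316 : ∀ i, i < 71008 → fq0 i = true := below_step fq0 70784 224 71008 q0u315 q0c316 rfl
theorem q0c317 : allBelow (fun k => fq0 (Nat.add 71008 k)) 224 = true := by decide +kernel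
theorem q0u317 : ∀ i, i < 71232 → fq0 i = true := below_step fq0 71008 224 71232 q0u316 q0c317 rfl
theorem q0c318 : allBelow (fun k => fq0 (Nat.add 71232 k)) 224 = true := by decide +kernel
theorem q0u318 : ∀ i, i < 71456 → fq0 i = true := below_step fq0 71232 224 71456 q0u317 q0c318 rfl
theorem q0c319 : allBelow (fun k => fq0 (Nat.add 71456 k)) 224 = true := by decide +kernel
theorem q0u319 : ∀ i, i < 71680 → fq0 i = true := below_step fq0 71456 224 71680 q0u318 q0c319 rfl
theorem q0c320 : allBelow (fun k => fq0 (Nat.add 71680 k)) 224 = true := by decide +kernel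
theorem q0u320 : ∀ i, i < 71904 → fq0 i = true := below_step fq0 71680 224 71904 q0u319 q0c320 rfl
theorem q0c321 : allBelow (fun k => fq0 (Nat.add 71904 k)) 224 = true := by decide +kernel
theorem q0u321 : ∀ i, i < 72128 → fq0 i = true := below_step fq0 71904 224 72128 q0u320 q0c321 rfl
theorem q0c322 : allBelow (fun k => fq0 (Nat.add 72128 k)) 224 = true := by decide +kernel
theorem q0u322 : ∀ i, i < 72352 → fq0 i = true := below_step fq0 72128 224 72352 q0u321 q0c322 rfl
theorem q0c323 : allBelow (fun k => fq0 (Nat.add 72352 k)) 224 = true := by decide +kernel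
theorem q0u323 : ∀ i, i < 72576 → fq0 i = true := below_step fq0 72352 224 72576 q0u322 q0c323 rfl
theorem q0c324 : allBelow (fun k => fq0 (Nat.add 72576 k)) 224 = true := by decide +kernel
theorem q0u324 : ∀ i, i < 72800 → fq0 i = true := below_step fq0 72576 224 72800 q0u323 q0c324 rfl
theorem q0c325 : allBelow (fun k => fq0 (Nat.add 72800 k)) 224 = true := by decide +kernel
theorem q0u325 : ∀ i, i < 73024 → fq0 i = true := below_step fq0 72800 224 73024 q0u324 q0c325 rfl
theorem q0c326 : allBelow (fun k => fq0 (Nat.add 73024 k)) 224 = true := by decide +kernel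
theorem q0u326 : ∀ i, i < 73248 → fq0 i = true := below_step fq0 73024 224 73248 q0u325 q0c326 rfl
theorem q0c327 : allBelow (fun k => fq0 (Nat.add 73248 k)) 224 = true := by decide +kernel
theorem q0u327 : ∀ i, i < 73472 → fq0 i = true := below_step fq0 73248 224 73472 q0u326 q0c327 rfl
theorem q0c328 : allBelow (fun k => fq0 (Nat.add 73472 k)) 224 = true := by decide +kernel
theorem q0u328 : ∀ i, i < 73696 → fq0 i = true := below_step fq0 73472 224 73696 q0u327 q0c328 rfl
theorem q0c329 : allBelow (fun k => fq0 (Nat.add 73696 k)) 224 = true := by decide +kernel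
theorem q0u329 : ∀ i, i < 73920 → fq0 i = true := below_step fq0 73696 224 73920 q0u328 q0c329 rfl
theorem q0c330 : allBelow (fun k => fq0 (Nat.add 73920 k)) 224 = true := by decide +kernel
theorem q0u330 : ∀ i, i < 74144 → fq0 i = true := below_step fq0 73920 224 74144 q0u329 q0c330 rfl
theorem q0c331 : allBelow (fun k => fq0 (Nat.add 74144 k)) 224 = true := by decide +kernel
theorem q0u331 : ∀ i, i < 74368 → fq0 i = true := below_step fq0 74144 224 74368 q0u330 q0c331 rfl
theorem q0c332 : allBelow (fun k => fq0 (Nat.add 74368 k)) 224 = true := by decide +kernel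
theorem q0u332 : ∀ i, i < 74592 → fq0 i = true := below_step fq0 74368 224 74592 q0u331 q0c332 rfl
theorem q0c333 : allBelow (fun k => fq0 (Nat.add 74592 k)) 224 = true := by decide +kernel
theorem q0u333 : ∀ i, i < 74816 → fq0 i = true := below_step fq0 74592 224 74816 q0u332 q0c333 rfl
theorem q0c334 : allBelow (fun k => fq0 (Nat.add 74816 k)) 224 = true := by decide +kernel
theorem q0u334 : ∀ i, i < 75040 → fq0 i = true := below_step fq0 74816 224 75040 q0u333 q0c334 rfl
theorem q0c335 : allBelow (fun k => fq0 (Nat.add 75040 k)) 224 = true := by decide +kernel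
theorem q0u335 : ∀ i, i < 75264 → fq0 i = true := below_step fq0 75040 224 75264 q0u334 q0c335 rfl
theorem q0c336 : allBelow (fun k => fq0 (Nat.add 75264 k)) 224 = true := by decide +kernel
theorem q0u336 : ∀ i, i < 75488 → fq0 i = true := below_step fq0 75264 224 75488 q0u335 q0c336 rfl
theorem q0c337 : allBelow (fun k => fq0 (Nat.add 75488 k)) 224 = true := by decide +kernel
theorem q0u337 : ∀ i, i < 75712 → fq0 i = true := below_step fq0 75488 224 75712 q0u336 q0c337 rfl
theorem q0c338 : allBelow (fun k => fq0 (Nat.add 75712 k)) 224 = true := by decide +kernel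
theorem q0u338 : ∀ i, i < 75936 → fq0 i = true := below_step fq0 75712 224 75936 q0u337 q0c338 rfl
theorem q0c339 : allBelow (fun k => fq0 (Nat.add 75936 k)) 224 = true := by decide +kernel
theorem q0u339 : ∀ i, i < 76160 → fq0 i = true := below_step fq0 75936 224 76160 q0u338 q0c339 rfl
theorem q0c340 : allBelow (fun k => fq0 (Nat.add 76160 k)) 224 = true := by decide +kernel
theorem q0u340 : ∀ i, i < 76384 → fq0 i = true := below_step fq0 76160 224 76384 q0u339 q0c340 rfl
theorem q0c341 : allBelow (fun k => fq0 (Nat.add 76384 k)) 224 = true := by decide +kernel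
theorem q0u341 : ∀ i, i < 76608 → fq0 i = true := below_step fq0 76384 224 76608 q0u340 q0c341 rfl
theorem q0c342 : allBelow (fun k => fq0 (Nat.add 76608 k)) 224 = true := by decide +kernel
theorem q0u342 : ∀ i, i < 76832 → fq0 i = true := below_step fq0 76608 224 76832 q0u341 q0c342 rfl
theorem q0c343 : allBelow (fun k => fq0 (Nat.add 76832 k)) 224 = true := by decide +kernel
theorem q0u343 : ∀ i, i < 77056 → fq0 i = true := below_step fq0 76832 224 77056 q0u342 q0c343 rfl
theorem q0c344 : allBelow (fun k => fq0 (Nat.add 77056 k)) 224 = true := by decide +kernel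
theorem q0u344 : ∀ i, i < 77280 → fq0 i = true := below_step fq0 77056 224 77280 q0u343 q0c344 rfl
theorem q0c345 : allBelow (fun k => fq0 (Nat.add 77280 k)) 224 = true := by decide +kernel
theorem q0u345 : ∀ i, i < 77504 → fq0 i = true := below_step fq0 77280 224 77504 q0u344 q0c345 rfl
theorem q0c346 : allBelow (fun k => fq0 (Nat.add 77504 k)) 224 = true := by decide +kernel
theorem q0u346 : ∀ i, i < 77728 → fq0 i = true := below_step fq0 77504 224 77728 q0u345 q0c346 rfl
theorem q0c347 : allBelow (fun k => fq0 (Nat.add 77728 k)) 224 = true := by decide +kernel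
theorem q0u347 : ∀ i, i < 77952 → fq0 i = true := below_step fq0 77728 224 77952 q0u346 q0c347 rfl
theorem q0c348 : allBelow (fun k => fq0 (Nat.add 77952 k)) 224 = true := by decide +kernel
theorem q0u348 : ∀ i, i < 78176 → fq0 i = true := below_step fq0 77952 224 78176 q0u347 q0c348 rfl
theorem q0c349 : allBelow (fun k => fq0 (Nat.add 78176 k)) 224 = true := by decide +kernel
theorem q0u349 : ∀ i, i < 78400 → fq0 i = true := below_step fq0 78176 224 78400 q0u348 q0c349 rfl
theorem q0c350 : allBelow (fun k => fq0 (Nat.add 78400 k)) 224 = true := by decide +kernel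
theorem q0u350 : ∀ i, i < 78624 → fq0 i = true := below_step fq0 78400 224 78624 q0u349 q0c350 rfl
theorem q0c351 : allBelow (fun k => fq0 (Nat.add 78624 k)) 224 = true := by decide +kernel
theorem q0u351 : ∀ i, i < 78848 → fq0 i = true := below_step fq0 78624 224 78848 q0u350 q0c351 rfl
theorem q0c352 : allBelow (fun k => fq0 (Nat.add 78848 k)) 224 = true := by decide +kernel
theorem q0u352 : ∀ i, i < 79072 → fq0 i = true := below_step fq0 78848 224 79072 q0u351 q0c352 rfl
theorem q0c353 : allBelow (fun k => fq0 (Nat.add 79072 k)) 224 = true := by decide +kernel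
theorem q0u353 : ∀ i, i < 79296 → fq0 i = true := below_step fq0 79072 224 79296 q0u352 q0c353 rfl
theorem q0c354 : allBelow (fun k => fq0 (Nat.add 79296 k)) 224 = true := by decide +kernel
theorem q0u354 : ∀ i, i < 79520 → fq0 i = true := below_step fq0 79296 224 79520 q0u353 q0c354 rfl
theorem q0c355 : allBelow (fun k => fq0 (Nat.add 79520 k)) 224 = true := by decide +kernel
theorem q0u355 : ∀ i, i < 79744 → fq0 i = true := below_step fq0 79520 224 79744 q0u354 q0c355 rfl
theorem q0c356 : allBelow (fun k => fq0 (Nat.add 79744 k)) 224 = true := by decide +kernel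
theorem q0u356 : ∀ i, i < 79968 → fq0 i = true := below_step fq0 79744 224 79968 q0u355 q0c356 rfl
theorem q0c357 : allBelow (fun k => fq0 (Nat.add 79968 k)) 224 = true := by decide +kernel
theorem q0u357 : ∀ i, i < 80192 → fq0 i = true := below_step fq0 79968 224 80192 q0u356 q0c357 rfl
theorem q0c358 : allBelow (fun k => fq0 (Nat.add 80192 k)) 224 = true := by decide +kernel
theorem q0u358 : ∀ i, i < 80416 → fq0 i = true := below_step fq0 80192 224 80416 q0u357 q0c358 rfl
theorem q0c359 : allBelow (fun k => fq0 (Nat.add 80416 k)) 224 = true := by decide +kernel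
theorem q0u359 : ∀ i, i < 80640 → fq0 i = true := below_step fq0 80416 224 80640 q0u358 q0c359 rfl
theorem q0c360 : allBelow (fun k => fq0 (Nat.add 80640 k)) 224 = true := by decide +kernel
theorem q0u360 : ∀ i, i < 80864 → fq0 i = true := below_step fq0 80640 224 80864 q0u359 q0c360 rfl
theorem q0c361 : allBelow (fun k => fq0 (Nat.add 80864 k)) 224 = true := by decide +kernel
theorem q0u361 : ∀ i, i < 81088 → fq0 i = true := below_step fq0 80864 224 81088 q0u360 q0c361 rfl
theorem q0c362 : allBelow (fun k => fq0 (Nat.add 81088 k)) 224 = true := by decide +kernel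
theorem q0u362 : ∀ i, i < 81312 → fq0 i = true := below_step fq0 81088 224 81312 q0u361 q0c362 rfl
theorem q0c363 : allBelow (fun k => fq0 (Nat.add 81312 k)) 224 = true := by decide +kernel
theorem q0u363 : ∀ i, i < 81536 → fq0 i = true := below_step fq0 81312 224 81536 q0u362 q0c363 rfl
theorem q0c364 : allBelow (fun k => fq0 (Nat.add 81536 k)) 224 = true := by decide +kernel
theorem q0u364 : ∀ i, i < 81760 → fq0 i = true := below_step fq0 81536 224 81760 q0u363 q0c364 rfl
theorem q0c365 : allBelow (fun k => fq0 (Nat.add 81760 k)) 224 = true := by decide +kernel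
theorem q0u365 : ∀ i, i < 81984 → fq0 i = true := below_step fq0 81760 224 81984 q0u364 q0c365 rfl
theorem q0c366 : allBelow (fun k => fq0 (Nat.add 81984 k)) 224 = true := by decide +kernel
theorem q0u366 : ∀ i, i < 82208 → fq0 i = true := below_step fq0 81984 224 82208 q0u365 q0c366 rfl
theorem q0c367 : allBelow (fun k => fq0 (Nat.add 82208 k)) 224 = true := by decide +kernel
theorem q0u367 : ∀ i, i < 82432 → fq0 i = true := below_step fq0 82208 224 82432 q0u366 q0c367 rfl
theorem q0c368 : allBelow (fun k => fq0 (Nat.add 82432 k)) 224 = true := by decide +kernel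
theorem q0u368 : ∀ i, i < 82656 → fq0 i = true := below_step fq0 82432 224 82656 q0u367 q0c368 rfl
theorem q0c369 : allBelow (fun k => fq0 (Nat.add 82656 k)) 224 = true := by decide +kernel
theorem q0u369 : ∀ i, i < 82880 → fq0 i = true := below_step fq0 82656 224 82880 q0u368 q0c369 rfl
theorem q0c370 : allBelow (fun k => fq0 (Nat.add 82880 k)) 224 = true := by decide +kernel
theorem q0u370 : ∀ i, i < 83104 → fq0 i = true := below_step fq0 82880 224 83104 q0u369 q0c370 rfl
theorem q0c371 : allBelow (fun k => fq0 (Nat.add 83104 k)) 224 = true := by decide +kernel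
theorem q0u371 : ∀ i, i < 83328 → fq0 i = true := below_step fq0 83104 224 83328 q0u370 q0c371 rfl
theorem q0c372 : allBelow (fun k => fq0 (Nat.add 83328 k)) 224 = true := by decide +kernel
theorem q0u372 : ∀ i, i < 83552 → fq0 i = true := below_step fq0 83328 224 83552 q0u371 q0c372 rfl
theorem q0c373 : allBelow (fun k => fq0 (Nat.add 83552 k)) 224 = true := by decide +kernel
theorem q0u373 : ∀ i, i < 83776 → fq0 i = true := below_step fq0 83552 224 83776 q0u372 q0c373 rfl
theorem q0c374 : allBelow (fun k => fq0 (Nat.add 83776 k)) 224 = true := by decide +kernel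
theorem q0u374 : ∀ i, i < 84000 → fq0 i = true := below_step fq0 83776 224 84000 q0u373 q0c374 rfl
theorem q0c375 : allBelow (fun k => fq0 (Nat.add 84000 k)) 224 = true := by decide +kernel
theorem q0u375 : ∀ i, i < 84224 → fq0 i = true := below_step fq0 84000 224 84224 q0u374 q0c375 rfl
theorem q0c376 : allBelow (fun k => fq0 (Nat.add 84224 k)) 224 = true := by decide +kernel
theorem q0u376 : ∀ i, i < 84448 → fq0 i = true := below_step fq0 84224 224 84448 q0u375 q0c376 rfl
theorem q0c377 : allBelow (fun k => fq0 (Nat.add 84448 k)) 224 = true := by decide +kernel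
theorem q0u377 : ∀ i, i < 84672 → fq0 i = true := below_step fq0 84448 224 84672 q0u376 q0c377 rfl
theorem q0c378 : allBelow (fun k => fq0 (Nat.add 84672 k)) 224 = true := by decide +kernel
theorem q0u378 : ∀ i, i < 84896 → fq0 i = true := below_step fq0 84672 224 84896 q0u377 q0c378 rfl
theorem q0c379 : allBelow (fun k => fq0 (Nat.add 84896 k)) 224 = true := by decide +kernel
theorem q0u379 : ∀ i, i < 85120 → fq0 i = true := below_step fq0 84896 224 85120 q0u378 q0c379 rfl
theorem q0c380 : allBelow (fun k => fq0 (Nat.add 85120 k)) 224 = true := by decide +kernel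
theorem q0u380 : ∀ i, i < 85344 → fq0 i = true := below_step fq0 85120 224 85344 q0u379 q0c380 rfl
theorem q0c381 : allBelow (fun k => fq0 (Nat.add 85344 k)) 224 = true := by decide +kernel
theorem q0u381 : ∀ i, i < 85568 → fq0 i = true := below_step fq0 85344 224 85568 q0u380 q0c381 rfl
theorem q0c382 : allBelow (fun k => fq0 (Nat.add 85568 k)) 224 = true := by decide +kernel
theorem q0u382 : ∀ i, i < 85792 → fq0 i = true := below_step fq0 85568 224 85792 q0u381 q0c382 rfl
theorem q0c383 : allBelow (fun k => fq0 (Nat.add 85792 k)) 224 = true := by decide +kernel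
theorem q0u383 : ∀ i, i < 86016 → fq0 i = true := below_step fq0 85792 224 86016 q0u382 q0c383 rfl
theorem q0c384 : allBelow (fun k => fq0 (Nat.add 86016 k)) 224 = true := by decide +kernel
theorem q0u384 : ∀ i, i < 86240 → fq0 i = true := below_step fq0 86016 224 86240 q0u383 q0c384 rfl
theorem q0c385 : allBelow (fun k => fq0 (Nat.add 86240 k)) 224 = true := by decide +kernel
theorem q0u385 : ∀ i, i < 86464 → fq0 i = true := below_step fq0 86240 224 86464 q0u384 q0c385 rfl
theorem q0c386 : allBelow (fun k => fq0 (Nat.add 86464 k)) 224 = true := by decide +kernel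
theorem q0u386 : ∀ i, i < 86688 → fq0 i = true := below_step fq0 86464 224 86688 q0u385 q0c386 rfl
theorem q0c387 : allBelow (fun k => fq0 (Nat.add 86688 k)) 224 = true := by decide +kernel
theorem q0u387 : ∀ i, i < 86912 → fq0 i = true := below_step fq0 86688 224 86912 q0u386 q0c387 rfl
theorem q0c388 : allBelow (fun k => fq0 (Nat.add 86912 k)) 224 = true := by decide +kernel
theorem q0u388 : ∀ i, i < 87136 → fq0 i = true := below_step fq0 86912 224 87136 q0u387 q0c388 rfl
theorem q0c389 : allBelow (fun k => fq0 (Nat.add 87136 k)) 224 = true := by decide +kernel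
theorem q0u389 : ∀ i, i < 87360 → fq0 i = true := below_step fq0 87136 224 87360 q0u388 q0c389 rfl
theorem q0c390 : allBelow (fun k => fq0 (Nat.add 87360 k)) 224 = true := by decide +kernel
theorem q0u390 : ∀ i, i < 87584 → fq0 i = true := below_step fq0 87360 224 87584 q0u389 q0c390 rfl
theorem q0c391 : allBelow (fun k => fq0 (Nat.add 87584 k)) 224 = true := by decide +kernel
theorem q0u391 : ∀ i, i < 87808 → fq0 i = true := below_step fq0 87584 224 87808 q0u390 q0c391 rfl
theorem q0c392 : allBelow (fun k => fq0 (Nat.add 87808 k)) 224 = true := by decide +kernel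
theorem q0u392 : ∀ i, i < 88032 → fq0 i = true := below_step fq0 87808 224 88032 q0u391 q0c392 rfl
theorem q0c393 : allBelow (fun k => fq0 (Nat.add 88032 k)) 224 = true := by decide +kernel
theorem q0u393 : ∀ i, i < 88256 → fq0 i = true := below_step fq0 88032 224 88256 q0u392 q0c393 rfl
theorem q0c394 : allBelow (fun k => fq0 (Nat.add 88256 k)) 224 = true := by decide +kernel
theorem q0u394 : ∀ i, i < 88480 → fq0 i = true := below_step fq0 88256 224 88480 q0u393 q0c394 rfl
theorem q0c395 : allBelow (fun k => fq0 (Nat.add 88480 k)) 224 = true := by decide +kernel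
theorem q0u395 : ∀ i, i < 88704 → fq0 i = true := below_step fq0 88480 224 88704 q0u394 q0c395 rfl
theorem q0c396 : allBelow (fun k => fq0 (Nat.add 88704 k)) 224 = true := by decide +kernel
theorem q0u396 : ∀ i, i < 88928 → fq0 i = true := below_step fq0 88704 224 88928 q0u395 q0c396 rfl
theorem q0c397 : allBelow (fun k => fq0 (Nat.add 88928 k)) 224 = true := by decide +kernel
theorem q0u397 : ∀ i, i < 89152 → fq0 i = true := below_step fq0 88928 224 89152 q0u396 q0c397 rfl
theorem q0c398 : allBelow (fun k => fq0 (Nat.add 89152 k)) 224 = true := by decide +kernel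
theorem q0u398 : ∀ i, i < 89376 → fq0 i = true := below_step fq0 89152 224 89376 q0u397 q0c398 rfl
theorem q0c399 : allBelow (fun k => fq0 (Nat.add 89376 k)) 224 = true := by decide +kernel
theorem q0u399 : ∀ i, i < 89600 → fq0 i = true := below_step fq0 89376 224 89600 q0u398 q0c399 rfl
theorem q0c400 : allBelow (fun k => fq0 (Nat.add 89600 k)) 224 = true := by decide +kernel
theorem q0u400 : ∀ i, i < 89824 → fq0 i = true := below_step fq0 89600 224 89824 q0u399 q0c400 rfl
theorem q0c401 : allBelow (fun k => fq0 (Nat.add 89824 k)) 224 = true := by decide +kernel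
theorem q0u401 : ∀ i, i < 90048 → fq0 i = true := below_step fq0 89824 224 90048 q0u400 q0c401 rfl
theorem q0c402 : allBelow (fun k => fq0 (Nat.add 90048 k)) 224 = true := by decide +kernel
theorem q0u402 : ∀ i, i < 90272 → fq0 i = true := below_step fq0 90048 224 90272 q0u401 q0c402 rfl
theorem q0c403 : allBelow (fun k => fq0 (Nat.add 90272 k)) 224 = true := by decide +kernel
theorem q0u403 : ∀ i, i < 90496 → fq0 i = true := below_step fq0 90272 224 90496 q0u402 q0c403 rfl
theorem q0c404 : allBelow (fun k => fq0 (Nat.add 90496 k)) 224 = true := by decide +kernel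
theorem q0u404 : ∀ i, i < 90720 → fq0 i = true := below_step fq0 90496 224 90720 q0u403 q0c404 rfl
theorem q0c405 : allBelow (fun k => fq0 (Nat.add 90720 k)) 224 = true := by decide +kernel
theorem q0u405 : ∀ i, i < 90944 → fq0 i = true := below_step fq0 90720 224 90944 q0u404 q0c405 rfl
theorem q0c406 : allBelow (fun k => fq0 (Nat.add 90944 k)) 224 = true := by decide +kernel
theorem q0u406 : ∀ i, i < 91168 → fq0 i = true := below_step fq0 90944 224 91168 q0u405 q0c406 rfl
theorem q0c407 : allBelow (fun k => fq0 (Nat.add 91168 k)) 224 = true := by decide +kernel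
theorem q0u407 : ∀ i, i < 91392 → fq0 i = true := below_step fq0 91168 224 91392 q0u406 q0c407 rfl
theorem q0c408 : allBelow (fun k => fq0 (Nat.add 91392 k)) 224 = true := by decide +kernel
theorem q0u408 : ∀ i, i < 91616 → fq0 i = true := below_step fq0 91392 224 91616 q0u407 q0c408 rfl
theorem q0c409 : allBelow (fun k => fq0 (Nat.add 91616 k)) 224 = true := by decide +kernel
theorem q0u409 : ∀ i, i < 91840 → fq0 i = true := below_step fq0 91616 224 91840 q0u408 q0c409 rfl
theorem q0c410 : allBelow (fun k => fq0 (Nat.add 91840 k)) 224 = true := by decide +kernel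
theorem q0u410 : ∀ i, i < 92064 → fq0 i = true := below_step fq0 91840 224 92064 q0u409 q0c410 rfl
theorem q0c411 : allBelow (fun k => fq0 (Nat.add 92064 k)) 224 = true := by decide +kernel
theorem q0u411 : ∀ i, i < 92288 → fq0 i = true := below_step fq0 92064 224 92288 q0u410 q0c411 rfl
theorem q0c412 : allBelow (fun k => fq0 (Nat.add 92288 k)) 224 = true := by decide +kernel
theorem q0u412 : ∀ i, i < 92512 → fq0 i = true := below_step fq0 92288 224 92512 q0u411 q0c412 rfl
theorem q0c413 : allBelow (fun k => fq0 (Nat.add 92512 k)) 224 = true := by decide +kernel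
theorem q0u413 : ∀ i, i < 92736 → fq0 i = true := below_step fq0 92512 224 92736 q0u412 q0c413 rfl
theorem q0c414 : allBelow (fun k => fq0 (Nat.add 92736 k)) 224 = true := by decide +kernel
theorem q0u414 : ∀ i, i < 92960 → fq0 i = true := below_step fq0 92736 224 92960 q0u413 q0c414 rfl
theorem q0c415 : allBelow (fun k => fq0 (Nat.add 92960 k)) 224 = true := by decide +kernel
theorem q0u415 : ∀ i, i < 93184 → fq0 i = true := below_step fq0 92960 224 93184 q0u414 q0c415 rfl
theorem q0c416 : allBelow (fun k => fq0 (Nat.add 93184 k)) 224 = true := by decide +kernel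
theorem q0u416 : ∀ i, i < 93408 → fq0 i = true := below_step fq0 93184 224 93408 q0u415 q0c416 rfl
theorem q0c417 : allBelow (fun k => fq0 (Nat.add 93408 k)) 224 = true := by decide +kernel
theorem q0u417 : ∀ i, i < 93632 → fq0 i = true := below_step fq0 93408 224 93632 q0u416 q0c417 rfl
theorem q0c418 : allBelow (fun k => fq0 (Nat.add 93632 k)) 224 = true := by decide +kernel
theorem q0u418 : ∀ i, i < 93856 → fq0 i = true := below_step fq0 93632 224 93856 q0u417 q0c418 rfl
theorem q0c419 : allBelow (fun k => fq0 (Nat.add 93856 k)) 224 = true := by decide +kernel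
theorem q0u419 : ∀ i, i < 94080 → fq0 i = true := below_step fq0 93856 224 94080 q0u418 q0c419 rfl
theorem q0c420 : allBelow (fun k => fq0 (Nat.add 94080 k)) 224 = true := by decide +kernel
theorem q0u420 : ∀ i, i < 94304 → fq0 i = true := below_step fq0 94080 224 94304 q0u419 q0c420 rfl
theorem q0c421 : allBelow (fun k => fq0 (Nat.add 94304 k)) 224 = true := by decide +kernel
theorem q0u421 : ∀ i, i < 94528 → fq0 i = true := below_step fq0 94304 224 94528 q0u420 q0c421 rfl
theorem q0c422 : allBelow (fun k => fq0 (Nat.add 94528 k)) 224 = true := by decide +kernel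
theorem q0u422 : ∀ i, i < 94752 → fq0 i = true := below_step fq0 94528 224 94752 q0u421 q0c422 rfl
theorem q0c423 : allBelow (fun k => fq0 (Nat.add 94752 k)) 224 = true := by decide +kernel
theorem q0u423 : ∀ i, i < 94976 → fq0 i = true := below_step fq0 94752 224 94976 q0u422 q0c423 rfl
theorem q0c424 : allBelow (fun k => fq0 (Nat.add 94976 k)) 224 = true := by decide +kernel
theorem q0u424 : ∀ i, i < 95200 → fq0 i = true := below_step fq0 94976 224 95200 q0u423 q0c424 rfl
theorem q0c425 : allBelow (fun k => fq0 (Nat.add 95200 k)) 224 = true := by decide +kernel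
theorem q0u425 : ∀ i, i < 95424 → fq0 i = true := below_step fq0 95200 224 95424 q0u424 q0c425 rfl
theorem q0c426 : allBelow (fun k => fq0 (Nat.add 95424 k)) 224 = true := by decide +kernel
theorem q0u426 : ∀ i, i < 95648 → fq0 i = true := below_step fq0 95424 224 95648 q0u425 q0c426 rfl
theorem q0c427 : allBelow (fun k => fq0 (Nat.add 95648 k)) 224 = true := by decide +kernel
theorem q0u427 : ∀ i, i < 95872 → fq0 i = true := below_step fq0 95648 224 95872 q0u426 q0c427 rfl
theorem q0c428 : allBelow (fun k => fq0 (Nat.add 95872 k)) 224 = true := by decide +kernel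
theorem q0u428 : ∀ i, i < 96096 → fq0 i = true := below_step fq0 95872 224 96096 q0u427 q0c428 rfl
theorem q0c429 : allBelow (fun k => fq0 (Nat.add 96096 k)) 224 = true := by decide +kernel
theorem q0u429 : ∀ i, i < 96320 → fq0 i = true := below_step fq0 96096 224 96320 q0u428 q0c429 rfl
theorem q0c430 : allBelow (fun k => fq0 (Nat.add 96320 k)) 224 = true := by decide +kernel
theorem q0u430 : ∀ i, i < 96544 → fq0 i = true := below_step fq0 96320 224 96544 q0u429 q0c430 rfl
theorem q0c431 : allBelow (fun k => fq0 (Nat.add 96544 k)) 224 = true := by decide +kernel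
theorem q0u431 : ∀ i, i < 96768 → fq0 i = true := below_step fq0 96544 224 96768 q0u430 q0c431 rfl
theorem q0c432 : allBelow (fun k => fq0 (Nat.add 96768 k)) 224 = true := by decide +kernel
theorem q0u432 : ∀ i, i < 96992 → fq0 i = true := below_step fq0 96768 224 96992 q0u431 q0c432 rfl
theorem q0c433 : allBelow (fun k => fq0 (Nat.add 96992 k)) 224 = true := by decide +kernel
theorem q0u433 : ∀ i, i < 97216 → fq0 i = true := below_step fq0 96992 224 97216 q0u432 q0c433 rfl
theorem q0c434 : allBelow (fun k => fq0 (Nat.add 97216 k)) 224 = true := by decide +kernel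
theorem q0u434 : ∀ i, i < 97440 → fq0 i = true := below_step fq0 97216 224 97440 q0u433 q0c434 rfl
theorem q0c435 : allBelow (fun k => fq0 (Nat.add 97440 k)) 224 = true := by decide +kernel
theorem q0u435 : ∀ i, i < 97664 → fq0 i = true := below_step fq0 97440 224 97664 q0u434 q0c435 rfl
theorem q0c436 : allBelow (fun k => fq0 (Nat.add 97664 k)) 224 = true := by decide +kernel
theorem q0u436 : ∀ i, i < 97888 → fq0 i = true := below_step fq0 97664 224 97888 q0u435 q0c436 rfl
theorem q0c437 : allBelow (fun k => fq0 (Nat.add 97888 k)) 224 = true := by decide +kernel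
theorem q0u437 : ∀ i, i < 98112 → fq0 i = true := below_step fq0 97888 224 98112 q0u436 q0c437 rfl
theorem q0c438 : allBelow (fun k => fq0 (Nat.add 98112 k)) 224 = true := by decide +kernel
theorem q0u438 : ∀ i, i < 98336 → fq0 i = true := below_step fq0 98112 224 98336 q0u437 q0c438 rfl
theorem q0c439 : allBelow (fun k => fq0 (Nat.add 98336 k)) 224 = true := by decide +kernel
theorem q0u439 : ∀ i, i < 98560 → fq0 i = true := below_step fq0 98336 224 98560 q0u438 q0c439 rfl
theorem q0c440 : allBelow (fun k => fq0 (Nat.add 98560 k)) 224 = true := by decide +kernel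
theorem q0u440 : ∀ i, i < 98784 → fq0 i = true := below_step fq0 98560 224 98784 q0u439 q0c440 rfl
theorem q0c441 : allBelow (fun k => fq0 (Nat.add 98784 k)) 224 = true := by decide +kernel
theorem q0u441 : ∀ i, i < 99008 → fq0 i = true := below_step fq0 98784 224 99008 q0u440 q0c441 rfl
theorem q0c442 : allBelow (fun k => fq0 (Nat.add 99008 k)) 224 = true := by decide +kernel
theorem q0u442 : ∀ i, i < 99232 → fq0 i = true := below_step fq0 99008 224 99232 q0u441 q0c442 rfl
theorem q0c443 : allBelow (fun k => fq0 (Nat.add 99232 k)) 224 = true := by decide +kernel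
theorem q0u443 : ∀ i, i < 99456 → fq0 i = true := below_step fq0 99232 224 99456 q0u442 q0c443 rfl
theorem q0c444 : allBelow (fun k => fq0 (Nat.add 99456 k)) 224 = true := by decide +kernel
theorem q0u444 : ∀ i, i < 99680 → fq0 i = true := below_step fq0 99456 224 99680 q0u443 q0c444 rfl
theorem q0c445 : allBelow (fun k => fq0 (Nat.add 99680 k)) 224 = true := by decide +kernel
theorem q0u445 : ∀ i, i < 99904 → fq0 i = true := below_step fq0 99680 224 99904 q0u444 q0c445 rfl
theorem q0c446 : allBelow (fun k => fq0 (Nat.add 99904 k)) 224 = true := by decide +kernel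
theorem q0u446 : ∀ i, i < 100128 → fq0 i = true := below_step fq0 99904 224 100128 q0u445 q0c446 rfl
theorem q0c447 : allBelow (fun k => fq0 (Nat.add 100128 k)) 224 = true := by decide +kernel
theorem q0u447 : ∀ i, i < 100352 → fq0 i = true := below_step fq0 100128 224 100352 q0u446 q0c447 rfl
theorem q0c448 : allBelow (fun k => fq0 (Nat.add 100352 k)) 224 = true := by decide +kernel
theorem q0u448 : ∀ i, i < 100576 → fq0 i = true := below_step fq0 100352 224 100576 q0u447 q0c448 rfl
theorem q0c449 : allBelow (fun k => fq0 (Nat.add 100576 k)) 224 = true := by decide +kernel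
theorem q0u449 : ∀ i, i < 100800 → fq0 i = true := below_step fq0 100576 224 100800 q0u448 q0c449 rfl
theorem q0c450 : allBelow (fun k => fq0 (Nat.add 100800 k)) 224 = true := by decide +kernel
theorem q0u450 : ∀ i, i < 101024 → fq0 i = true := below_step fq0 100800 224 101024 q0u449 q0c450 rfl
theorem q0c451 : allBelow (fun k => fq0 (Nat.add 101024 k)) 224 = true := by decide +kernel
theorem q0u451 : ∀ i, i < 101248 → fq0 i = true := below_step fq0 101024 224 101248 q0u450 q0c451 rfl
theorem q0c452 : allBelow (fun k => fq0 (Nat.add 101248 k)) 224 = true := by decide +kernel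
theorem q0u452 : ∀ i, i < 101472 → fq0 i = true := below_step fq0 101248 224 101472 q0u451 q0c452 rfl
theorem q0c453 : allBelow (fun k => fq0 (Nat.add 101472 k)) 224 = true := by decide +kernel
theorem q0u453 : ∀ i, i < 101696 → fq0 i = true := below_step fq0 101472 224 101696 q0u452 q0c453 rfl
theorem q0c454 : allBelow (fun k => fq0 (Nat.add 101696 k)) 224 = true := by decide +kernel
theorem q0u454 : ∀ i, i < 101920 → fq0 i = true := below_step fq0 101696 224 101920 q0u453 q0c454 rfl
theorem q0c455 : allBelow (fun k => fq0 (Nat.add 101920 k)) 224 = true := by decide +kernel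
theorem q0u455 : ∀ i, i < 102144 → fq0 i = true := below_step fq0 101920 224 102144 q0u454 q0c455 rfl
theorem q0c456 : allBelow (fun k => fq0 (Nat.add 102144 k)) 224 = true := by decide +kernel
theorem q0u456 : ∀ i, i < 102368 → fq0 i = true := below_step fq0 102144 224 102368 q0u455 q0c456 rfl
theorem q0c457 : allBelow (fun k => fq0 (Nat.add 102368 k)) 224 = true := by decide +kernel
theorem q0u457 : ∀ i, i < 102592 → fq0 i = true := below_step fq0 102368 224 102592 q0u456 q0c457 rfl
theorem q0c458 : allBelow (fun k => fq0 (Nat.add 102592 k)) 224 = true := by decide +kernel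
theorem q0u458 : ∀ i, i < 102816 → fq0 i = true := below_step fq0 102592 224 102816 q0u457 q0c458 rfl
theorem q0c459 : allBelow (fun k => fq0 (Nat.add 102816 k)) 224 = true := by decide +kernel
theorem q0u459 : ∀ i, i < 103040 → fq0 i = true := below_step fq0 102816 224 103040 q0u458 q0c459 rfl
theorem q0c460 : allBelow (fun k => fq0 (Nat.add 103040 k)) 224 = true := by decide +kernel
theorem q0u460 : ∀ i, i < 103264 → fq0 i = true := below_step fq0 103040 224 103264 q0u459 q0c460 rfl
theorem q0c461 : allBelow (fun k => fq0 (Nat.add 103264 k)) 224 = true := by decide +kernel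
theorem q0u461 : ∀ i, i < 103488 → fq0 i = true := below_step fq0 103264 224 103488 q0u460 q0c461 rfl
theorem q0c462 : allBelow (fun k => fq0 (Nat.add 103488 k)) 224 = true := by decide +kernel
theorem q0u462 : ∀ i, i < 103712 → fq0 i = true := below_step fq0 103488 224 103712 q0u461 q0c462 rfl
theorem q0c463 : allBelow (fun k => fq0 (Nat.add 103712 k)) 224 = true := by decide +kernel
theorem q0u463 : ∀ i, i < 103936 → fq0 i = true := below_step fq0 103712 224 103936 q0u462 q0c463 rfl
theorem q0c464 : allBelow (fun k => fq0 (Nat.add 103936 k)) 224 = true := by decide +kernel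
theorem q0u464 : ∀ i, i < 104160 → fq0 i = true := below_step fq0 103936 224 104160 q0u463 q0c464 rfl
theorem q0c465 : allBelow (fun k => fq0 (Nat.add 104160 k)) 224 = true := by decide +kernel
theorem q0u465 : ∀ i, i < 104384 → fq0 i = true := below_step fq0 104160 224 104384 q0u464 q0c465 rfl
theorem q0c466 : allBelow (fun k => fq0 (Nat.add 104384 k)) 224 = true := by decide +kernel
theorem q0u466 : ∀ i, i < 104608 → fq0 i = true := below_step fq0 104384 224 104608 q0u465 q0c466 rfl
theorem q0c467 : allBelow (fun k => fq0 (Nat.add 104608 k)) 224 = true := by decide +kernel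
theorem q0u467 : ∀ i, i < 104832 → fq0 i = true := below_step fq0 104608 224 104832 q0u466 q0c467 rfl
theorem q0c468 : allBelow (fun k => fq0 (Nat.add 104832 k)) 224 = true := by decide +kernel
theorem q0u468 : ∀ i, i < 105056 → fq0 i = true := below_step fq0 104832 224 105056 q0u467 q0c468 rfl
theorem q0c469 : allBelow (fun k => fq0 (Nat.add 105056 k)) 224 = true := by decide +kernel
theorem q0u469 : ∀ i, i < 105280 → fq0 i = true := below_step fq0 105056 224 105280 q0u468 q0c469 rfl
theorem q0c470 : allBelow (fun k => fq0 (Nat.add 105280 k)) 224 = true := by decide +kernel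
theorem q0u470 : ∀ i, i < 105504 → fq0 i = true := below_step fq0 105280 224 105504 q0u469 q0c470 rfl
theorem q0c471 : allBelow (fun k => fq0 (Nat.add 105504 k)) 224 = true := by decide +kernel
theorem q0u471 : ∀ i, i < 105728 → fq0 i = true := below_step fq0 105504 224 105728 q0u470 q0c471 rfl
theorem q0c472 : allBelow (fun k => fq0 (Nat.add 105728 k)) 224 = true := by decide +kernel
theorem q0u472 : ∀ i, i < 105952 → fq0 i = true := below_step fq0 105728 224 105952 q0u471 q0c472 rfl
theorem q0c473 : allBelow (fun k => fq0 (Nat.add 105952 k)) 224 = true := by decide +kernel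
theorem q0u473 : ∀ i, i < 106176 → fq0 i = true := below_step fq0 105952 224 106176 q0u472 q0c473 rfl
theorem q0c474 : allBelow (fun k => fq0 (Nat.add 106176 k)) 224 = true := by decide +kernel
theorem q0u474 : ∀ i, i < 106400 → fq0 i = true := below_step fq0 106176 224 106400 q0u473 q0c474 rfl
theorem q0c475 : allBelow (fun k => fq0 (Nat.add 106400 k)) 224 = true := by decide +kernel
theorem q0u475 : ∀ i, i < 106624 → fq0 i = true := below_step fq0 106400 224 106624 q0u474 q0c475 rfl
theorem q0c476 : allBelow (fun k => fq0 (Nat.add 106624 k)) 224 = true := by decide +kernel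
theorem q0u476 : ∀ i, i < 106848 → fq0 i = true := below_step fq0 106624 224 106848 q0u475 q0c476 rfl
theorem q0c477 : allBelow (fun k => fq0 (Nat.add 106848 k)) 224 = true := by decide +kernel
theorem q0u477 : ∀ i, i < 107072 → fq0 i = true := below_step fq0 106848 224 107072 q0u476 q0c477 rfl
theorem q0c478 : allBelow (fun k => fq0 (Nat.add 107072 k)) 224 = true := by decide +kernel
theorem q0u478 : ∀ i, i < 107296 → fq0 i = true := below_step fq0 107072 224 107296 q0u477 q0c478 rfl
theorem q0c479 : allBelow (fun k => fq0 (Nat.add 107296 k)) 224 = true := by decide +kernel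
theorem q0u479 : ∀ i, i < 107520 → fq0 i = true := below_step fq0 107296 224 107520 q0u478 q0c479 rfl
theorem q0c480 : allBelow (fun k => fq0 (Nat.add 107520 k)) 224 = true := by decide +kernel
theorem q0u480 : ∀ i, i < 107744 → fq0 i = true := below_step fq0 107520 224 107744 q0u479 q0c480 rfl
theorem q0c481 : allBelow (fun k => fq0 (Nat.add 107744 k)) 224 = true := by decide +kernel
theorem q0u481 : ∀ i, i < 107968 → fq0 i = true := below_step fq0 107744 224 107968 q0u480 q0c481 rfl
theorem q0c482 : allBelow (fun k => fq0 (Nat.add 107968 k)) 224 = true := by decide +kernel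
theorem q0u482 : ∀ i, i < 108192 → fq0 i = true := below_step fq0 107968 224 108192 q0u481 q0c482 rfl
theorem q0c483 : allBelow (fun k => fq0 (Nat.add 108192 k)) 224 = true := by decide +kernel
theorem q0u483 : ∀ i, i < 108416 → fq0 i = true := below_step fq0 108192 224 108416 q0u482 q0c483 rfl
theorem q0c484 : allBelow (fun k => fq0 (Nat.add 108416 k)) 224 = true := by decide +kernel
theorem q0u484 : ∀ i, i < 108640 → fq0 i = true := below_step fq0 108416 224 108640 q0u483 q0c484 rfl
theorem q0c485 : allBelow (fun k => fq0 (Nat.add 108640 k)) 224 = true := by decide +kernel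
theorem q0u485 : ∀ i, i < 108864 → fq0 i = true := below_step fq0 108640 224 108864 q0u484 q0c485 rfl
theorem q0c486 : allBelow (fun k => fq0 (Nat.add 108864 k)) 224 = true := by decide +kernel
theorem q0u486 : ∀ i, i < 109088 → fq0 i = true := below_step fq0 108864 224 109088 q0u485 q0c486 rfl
theorem q0c487 : allBelow (fun k => fq0 (Nat.add 109088 k)) 224 = true := by decide +kernel
theorem q0u487 : ∀ i, i < 109312 → fq0 i = true := below_step fq0 109088 224 109312 q0u486 q0c487 rfl
theorem q0c488 : allBelow (fun k => fq0 (Nat.add 109312 k)) 224 = true := by decide +kernel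
theorem q0u488 : ∀ i, i < 109536 → fq0 i = true := below_step fq0 109312 224 109536 q0u487 q0c488 rfl
theorem q0c489 : allBelow (fun k => fq0 (Nat.add 109536 k)) 224 = true := by decide +kernel
theorem q0u489 : ∀ i, i < 109760 → fq0 i = true := below_step fq0 109536 224 109760 q0u488 q0c489 rfl
theorem q0c490 : allBelow (fun k => fq0 (Nat.add 109760 k)) 224 = true := by decide +kernel
theorem q0u490 : ∀ i, i < 109984 → fq0 i = true := below_step fq0 109760 224 109984 q0u489 q0c490 rfl
theorem q0c491 : allBelow (fun k => fq0 (Nat.add 109984 k)) 224 = true := by decide +kernel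
theorem q0u491 : ∀ i, i < 110208 → fq0 i = true := below_step fq0 109984 224 110208 q0u490 q0c491 rfl
theorem q0c492 : allBelow (fun k => fq0 (Nat.add 110208 k)) 224 = true := by decide +kernel
theorem q0u492 : ∀ i, i < 110432 → fq0 i = true := below_step fq0 110208 224 110432 q0u491 q0c492 rfl
theorem q0c493 : allBelow (fun k => fq0 (Nat.add 110432 k)) 224 = true := by decide +kernel
theorem q0u493 : ∀ i, i < 110656 → fq0 i = true := below_step fq0 110432 224 110656 q0u492 q0c493 rfl
theorem q0c494 : allBelow (fun k => fq0 (Nat.add 110656 k)) 224 = true := by decide +kernel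
theorem q0u494 : ∀ i, i < 110880 → fq0 i = true := below_step fq0 110656 224 110880 q0u493 q0c494 rfl
theorem q0c495 : allBelow (fun k => fq0 (Nat.add 110880 k)) 224 = true := by decide +kernel
theorem q0u495 : ∀ i, i < 111104 → fq0 i = true := below_step fq0 110880 224 111104 q0u494 q0c495 rfl
theorem q0c496 : allBelow (fun k => fq0 (Nat.add 111104 k)) 224 = true := by decide +kernel
theorem q0u496 : ∀ i, i < 111328 → fq0 i = true := below_step fq0 111104 224 111328 q0u495 q0c496 rfl
theorem q0c497 : allBelow (fun k => fq0 (Nat.add 111328 k)) 224 = true := by decide +kernel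
theorem q0u497 : ∀ i, i < 111552 → fq0 i = true := below_step fq0 111328 224 111552 q0u496 q0c497 rfl
theorem q0c498 : allBelow (fun k => fq0 (Nat.add 111552 k)) 224 = true := by decide +kernel
theorem q0u498 : ∀ i, i < 111776 → fq0 i = true := below_step fq0 111552 224 111776 q0u497 q0c498 rfl
theorem q0c499 : allBelow (fun k => fq0 (Nat.add 111776 k)) 224 = true := by decide +kernel
theorem q0u499 : ∀ i, i < 112000 → fq0 i = true := below_step fq0 111776 224 112000 q0u498 q0c499 rfl
theorem q0c500 : allBelow (fun k => fq0 (Nat.add 112000 k)) 224 = true := by decide +kernel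
theorem q0u500 : ∀ i, i < 112224 → fq0 i = true := below_step fq0 112000 224 112224 q0u499 q0c500 rfl
theorem q0c501 : allBelow (fun k => fq0 (Nat.add 112224 k)) 224 = true := by decide +kernel
theorem q0u501 : ∀ i, i < 112448 → fq0 i = true := below_step fq0 112224 224 112448 q0u500 q0c501 rfl
theorem q0c502 : allBelow (fun k => fq0 (Nat.add 112448 k)) 224 = true := by decide +kernel
theorem q0u502 : ∀ i, i < 112672 → fq0 i = true := below_step fq0 112448 224 112672 q0u501 q0c502 rfl
theorem q0c503 : allBelow (fun k => fq0 (Nat.add 112672 k)) 224 = true := by decide +kernel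
theorem q0u503 : ∀ i, i < 112896 → fq0 i = true := below_step fq0 112672 224 112896 q0u502 q0c503 rfl
theorem q0c504 : allBelow (fun k => fq0 (Nat.add 112896 k)) 224 = true := by decide +kernel
theorem q0u504 : ∀ i, i < 113120 → fq0 i = true := below_step fq0 112896 224 113120 q0u503 q0c504 rfl
theorem q0c505 : allBelow (fun k => fq0 (Nat.add 113120 k)) 224 = true := by decide +kernel
theorem q0u505 : ∀ i, i < 113344 → fq0 i = true := below_step fq0 113120 224 113344 q0u504 q0c505 rfl
theorem q0c506 : allBelow (fun k => fq0 (Nat.add 113344 k)) 224 = true := by decide +kernel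
theorem q0u506 : ∀ i, i < 113568 → fq0 i = true := below_step fq0 113344 224 113568 q0u505 q0c506 rfl
theorem q0c507 : allBelow (fun k => fq0 (Nat.add 113568 k)) 224 = true := by decide +kernel
theorem q0u507 : ∀ i, i < 113792 → fq0 i = true := below_step fq0 113568 224 113792 q0u506 q0c507 rfl
theorem q0c508 : allBelow (fun k => fq0 (Nat.add 113792 k)) 224 = true := by decide +kernel
theorem q0u508 : ∀ i, i < 114016 → fq0 i = true := below_step fq0 113792 224 114016 q0u507 q0c508 rfl
theorem q0c509 : allBelow (fun k => fq0 (Nat.add 114016 k)) 224 = true := by decide +kernel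
theorem q0u509 : ∀ i, i < 114240 → fq0 i = true := below_step fq0 114016 224 114240 q0u508 q0c509 rfl
theorem q0c510 : allBelow (fun k => fq0 (Nat.add 114240 k)) 224 = true := by decide +kernel
theorem q0u510 : ∀ i, i < 114464 → fq0 i = true := below_step fq0 114240 224 114464 q0u509 q0c510 rfl
theorem q0c511 : allBelow (fun k => fq0 (Nat.add 114464 k)) 224 = true := by decide +kernel
theorem q0u511 : ∀ i, i < 114688 → fq0 i = true := below_step fq0 114464 224 114688 q0u510 q0c511 rfl
theorem q0c512 : allBelow (fun k => fq0 (Nat.add 114688 k)) 224 = true := by decide +kernel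
theorem q0u512 : ∀ i, i < 114912 → fq0 i = true := below_step fq0 114688 224 114912 q0u511 q0c512 rfl
theorem q0c513 : allBelow (fun k => fq0 (Nat.add 114912 k)) 224 = true := by decide +kernel
theorem q0u513 : ∀ i, i < 115136 → fq0 i = true := below_step fq0 114912 224 115136 q0u512 q0c513 rfl
theorem q0c514 : allBelow (fun k => fq0 (Nat.add 115136 k)) 224 = true := by decide +kernel
theorem q0u514 : ∀ i, i < 115360 → fq0 i = true := below_step fq0 115136 224 115360 q0u513 q0c514 rfl
theorem q0c515 : allBelow (fun k => fq0 (Nat.add 115360 k)) 224 = true := by decide +kernel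
theorem q0u515 : ∀ i, i < 115584 → fq0 i = true := below_step fq0 115360 224 115584 q0u514 q0c515 rfl
theorem q0c516 : allBelow (fun k => fq0 (Nat.add 115584 k)) 224 = true := by decide +kernel
theorem q0u516 : ∀ i, i < 115808 → fq0 i = true := below_step fq0 115584 224 115808 q0u515 q0c516 rfl
theorem q0c517 : allBelow (fun k => fq0 (Nat.add 115808 k)) 224 = true := by decide +kernel
theorem q0u517 : ∀ i, i < 116032 → fq0 i = true := below_step fq0 115808 224 116032 q0u516 q0c517 rfl
theorem q0c518 : allBelow (fun k => fq0 (Nat.add 116032 k)) 224 = true := by decide +kernel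
theorem q0u518 : ∀ i, i < 116256 → fq0 i = true := below_step fq0 116032 224 116256 q0u517 q0c518 rfl
theorem q0c519 : allBelow (fun k => fq0 (Nat.add 116256 k)) 224 = true := by decide +kernel
theorem q0u519 : ∀ i, i < 116480 → fq0 i = true := below_step fq0 116256 224 116480 q0u518 q0c519 rfl
theorem q0c520 : allBelow (fun k => fq0 (Nat.add 116480 k)) 224 = true := by decide +kernel
theorem q0u520 : ∀ i, i < 116704 → fq0 i = true := below_step fq0 116480 224 116704 q0u519 q0c520 rfl
theorem q0c521 : allBelow (fun k => fq0 (Nat.add 116704 k)) 224 = true := by decide +kernel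
theorem q0u521 : ∀ i, i < 116928 → fq0 i = true := below_step fq0 116704 224 116928 q0u520 q0c521 rfl
theorem q0c522 : allBelow (fun k => fq0 (Nat.add 116928 k)) 224 = true := by decide +kernel
theorem q0u522 : ∀ i, i < 117152 → fq0 i = true := below_step fq0 116928 224 117152 q0u521 q0c522 rfl
theorem q0c523 : allBelow (fun k => fq0 (Nat.add 117152 k)) 224 = true := by decide +kernel
theorem q0u523 : ∀ i, i < 117376 → fq0 i = true := below_step fq0 117152 224 117376 q0u522 q0c523 rfl
theorem q0c524 : allBelow (fun k => fq0 (Nat.add 117376 k)) 224 = true := by decide +kernel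
theorem q0u524 : ∀ i, i < 117600 → fq0 i = true := below_step fq0 117376 224 117600 q0u523 q0c524 rfl
theorem q0c525 : allBelow (fun k => fq0 (Nat.add 117600 k)) 224 = true := by decide +kernel
theorem q0u525 : ∀ i, i < 117824 → fq0 i = true := below_step fq0 117600 224 117824 q0u524 q0c525 rfl
theorem q0c526 : allBelow (fun k => fq0 (Nat.add 117824 k)) 224 = true := by decide +kernel
theorem q0u526 : ∀ i, i < 118048 → fq0 i = true := below_step fq0 117824 224 118048 q0u525 q0c526 rfl
theorem q0c527 : allBelow (fun k => fq0 (Nat.add 118048 k)) 224 = true := by decide +kernel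
theorem q0u527 : ∀ i, i < 118272 → fq0 i = true := below_step fq0 118048 224 118272 q0u526 q0c527 rfl
theorem q0c528 : allBelow (fun k => fq0 (Nat.add 118272 k)) 224 = true := by decide +kernel
theorem q0u528 : ∀ i, i < 118496 → fq0 i = true := below_step fq0 118272 224 118496 q0u527 q0c528 rfl
theorem q0c529 : allBelow (fun k => fq0 (Nat.add 118496 k)) 224 = true := by decide +kernel
theorem q0u529 : ∀ i, i < 118720 → fq0 i = true := below_step fq0 118496 224 118720 q0u528 q0c529 rfl
theorem q0c530 : allBelow (fun k => fq0 (Nat.add 118720 k)) 224 = true := by decide +kernel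
theorem q0u530 : ∀ i, i < 118944 → fq0 i = true := below_step fq0 118720 224 118944 q0u529 q0c530 rfl
theorem q0c531 : allBelow (fun k => fq0 (Nat.add 118944 k)) 224 = true := by decide +kernel
theorem q0u531 : ∀ i, i < 119168 → fq0 i = true := below_step fq0 118944 224 119168 q0u530 q0c531 rfl
theorem q0c532 : allBelow (fun k => fq0 (Nat.add 119168 k)) 224 = true := by decide +kernel
theorem q0u532 : ∀ i, i < 119392 → fq0 i = true := below_step fq0 119168 224 119392 q0u531 q0c532 rfl
theorem q0c533 : allBelow (fun k => fq0 (Nat.add 119392 k)) 224 = true := by decide +kernel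
theorem q0u533 : ∀ i, i < 119616 → fq0 i = true := below_step fq0 119392 224 119616 q0u532 q0c533 rfl
theorem q0c534 : allBelow (fun k => fq0 (Nat.add 119616 k)) 224 = true := by decide +kernel
theorem q0u534 : ∀ i, i < 119840 → fq0 i = true := below_step fq0 119616 224 119840 q0u533 q0c534 rfl
theorem q0c535 : allBelow (fun k => fq0 (Nat.add 119840 k)) 224 = true := by decide +kernel
theorem q0u535 : ∀ i, i < 120064 → fq0 i = true := below_step fq0 119840 224 120064 q0u534 q0c535 rfl
theorem q0c536 : allBelow (fun k => fq0 (Nat.add 120064 k)) 224 = true := by decide +kernel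
theorem q0u536 : ∀ i, i < 120288 → fq0 i = true := below_step fq0 120064 224 120288 q0u535 q0c536 rfl
theorem q0c537 : allBelow (fun k => fq0 (Nat.add 120288 k)) 224 = true := by decide +kernel
theorem q0u537 : ∀ i, i < 120512 → fq0 i = true := below_step fq0 120288 224 120512 q0u536 q0c537 rfl
theorem q0c538 : allBelow (fun k => fq0 (Nat.add 120512 k)) 224 = true := by decide +kernel
theorem q0u538 : ∀ i, i < 120736 → fq0 i = true := below_step fq0 120512 224 120736 q0u537 q0c538 rfl
theorem q0c539 : allBelow (fun k => fq0 (Nat.add 120736 k)) 224 = true := by decide +kernel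
theorem q0u539 : ∀ i, i < 120960 → fq0 i = true := below_step fq0 120736 224 120960 q0u538 q0c539 rfl
theorem q0c540 : allBelow (fun k => fq0 (Nat.add 120960 k)) 224 = true := by decide +kernel
theorem q0u540 : ∀ i, i < 121184 → fq0 i = true := below_step fq0 120960 224 121184 q0u539 q0c540 rfl
theorem q0c541 : allBelow (fun k => fq0 (Nat.add 121184 k)) 224 = true := by decide +kernel
theorem q0u541 : ∀ i, i < 121408 → fq0 i = true := below_step fq0 121184 224 121408 q0u540 q0c541 rfl
theorem q0c542 : allBelow (fun k => fq0 (Nat.add 121408 k)) 224 = true := by decide +kernel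
theorem q0u542 : ∀ i, i < 121632 → fq0 i = true := below_step fq0 121408 224 121632 q0u541 q0c542 rfl
theorem q0c543 : allBelow (fun k => fq0 (Nat.add 121632 k)) 224 = true := by decide +kernel
theorem q0u543 : ∀ i, i < 121856 → fq0 i = true := below_step fq0 121632 224 121856 q0u542 q0c543 rfl
theorem q0c544 : allBelow (fun k => fq0 (Nat.add 121856 k)) 224 = true := by decide +kernel
theorem q0u544 : ∀ i, i < 122080 → fq0 i = true := below_step fq0 121856 224 122080 q0u543 q0c544 rfl
theorem q0c545 : allBelow (fun k => fq0 (Nat.add 122080 k)) 224 = true := by decide +kernel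
theorem q0u545 : ∀ i, i < 122304 → fq0 i = true := below_step fq0 122080 224 122304 q0u544 q0c545 rfl
theorem q0c546 : allBelow (fun k => fq0 (Nat.add 122304 k)) 224 = true := by decide +kernel
theorem q0u546 : ∀ i, i < 122528 → fq0 i = true := below_step fq0 122304 224 122528 q0u545 q0c546 rfl
theorem q0c547 : allBelow (fun k => fq0 (Nat.add 122528 k)) 224 = true := by decide +kernel
theorem q0u547 : ∀ i, i < 122752 → fq0 i = true := below_step fq0 122528 224 122752 q0u546 q0c547 rfl
theorem q0c548 : allBelow (fun k => fq0 (Nat.add 122752 k)) 8 = true := by decide +kernel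
theorem q0u548 : ∀ i, i < 122760 → fq0 i = true := below_step fq0 122752 8 122760 q0u547 q0c548 rfl
theorem m0z : countBelow fm0 0 = 0 := rfl
theorem m0k0 : countBelow (fun k => fm0 (Nat.add 0 k)) 3824 = 3824 := by decide +kernel
theorem m0n0 : countBelow fm0 3824 = 3824 := countBelow_step fm0 0 3824 3824 0 3824 3824 m0z m0k0 rfl rfl
theorem m0k1 : countBelow (fun k => fm0 (Nat.add 3824 k)) 3824 = 3824 := by decide +kernel
theorem m0n1 : countBelow fm0 7648 = 7648 := countBelow_step fm0 3824 3824 7648 3824 3824 7648 m0n0 m0k1 rfl rfl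
theorem m0k2 : countBelow (fun k => fm0 (Nat.add 7648 k)) 3824 = 3824 := by decide +kernel
theorem m0n2 : countBelow fm0 11472 = 11472 := countBelow_step fm0 7648 3824 11472 7648 3824 11472 m0n1 m0k2 rfl rfl
theorem m0k3 : countBelow (fun k => fm0 (Nat.add 11472 k)) 3824 = 3824 := by decide +kernel
theorem m0n3 : countBelow fm0 15296 = 15296 := countBelow_step fm0 11472 3824 15296 11472 3824 15296 m0n2 m0k3 rfl rfl
theorem m0k4 : countBelow (fun k => fm0 (Nat.add 15296 k)) 3824 = 3824 := by decide +kernel
theorem m0n4 : countBelow fm0 19120 = 19120 := countBelow_step fm0 15296 3824 19120 15296 3824 19120 m0n3 m0k4 rfl rfl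
theorem m0k5 : countBelow (fun k => fm0 (Nat.add 19120 k)) 3824 = 3824 := by decide +kernel
theorem m0n5 : countBelow fm0 22944 = 22944 := countBelow_step fm0 19120 3824 22944 19120 3824 22944 m0n4 m0k5 rfl rfl
theorem m0k6 : countBelow (fun k => fm0 (Nat.add 22944 k)) 3824 = 3824 := by decide +kernel
theorem m0n6 : countBelow fm0 26768 = 26768 := countBelow_step fm0 22944 3824 26768 22944 3824 26768 m0n5 m0k6 rfl rfl
theorem m0k7 : countBelow (fun k => fm0 (Nat.add 26768 k)) 3824 = 3824 := by decide +kernel
theorem m0n7 : countBelow fm0 30592 = 30592 := countBelow_step fm0 26768 3824 30592 26768 3824 30592 m0n6 m0k7 rfl rfl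
theorem m0k8 : countBelow (fun k => fm0 (Nat.add 30592 k)) 3824 = 3824 := by decide +kernel
theorem m0n8 : countBelow fm0 34416 = 34416 := countBelow_step fm0 30592 3824 34416 30592 3824 34416 m0n7 m0k8 rfl rfl
theorem m0k9 : countBelow (fun k => fm0 (Nat.add 34416 k)) 3824 = 3824 := by decide +kernel
theorem m0n9 : countBelow fm0 38240 = 38240 := countBelow_step fm0 34416 3824 38240 34416 3824 38240 m0n8 m0k9 rfl rfl
theorem m0k10 : countBelow (fun k => fm0 (Nat.add 38240 k)) 3824 = 3824 := by decide +kernel
theorem m0n10 : countBelow fm0 42064 = 42064 := countBelow_step fm0 38240 3824 42064 38240 3824 42064 m0n9 m0k10 rfl rfl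
theorem m0k11 : countBelow (fun k => fm0 (Nat.add 42064 k)) 3824 = 3824 := by decide +kernel
theorem m0n11 : countBelow fm0 45888 = 45888 := countBelow_step fm0 42064 3824 45888 42064 3824 45888 m0n10 m0k11 rfl rfl
theorem m0k12 : countBelow (fun k => fm0 (Nat.add 45888 k)) 3824 = 3824 := by decide +kernel
theorem m0n12 : countBelow fm0 49712 = 49712 := countBelow_step fm0 45888 3824 49712 45888 3824 49712 m0n11 m0k12 rfl rfl
theorem m0k13 : countBelow (fun k => fm0 (Nat.add 49712 k)) 3824 = 3824 := by decide +kernel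
theorem m0n13 : countBelow fm0 53536 = 53536 := countBelow_step fm0 49712 3824 53536 49712 3824 53536 m0n12 m0k13 rfl rfl
theorem m0k14 : countBelow (fun k => fm0 (Nat.add 53536 k)) 3824 = 3824 := by decide +kernel
theorem m0n14 : countBelow fm0 57360 = 57360 := countBelow_step fm0 53536 3824 57360 53536 3824 57360 m0n13 m0k14 rfl rfl
theorem m0k15 : countBelow (fun k => fm0 (Nat.add 57360 k)) 3824 = 3824 := by decide +kernel
theorem m0n15 : countBelow fm0 61184 = 61184 := countBelow_step fm0 57360 3824 61184 57360 3824 61184 m0n14 m0k15 rfl rfl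
theorem m0k16 : countBelow (fun k => fm0 (Nat.add 61184 k)) 3824 = 3824 := by decide +kernel
theorem m0n16 : countBelow fm0 65008 = 65008 := countBelow_step fm0 61184 3824 65008 61184 3824 65008 m0n15 m0k16 rfl rfl
theorem m0k17 : countBelow (fun k => fm0 (Nat.add 65008 k)) 3824 = 3824 := by decide +kernel
theorem m0n17 : countBelow fm0 68832 = 68832 := countBelow_step fm0 65008 3824 68832 65008 3824 68832 m0n16 m0k17 rfl rfl
theorem m0k18 : countBelow (fun k => fm0 (Nat.add 68832 k)) 3824 = 3824 := by decide +kernel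
theorem m0n18 : countBelow fm0 72656 = 72656 := countBelow_step fm0 68832 3824 72656 68832 3824 72656 m0n17 m0k18 rfl rfl
theorem m0k19 : countBelow (fun k => fm0 (Nat.add 72656 k)) 3824 = 3824 := by decide +kernel
theorem m0n19 : countBelow fm0 76480 = 76480 := countBelow_step fm0 72656 3824 76480 72656 3824 76480 m0n18 m0k19 rfl rfl
theorem m0k20 : countBelow (fun k => fm0 (Nat.add 76480 k)) 3824 = 3824 := by decide +kernel
theorem m0n20 : countBelow fm0 80304 = 80304 := countBelow_step fm0 76480 3824 80304 76480 3824 80304 m0n19 m0k20 rfl rfl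
theorem m0k21 : countBelow (fun k => fm0 (Nat.add 80304 k)) 3824 = 3824 := by decide +kernel
theorem m0n21 : countBelow fm0 84128 = 84128 := countBelow_step fm0 80304 3824 84128 80304 3824 84128 m0n20 m0k21 rfl rfl
theorem m0k22 : countBelow (fun k => fm0 (Nat.add 84128 k)) 3824 = 3824 := by decide +kernel
theorem m0n22 : countBelow fm0 87952 = 87952 := countBelow_step fm0 84128 3824 87952 84128 3824 87952 m0n21 m0k22 rfl rfl
theorem m0k23 : countBelow (fun k => fm0 (Nat.add 87952 k)) 3824 = 3824 := by decide +kernel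
theorem m0n23 : countBelow fm0 91776 = 91776 := countBelow_step fm0 87952 3824 91776 87952 3824 91776 m0n22 m0k23 rfl rfl
theorem m0k24 : countBelow (fun k => fm0 (Nat.add 91776 k)) 3824 = 3824 := by decide +kernel
theorem m0n24 : countBelow fm0 95600 = 95600 := countBelow_step fm0 91776 3824 95600 91776 3824 95600 m0n23 m0k24 rfl rfl
theorem m0k25 : countBelow (fun k => fm0 (Nat.add 95600 k)) 3824 = 3824 := by decide +kernel
theorem m0n25 : countBelow fm0 99424 = 99424 := countBelow_step fm0 95600 3824 99424 95600 3824 99424 m0n24 m0k25 rfl rfl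
theorem m0k26 : countBelow (fun k => fm0 (Nat.add 99424 k)) 3824 = 3824 := by decide +kernel
theorem m0n26 : countBelow fm0 103248 = 103248 := countBelow_step fm0 99424 3824 103248 99424 3824 103248 m0n25 m0k26 rfl rfl
theorem m0k27 : countBelow (fun k => fm0 (Nat.add 103248 k)) 3824 = 3824 := by decide +kernel
theorem m0n27 : countBelow fm0 107072 = 107072 := countBelow_step fm0 103248 3824 107072 103248 3824 107072 m0n26 m0k27 rfl rfl
theorem m0k28 : countBelow (fun k => fm0 (Nat.add 107072 k)) 3824 = 3824 := by decide +kernel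
theorem m0n28 : countBelow fm0 110896 = 110896 := countBelow_step fm0 107072 3824 110896 107072 3824 110896 m0n27 m0k28 rfl rfl
theorem m0k29 : countBelow (fun k => fm0 (Nat.add 110896 k)) 3824 = 3824 := by decide +kernel
theorem m0n29 : countBelow fm0 114720 = 114720 := countBelow_step fm0 110896 3824 114720 110896 3824 114720 m0n28 m0k29 rfl rfl
theorem m0k30 : countBelow (fun k => fm0 (Nat.add 114720 k)) 3824 = 3824 := by decide +kernel
theorem m0n30 : countBelow fm0 118544 = 118544 := countBelow_step fm0 114720 3824 118544 114720 3824 118544 m0n29 m0k30 rfl rfl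
theorem m0k31 : countBelow (fun k => fm0 (Nat.add 118544 k)) 3824 = 3824 := by decide +kernel
theorem m0n31 : countBelow fm0 122368 = 122368 := countBelow_step fm0 118544 3824 122368 118544 3824 122368 m0n30 m0k31 rfl rfl
theorem m0k32 : countBelow (fun k => fm0 (Nat.add 122368 k)) 392 = 392 := by decide +kernel
theorem m0n32 : countBelow fm0 122760 = 122760 := countBelow_step fm0 122368 392 122760 122368 392 122760 m0n31 m0k32 rfl rfl
theorem q1c0 : allBelow (fun k => fq1 (Nat.add 0 k)) 1016 = true := by decide +kernel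
theorem q1u0 : ∀ i, i < 1016 → fq1 i = true := below_step fq1 0 1016 1016 (below_zero fq1) q1c0 rfl
theorem q1c1 : allBelow (fun k => fq1 (Nat.add 1016 k)) 736 = true := by decide +kernel
theorem q1u1 : ∀ i, i < 1752 → fq1 i = true := below_step fq1 1016 736 1752 q1u0 q1c1 rfl
theorem q1c2 : allBelow (fun k => fq1 (Nat.add 1752 k)) 788 = true := by decide +kernel
theorem q1u2 : ∀ i, i < 2540 → fq1 i = true := below_step fq1 1752 788 2540 q1u1 q1c2 rfl
theorem q1c3 : allBelow (fun k => fq1 (Nat.add 2540 k)) 627 = true := by decide +kernel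
theorem q1u3 : ∀ i, i < 3167 → fq1 i = true := below_step fq1 2540 627 3167 q1u2 q1c3 rfl
theorem q1c4 : allBelow (fun k => fq1 (Nat.add 3167 k)) 592 = true := by decide +kernel
theorem q1u4 : ∀ i, i < 3759 → fq1 i = true := below_step fq1 3167 592 3759 q1u3 q1c4 rfl
theorem q1c5 : allBelow (fun k => fq1 (Nat.add 3759 k)) 704 = true := by decide +kernel
theorem q1u5 : ∀ i, i < 4463 → fq1 i = true := below_step fq1 3759 704 4463 q1u4 q1c5 rfl
theorem q1c6 : allBelow (fun k => fq1 (Nat.add 4463 k)) 540 = true := by decide +kernel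
theorem q1u6 : ∀ i, i < 5003 → fq1 i = true := below_step fq1 4463 540 5003 q1u5 q1c6 rfl
theorem q1c7 : allBelow (fun k => fq1 (Nat.add 5003 k)) 668 = true := by decide +kernel
theorem q1u7 : ∀ i, i < 5671 → fq1 i = true := below_step fq1 5003 668 5671 q1u6 q1c7 rfl
theorem q1c8 : allBelow (fun k => fq1 (Nat.add 5671 k)) 717 = true := by decide +kernel
theorem q1u8 : ∀ i, i < 6388 → fq1 i = true := below_step fq1 5671 717 6388 q1u7 q1c8 rfl
theorem q1c9 : allBelow (fun k => fq1 (Nat.add 6388 k)) 477 = true := by decide +kernel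
theorem q1u9 : ∀ i, i < 6865 → fq1 i = true := below_step fq1 6388 477 6865 q1u8 q1c9 rfl
theorem q1c10 : allBelow (fun k => fq1 (Nat.add 6865 k)) 626 = true := by decide +kernel
theorem q1u10 : ∀ i, i < 7491 → fq1 i = true := below_step fq1 6865 626 7491 q1u9 q1c10 rfl
theorem q1c11 : allBelow (fun k => fq1 (Nat.add 7491 k)) 537 = true := by decide +kernel
theorem q1u11 : ∀ i, i < 8028 → fq1 i = true := below_step fq1 7491 537 8028 q1u10 q1c11 rfl
theorem q1c12 : allBelow (fun k => fq1 (Nat.add 8028 k)) 615 = true := by decide +kernel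
theorem q1u12 : ∀ i, i < 8643 → fq1 i = true := below_step fq1 8028 615 8643 q1u11 q1c12 rfl
theorem q1c13 : allBelow (fun k => fq1 (Nat.add 8643 k)) 620 = true := by decide +kernel
theorem q1u13 : ∀ i, i < 9263 → fq1 i = true := below_step fq1 8643 620 9263 q1u12 q1c13 rfl
theorem q1c14 : allBelow (fun k => fq1 (Nat.add 9263 k)) 448 = true := by decide +kernel
theorem q1u14 : ∀ i, i < 9711 → fq1 i = true := below_step fq1 9263 448 9711 q1u13 q1c14 rfl
theorem q1c15 : allBelow (fun k => fq1 (Nat.add 9711 k)) 595 = true := by decide +kernel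
theorem q1u15 : ∀ i, i < 10306 → fq1 i = true := below_step fq1 9711 595 10306 q1u14 q1c15 rfl
theorem q1c16 : allBelow (fun k => fq1 (Nat.add 10306 k)) 636 = true := by decide +kernel
theorem q1u16 : ∀ i, i < 10942 → fq1 i = true := below_step fq1 10306 636 10942 q1u15 q1c16 rfl
theorem q1c17 : allBelow (fun k => fq1 (Nat.add 10942 k)) 624 = true := by decide +kernel
theorem q1u17 : ∀ i, i < 11566 → fq1 i = true := below_step fq1 10942 624 11566 q1u16 q1c17 rfl
theorem q1c18 : allBelow (fun k => fq1 (Nat.add 11566 k)) 542 = true := by decide +kernel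
theorem q1u18 : ∀ i, i < 12108 → fq1 i = true := below_step fq1 11566 542 12108 q1u17 q1c18 rfl
theorem q1c19 : allBelow (fun k => fq1 (Nat.add 12108 k)) 620 = true := by decide +kernel
theorem q1u19 : ∀ i, i < 12728 → fq1 i = true := below_step fq1 12108 620 12728 q1u18 q1c19 rfl
theorem q1c20 : allBelow (fun k => fq1 (Nat.add 12728 k)) 593 = true := by decide +kernel
theorem q1u20 : ∀ i, i < 13321 → fq1 i = true := below_step fq1 12728 593 13321 q1u19 q1c20 rfl
theorem q1c21 : allBelow (fun k => fq1 (Nat.add 13321 k)) 447 = true := by decide +kernel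
theorem q1u21 : ∀ i, i < 13768 → fq1 i = true := below_step fq1 13321 447 13768 q1u20 q1c21 rfl
theorem q1c22 : allBelow (fun k => fq1 (Nat.add 13768 k)) 582 = true := by decide +kernel
theorem q1u22 : ∀ i, i < 14350 → fq1 i = true := below_step fq1 13768 582 14350 q1u21 q1c22 rfl
theorem q1c23 : allBelow (fun k => fq1 (Nat.add 14350 k)) 592 = true := by decide +kernel
theorem q1u23 : ∀ i, i < 14942 → fq1 i = true := below_step fq1 14350 592 14942 q1u22 q1c23 rfl
theorem q1c24 : allBelow (fun k => fq1 (Nat.add 14942 k)) 568 = true := by decide +kernel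
theorem q1u24 : ∀ i, i < 15510 → fq1 i = true := below_step fq1 14942 568 15510 q1u23 q1c24 rfl
theorem q1c25 : allBelow (fun k => fq1 (Nat.add 15510 k)) 555 = true := by decide +kernel
theorem q1u25 : ∀ i, i < 16065 → fq1 i = true := below_step fq1 15510 555 16065 q1u24 q1c25 rfl
theorem q1c26 : allBelow (fun k => fq1 (Nat.add 16065 k)) 667 = true := by decide +kernel
theorem q1u26 : ∀ i, i < 16732 → fq1 i = true := below_step fq1 16065 667 16732 q1u25 q1c26 rfl
theorem q1c27 : allBelow (fun k => fq1 (Nat.add 16732 k)) 635 = true := by decide +kernel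
theorem q1u27 : ∀ i, i < 17367 → fq1 i = true := below_step fq1 16732 635 17367 q1u26 q1c27 rfl
theorem q1c28 : allBelow (fun k => fq1 (Nat.add 17367 k)) 629 = true := by decide +kernel
theorem q1u28 : ∀ i, i < 17996 → fq1 i = true := below_step fq1 17367 629 17996 q1u27 q1c28 rfl
theorem q1c29 : allBelow (fun k => fq1 (Nat.add 17996 k)) 603 = true := by decide +kernel
theorem q1u29 : ∀ i, i < 18599 → fq1 i = true := below_step fq1 17996 603 18599 q1u28 q1c29 rfl
theorem q1c30 : allBelow (fun k => fq1 (Nat.add 18599 k)) 435 = true := by decide +kernel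
theorem q1u30 : ∀ i, i < 19034 → fq1 i = true := below_step fq1 18599 435 19034 q1u29 q1c30 rfl
theorem q1c31 : allBelow (fun k => fq1 (Nat.add 19034 k)) 440 = true := by decide +kernel
theorem q1u31 : ∀ i, i < 19474 → fq1 i = true := below_step fq1 19034 440 19474 q1u30 q1c31 rfl
theorem q1c32 : allBelow (fun k => fq1 (Nat.add 19474 k)) 568 = true := by decide +kernel
theorem q1u32 : ∀ i, i < 20042 → fq1 i = true := below_step fq1 19474 568 20042 q1u31 q1c32 rfl
theorem q1c33 : allBelow (fun k => fq1 (Nat.add 20042 k)) 619 = true := by decide +kernel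
theorem q1u33 : ∀ i, i < 20661 → fq1 i = true := below_step fq1 20042 619 20661 q1u32 q1c33 rfl
theorem q1c34 : allBelow (fun k => fq1 (Nat.add 20661 k)) 601 = true := by decide +kernel
theorem q1u34 : ∀ i, i < 21262 → fq1 i = true := below_step fq1 20661 601 21262 q1u33 q1c34 rfl
theorem q1c35 : allBelow (fun k => fq1 (Nat.add 21262 k)) 548 = true := by decide +kernel
theorem q1u35 : ∀ i, i < 21810 → fq1 i = true := below_step fq1 21262 548 21810 q1u34 q1c35 rfl
theorem q1c36 : allBelow (fun k => fq1 (Nat.add 21810 k)) 594 = true := by decide +kernel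
theorem q1u36 : ∀ i, i < 22404 → fq1 i = true := below_step fq1 21810 594 22404 q1u35 q1c36 rfl
theorem q1c37 : allBelow (fun k => fq1 (Nat.add 22404 k)) 668 = true := by decide +kernel
theorem q1u37 : ∀ i, i < 23072 → fq1 i = true := below_step fq1 22404 668 23072 q1u36 q1c37 rfl
theorem q1c38 : allBelow (fun k => fq1 (Nat.add 23072 k)) 507 = true := by decide +kernel
theorem q1u38 : ∀ i, i < 23579 → fq1 i = true := below_step fq1 23072 507 23579 q1u37 q1c38 rfl
theorem q1c39 : allBelow (fun k => fq1 (Nat.add 23579 k)) 535 = true := by decide +kernel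
theorem q1u39 : ∀ i, i < 24114 → fq1 i = true := below_step fq1 23579 535 24114 q1u38 q1c39 rfl
theorem q1c40 : allBelow (fun k => fq1 (Nat.add 24114 k)) 548 = true := by decide +kernel
theorem q1u40 : ∀ i, i < 24662 → fq1 i = true := below_step fq1 24114 548 24662 q1u39 q1c40 rfl
theorem q1c41 : allBelow (fun k => fq1 (Nat.add 24662 k)) 606 = true := by decide +kernel
theorem q1u41 : ∀ i, i < 25268 → fq1 i = true := below_step fq1 24662 606 25268 q1u40 q1c41 rfl
theorem q1c42 : allBelow (fun k => fq1 (Nat.add 25268 k)) 584 = true := by decide +kernel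
theorem q1u42 : ∀ i, i < 25852 → fq1 i = true := below_step fq1 25268 584 25852 q1u41 q1c42 rfl
theorem q1c43 : allBelow (fun k => fq1 (Nat.add 25852 k)) 620 = true := by decide +kernel
theorem q1u43 : ∀ i, i < 26472 → fq1 i = true := below_step fq1 25852 620 26472 q1u42 q1c43 rfl
theorem q1c44 : allBelow (fun k => fq1 (Nat.add 26472 k)) 535 = true := by decide +kernel
theorem q1u44 : ∀ i, i < 27007 → fq1 i = true := below_step fq1 26472 535 27007 q1u43 q1c44 rfl
theorem q1c45 : allBelow (fun k => fq1 (Nat.add 27007 k)) 484 = true := by decide +kernel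
theorem q1u45 : ∀ i, i < 27491 → fq1 i = true := below_step fq1 27007 484 27491 q1u44 q1c45 rfl
theorem q1c46 : allBelow (fun k => fq1 (Nat.add 27491 k)) 464 = true := by decide +kernel
theorem q1u46 : ∀ i, i < 27955 → fq1 i = true := below_step fq1 27491 464 27955 q1u45 q1c46 rfl
theorem q1c47 : allBelow (fun k => fq1 (Nat.add 27955 k)) 680 = true := by decide +kernel
theorem q1u47 : ∀ i, i < 28635 → fq1 i = true := below_step fq1 27955 680 28635 q1u46 q1c47 rfl
theorem q1c48 : allBelow (fun k => fq1 (Nat.add 28635 k)) 549 = true := by decide +kernel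
theorem q1u48 : ∀ i, i < 29184 → fq1 i = true := below_step fq1 28635 549 29184 q1u47 q1c48 rfl
theorem q1c49 : allBelow (fun k => fq1 (Nat.add 29184 k)) 627 = true := by decide +kernel
theorem q1u49 : ∀ i, i < 29811 → fq1 i = true := below_step fq1 29184 627 29811 q1u48 q1c49 rfl
theorem q1c50 : allBelow (fun k => fq1 (Nat.add 29811 k)) 585 = true := by decide +kernel
theorem q1u50 : ∀ i, i < 30396 → fq1 i = true := below_step fq1 29811 585 30396 q1u49 q1c50 rfl
theorem q1c51 : allBelow (fun k => fq1 (Nat.add 30396 k)) 625 = true := by decide +kernel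
theorem q1u51 : ∀ i, i < 31021 → fq1 i = true := below_step fq1 30396 625 31021 q1u50 q1c51 rfl
theorem q1c52 : allBelow (fun k => fq1 (Nat.add 31021 k)) 600 = true := by decide +kernel
theorem q1u52 : ∀ i, i < 31621 → fq1 i = true := below_step fq1 31021 600 31621 q1u51 q1c52 rfl
theorem q1c53 : allBelow (fun k => fq1 (Nat.add 31621 k)) 643 = true := by decide +kernel
theorem q1u53 : ∀ i, i < 32264 → fq1 i = true := below_step fq1 31621 643 32264 q1u52 q1c53 rfl
theorem q1c54 : allBelow (fun k => fq1 (Nat.add 32264 k)) 681 = true := by decide +kernel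
theorem q1u54 : ∀ i, i < 32945 → fq1 i = true := below_step fq1 32264 681 32945 q1u53 q1c54 rfl
theorem q1c55 : allBelow (fun k => fq1 (Nat.add 32945 k)) 629 = true := by decide +kernel
theorem q1u55 : ∀ i, i < 33574 → fq1 i = true := below_step fq1 32945 629 33574 q1u54 q1c55 rfl
theorem q1c56 : allBelow (fun k => fq1 (Nat.add 33574 k)) 575 = true := by decide +kernel
theorem q1u56 : ∀ i, i < 34149 → fq1 i = true := below_step fq1 33574 575 34149 q1u55 q1c56 rfl
theorem q1c57 : allBelow (fun k => fq1 (Nat.add 34149 k)) 520 = true := by decide +kernel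
theorem q1u57 : ∀ i, i < 34669 → fq1 i = true := below_step fq1 34149 520 34669 q1u56 q1c57 rfl
theorem q1c58 : allBelow (fun k => fq1 (Nat.add 34669 k)) 562 = true := by decide +kernel
theorem q1u58 : ∀ i, i < 35231 → fq1 i = true := below_step fq1 34669 562 35231 q1u57 q1c58 rfl
theorem q1c59 : allBelow (fun k => fq1 (Nat.add 35231 k)) 660 = true := by decide +kernel
theorem q1u59 : ∀ i, i < 35891 → fq1 i = true := below_step fq1 35231 660 35891 q1u58 q1c59 rfl
theorem q1c60 : allBelow (fun k => fq1 (Nat.add 35891 k)) 652 = true := by decide +kernel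
theorem q1u60 : ∀ i, i < 36543 → fq1 i = true := below_step fq1 35891 652 36543 q1u59 q1c60 rfl
theorem q1c61 : allBelow (fun k => fq1 (Nat.add 36543 k)) 491 = true := by decide +kernel
theorem q1u61 : ∀ i, i < 37034 → fq1 i = true := below_step fq1 36543 491 37034 q1u60 q1c61 rfl
theorem q1c62 : allBelow (fun k => fq1 (Nat.add 37034 k)) 477 = true := by decide +kernel
theorem q1u62 : ∀ i, i < 37511 → fq1 i = true := below_step fq1 37034 477 37511 q1u61 q1c62 rfl
theorem q1c63 : allBelow (fun k => fq1 (Nat.add 37511 k)) 518 = true := by decide +kernel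
theorem q1u63 : ∀ i, i < 38029 → fq1 i = true := below_step fq1 37511 518 38029 q1u62 q1c63 rfl
theorem q1c64 : allBelow (fun k => fq1 (Nat.add 38029 k)) 472 = true := by decide +kernel
theorem q1u64 : ∀ i, i < 38501 → fq1 i = true := below_step fq1 38029 472 38501 q1u63 q1c64 rfl
theorem q1c65 : allBelow (fun k => fq1 (Nat.add 38501 k)) 704 = true := by decide +kernel
theorem q1u65 : ∀ i, i < 39205 → fq1 i = true := below_step fq1 38501 704 39205 q1u64 q1c65 rfl
theorem q1c66 : allBelow (fun k => fq1 (Nat.add 39205 k)) 530 = true := by decide +kernel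
theorem q1u66 : ∀ i, i < 39735 → fq1 i = true := below_step fq1 39205 530 39735 q1u65 q1c66 rfl
theorem q1c67 : allBelow (fun k => fq1 (Nat.add 39735 k)) 610 = true := by decide +kernel
theorem q1u67 : ∀ i, i < 40345 → fq1 i = true := below_step fq1 39735 610 40345 q1u66 q1c67 rfl
theorem q1c68 : allBelow (fun k => fq1 (Nat.add 40345 k)) 606 = true := by decide +kernel
theorem q1u68 : ∀ i, i < 40951 → fq1 i = true := below_step fq1 40345 606 40951 q1u67 q1c68 rfl
theorem q1c69 : allBelow (fun k => fq1 (Nat.add 40951 k)) 682 = true := by decide +kernel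
theorem q1u69 : ∀ i, i < 41633 → fq1 i = true := below_step fq1 40951 682 41633 q1u68 q1c69 rfl
theorem q1c70 : allBelow (fun k => fq1 (Nat.add 41633 k)) 540 = true := by decide +kernel
theorem q1u70 : ∀ i, i < 42173 → fq1 i = true := below_step fq1 41633 540 42173 q1u69 q1c70 rfl
theorem q1c71 : allBelow (fun k => fq1 (Nat.add 42173 k)) 554 = true := by decide +kernel
theorem q1u71 : ∀ i, i < 42727 → fq1 i = true := below_step fq1 42173 554 42727 q1u70 q1c71 rfl
theorem q1c72 : allBelow (fun k => fq1 (Nat.add 42727 k)) 599 = true := by decide +kernel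
theorem q1u72 : ∀ i, i < 43326 → fq1 i = true := below_step fq1 42727 599 43326 q1u71 q1c72 rfl
theorem q1c73 : allBelow (fun k => fq1 (Nat.add 43326 k)) 523 = true := by decide +kernel
theorem q1u73 : ∀ i, i < 43849 → fq1 i = true := below_step fq1 43326 523 43849 q1u72 q1c73 rfl
theorem q1c74 : allBelow (fun k => fq1 (Nat.add 43849 k)) 545 = true := by decide +kernel
theorem q1u74 : ∀ i, i < 44394 → fq1 i = true := below_step fq1 43849 545 44394 q1u73 q1c74 rfl
theorem q1c75 : allBelow (fun k => fq1 (Nat.add 44394 k)) 704 = true := by decide +kernel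
theorem q1u75 : ∀ i, i < 45098 → fq1 i = true := below_step fq1 44394 704 45098 q1u74 q1c75 rfl
theorem q1c76 : allBelow (fun k => fq1 (Nat.add 45098 k)) 542 = true := by decide +kernel
theorem q1u76 : ∀ i, i < 45640 → fq1 i = true := below_step fq1 45098 542 45640 q1u75 q1c76 rfl
theorem q1c77 : allBelow (fun k => fq1 (Nat.add 45640 k)) 523 = true := by decide +kernel
theorem q1u77 : ∀ i, i < 46163 → fq1 i = true := below_step fq1 45640 523 46163 q1u76 q1c77 rfl
theorem q1c78 : allBelow (fun k => fq1 (Nat.add 46163 k)) 516 = true := by decide +kernel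
theorem q1u78 : ∀ i, i < 46679 → fq1 i = true := below_step fq1 46163 516 46679 q1u77 q1c78 rfl
theorem q1c79 : allBelow (fun k => fq1 (Nat.add 46679 k)) 546 = true := by decide +kernel
theorem q1u79 : ∀ i, i < 47225 → fq1 i = true := below_step fq1 46679 546 47225 q1u78 q1c79 rfl
theorem q1c80 : allBelow (fun k => fq1 (Nat.add 47225 k)) 672 = true := by decide +kernel
theorem q1u80 : ∀ i, i < 47897 → fq1 i = true := below_step fq1 47225 672 47897 q1u79 q1c80 rfl
theorem q1c81 : allBelow (fun k => fq1 (Nat.add 47897 k)) 524 = true := by decide +kernel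
theorem q1u81 : ∀ i, i < 48421 → fq1 i = true := below_step fq1 47897 524 48421 q1u80 q1c81 rfl
theorem q1c82 : allBelow (fun k => fq1 (Nat.add 48421 k)) 573 = true := by decide +kernel
theorem q1u82 : ∀ i, i < 48994 → fq1 i = true := below_step fq1 48421 573 48994 q1u81 q1c82 rfl
theorem q1c83 : allBelow (fun k => fq1 (Nat.add 48994 k)) 689 = true := by decide +kernel
theorem q1u83 : ∀ i, i < 49683 → fq1 i = true := below_step fq1 48994 689 49683 q1u82 q1c83 rfl
theorem q1c84 : allBelow (fun k => fq1 (Nat.add 49683 k)) 543 = true := by decide +kernel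
theorem q1u84 : ∀ i, i < 50226 → fq1 i = true := below_step fq1 49683 543 50226 q1u83 q1c84 rfl
theorem q1c85 : allBelow (fun k => fq1 (Nat.add 50226 k)) 608 = true := by decide +kernel
theorem q1u85 : ∀ i, i < 50834 → fq1 i = true := below_step fq1 50226 608 50834 q1u84 q1c85 rfl
theorem q1c86 : allBelow (fun k => fq1 (Nat.add 50834 k)) 579 = true := by decide +kernel
theorem q1u86 : ∀ i, i < 51413 → fq1 i = true := below_step fq1 50834 579 51413 q1u85 q1c86 rfl
theorem q1c87 : allBelow (fun k => fq1 (Nat.add 51413 k)) 518 = true := by decide +kernel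
theorem q1u87 : ∀ i, i < 51931 → fq1 i = true := below_step fq1 51413 518 51931 q1u86 q1c87 rfl
theorem q1c88 : allBelow (fun k => fq1 (Nat.add 51931 k)) 491 = true := by decide +kernel
theorem q1u88 : ∀ i, i < 52422 → fq1 i = true := below_step fq1 51931 491 52422 q1u87 q1c88 rfl
theorem q1c89 : allBelow (fun k => fq1 (Nat.add 52422 k)) 531 = true := by decide +kernel
theorem q1u89 : ∀ i, i < 52953 → fq1 i = true := below_step fq1 52422 531 52953 q1u88 q1c89 rfl
theorem q1c90 : allBelow (fun k => fq1 (Nat.add 52953 k)) 668 = true := by decide +kernel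
theorem q1u90 : ∀ i, i < 53621 → fq1 i = true := below_step fq1 52953 668 53621 q1u89 q1c90 rfl
theorem q1c91 : allBelow (fun k => fq1 (Nat.add 53621 k)) 735 = true := by decide +kernel
theorem q1u91 : ∀ i, i < 54356 → fq1 i = true := below_step fq1 53621 735 54356 q1u90 q1c91 rfl
theorem q1c92 : allBelow (fun k => fq1 (Nat.add 54356 k)) 516 = true := by decide +kernel
theorem q1u92 : ∀ i, i < 54872 → fq1 i = true := below_step fq1 54356 516 54872 q1u91 q1c92 rfl
theorem q1c93 : allBelow (fun k => fq1 (Nat.add 54872 k)) 620 = true := by decide +kernel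
theorem q1u93 : ∀ i, i < 55492 → fq1 i = true := below_step fq1 54872 620 55492 q1u92 q1c93 rfl
theorem q1c94 : allBelow (fun k => fq1 (Nat.add 55492 k)) 663 = true := by decide +kernel
theorem q1u94 : ∀ i, i < 56155 → fq1 i = true := below_step fq1 55492 663 56155 q1u93 q1c94 rfl
theorem q1c95 : allBelow (fun k => fq1 (Nat.add 56155 k)) 605 = true := by decide +kernel
theorem q1u95 : ∀ i, i < 56760 → fq1 i = true := below_step fq1 56155 605 56760 q1u94 q1c95 rfl
theorem q1c96 : allBelow (fun k => fq1 (Nat.add 56760 k)) 592 = true := by decide +kernel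
theorem q1u96 : ∀ i, i < 57352 → fq1 i = true := below_step fq1 56760 592 57352 q1u95 q1c96 rfl
theorem q1c97 : allBelow (fun k => fq1 (Nat.add 57352 k)) 682 = true := by decide +kernel
theorem q1u97 : ∀ i, i < 58034 → fq1 i = true := below_step fq1 57352 682 58034 q1u96 q1c97 rfl
theorem q1c98 : allBelow (fun k => fq1 (Nat.add 58034 k)) 716 = true := by decide +kernel
theorem q1u98 : ∀ i, i < 58750 → fq1 i = true := below_step fq1 58034 716 58750 q1u97 q1c98 rfl
theorem q1c99 : allBelow (fun k => fq1 (Nat.add 58750 k)) 608 = true := by decide +kernel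
theorem q1u99 : ∀ i, i < 59358 → fq1 i = true := below_step fq1 58750 608 59358 q1u98 q1c99 rfl
theorem q1c100 : allBelow (fun k => fq1 (Nat.add 59358 k)) 589 = true := by decide +kernel
theorem q1u100 : ∀ i, i < 59947 → fq1 i = true := below_step fq1 59358 589 59947 q1u99 q1c100 rfl
theorem q1c101 : allBelow (fun k => fq1 (Nat.add 59947 k)) 678 = true := by decide +kernel
theorem q1u101 : ∀ i, i < 60625 → fq1 i = true := below_step fq1 59947 678 60625 q1u100 q1c101 rfl
theorem q1c102 : allBelow (fun k => fq1 (Nat.add 60625 k)) 781 = true := by decide +kernel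
theorem q1u102 : ∀ i, i < 61406 → fq1 i = true := below_step fq1 60625 781 61406 q1u101 q1c102 rfl
theorem q1c103 : allBelow (fun k => fq1 (Nat.add 61406 k)) 514 = true := by decide +kernel
theorem q1u103 : ∀ i, i < 61920 → fq1 i = true := below_step fq1 61406 514 61920 q1u102 q1c103 rfl
theorem q1c104 : allBelow (fun k => fq1 (Nat.add 61920 k)) 680 = true := by decide +kernel
theorem q1u104 : ∀ i, i < 62600 → fq1 i = true := below_step fq1 61920 680 62600 q1u103 q1c104 rfl
theorem q1c105 : allBelow (fun k => fq1 (Nat.add 62600 k)) 597 = true := by decide +kernel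
theorem q1u105 : ∀ i, i < 63197 → fq1 i = true := below_step fq1 62600 597 63197 q1u104 q1c105 rfl
theorem q1c106 : allBelow (fun k => fq1 (Nat.add 63197 k)) 588 = true := by decide +kernel
theorem q1u106 : ∀ i, i < 63785 → fq1 i = true := below_step fq1 63197 588 63785 q1u105 q1c106 rfl
theorem q1c107 : allBelow (fun k => fq1 (Nat.add 63785 k)) 644 = true := by decide +kernel
theorem q1u107 : ∀ i, i < 64429 → fq1 i = true := below_step fq1 63785 644 64429 q1u106 q1c107 rfl
theorem q1c108 : allBelow (fun k => fq1 (Nat.add 64429 k)) 607 = true := by decide +kernel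
theorem q1u108 : ∀ i, i < 65036 → fq1 i = true := below_step fq1 64429 607 65036 q1u107 q1c108 rfl
theorem q1c109 : allBelow (fun k => fq1 (Nat.add 65036 k)) 674 = true := by decide +kernel
theorem q1u109 : ∀ i, i < 65710 → fq1 i = true := below_step fq1 65036 674 65710 q1u108 q1c109 rfl
theorem q1c110 : allBelow (fun k => fq1 (Nat.add 65710 k)) 571 = true := by decide +kernel
theorem q1u110 : ∀ i, i < 66281 → fq1 i = true := below_step fq1 65710 571 66281 q1u109 q1c110 rfl
theorem q1c111 : allBelow (fun k => fq1 (Nat.add 66281 k)) 676 = true := by decide +kernel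
theorem q1u111 : ∀ i, i < 66957 → fq1 i = true := below_step fq1 66281 676 66957 q1u110 q1c111 rfl
theorem q1c112 : allBelow (fun k => fq1 (Nat.add 66957 k)) 593 = true := by decide +kernel
theorem q1u112 : ∀ i, i < 67550 → fq1 i = true := below_step fq1 66957 593 67550 q1u111 q1c112 rfl
theorem q1c113 : allBelow (fun k => fq1 (Nat.add 67550 k)) 548 = true := by decide +kernel
theorem q1u113 : ∀ i, i < 68098 → fq1 i = true := below_step fq1 67550 548 68098 q1u112 q1c113 rfl
theorem q1c114 : allBelow (fun k => fq1 (Nat.add 68098 k)) 596 = true := by decide +kernel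
theorem q1u114 : ∀ i, i < 68694 → fq1 i = true := below_step fq1 68098 596 68694 q1u113 q1c114 rfl
theorem q1c115 : allBelow (fun k => fq1 (Nat.add 68694 k)) 538 = true := by decide +kernel
theorem q1u115 : ∀ i, i < 69232 → fq1 i = true := below_step fq1 68694 538 69232 q1u114 q1c115 rfl
theorem q1c116 : allBelow (fun k => fq1 (Nat.add 69232 k)) 523 = true := by decide +kernel
theorem q1u116 : ∀ i, i < 69755 → fq1 i = true := below_step fq1 69232 523 69755 q1u115 q1c116 rfl
theorem q1c117 : allBelow (fun k => fq1 (Nat.add 69755 k)) 676 = true := by decide +kernel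
theorem q1u117 : ∀ i, i < 70431 → fq1 i = true := below_step fq1 69755 676 70431 q1u116 q1c117 rfl
theorem q1c118 : allBelow (fun k => fq1 (Nat.add 70431 k)) 655 = true := by decide +kernel
theorem q1u118 : ∀ i, i < 71086 → fq1 i = true := below_step fq1 70431 655 71086 q1u117 q1c118 rfl
theorem q1c119 : allBelow (fun k => fq1 (Nat.add 71086 k)) 512 = true := by decide +kernel
theorem q1u119 : ∀ i, i < 71598 → fq1 i = true := below_step fq1 71086 512 71598 q1u118 q1c119 rfl
theorem q1c120 : allBelow (fun k => fq1 (Nat.add 71598 k)) 591 = true := by decide +kernel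
theorem q1u120 : ∀ i, i < 72189 → fq1 i = true := below_step fq1 71598 591 72189 q1u119 q1c120 rfl
theorem q1c121 : allBelow (fun k => fq1 (Nat.add 72189 k)) 711 = true := by decide +kernel
theorem q1u121 : ∀ i, i < 72900 → fq1 i = true := below_step fq1 72189 711 72900 q1u120 q1c121 rfl
theorem q1c122 : allBelow (fun k => fq1 (Nat.add 72900 k)) 704 = true := by decide +kernel
theorem q1u122 : ∀ i, i < 73604 → fq1 i = true := below_step fq1 72900 704 73604 q1u121 q1c122 rfl
theorem q1c123 : allBelow (fun k => fq1 (Nat.add 73604 k)) 597 = true := by decide +kernel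
theorem q1u123 : ∀ i, i < 74201 → fq1 i = true := below_step fq1 73604 597 74201 q1u122 q1c123 rfl
theorem q1c124 : allBelow (fun k => fq1 (Nat.add 74201 k)) 720 = true := by decide +kernel
theorem q1u124 : ∀ i, i < 74921 → fq1 i = true := below_step fq1 74201 720 74921 q1u123 q1c124 rfl
theorem q1c125 : allBelow (fun k => fq1 (Nat.add 74921 k)) 555 = true := by decide +kernel
theorem q1u125 : ∀ i, i < 75476 → fq1 i = true := below_step fq1 74921 555 75476 q1u124 q1c125 rfl
theorem q1c126 : allBelow (fun k => fq1 (Nat.add 75476 k)) 558 = true := by decide +kernel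
theorem q1u126 : ∀ i, i < 76034 → fq1 i = true := below_step fq1 75476 558 76034 q1u125 q1c126 rfl
theorem q1c127 : allBelow (fun k => fq1 (Nat.add 76034 k)) 662 = true := by decide +kernel
theorem q1u127 : ∀ i, i < 76696 → fq1 i = true := below_step fq1 76034 662 76696 q1u126 q1c127 rfl
theorem q1c128 : allBelow (fun k => fq1 (Nat.add 76696 k)) 522 = true := by decide +kernel
theorem q1u128 : ∀ i, i < 77218 → fq1 i = true := below_step fq1 76696 522 77218 q1u127 q1c128 rfl
theorem q1c129 : allBelow (fun k => fq1 (Nat.add 77218 k)) 512 = true := by decide +kernel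
theorem q1u129 : ∀ i, i < 77730 → fq1 i = true := below_step fq1 77218 512 77730 q1u128 q1c129 rfl
theorem q1c130 : allBelow (fun k => fq1 (Nat.add 77730 k)) 803 = true := by decide +kernel
theorem q1u130 : ∀ i, i < 78533 → fq1 i = true := below_step fq1 77730 803 78533 q1u129 q1c130 rfl
theorem q1c131 : allBelow (fun k => fq1 (Nat.add 78533 k)) 608 = true := by decide +kernel
theorem q1u131 : ∀ i, i < 79141 → fq1 i = true := below_step fq1 78533 608 79141 q1u130 q1c131 rfl
theorem q1c132 : allBelow (fun k => fq1 (Nat.add 79141 k)) 615 = true := by decide +kernel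
theorem q1u132 : ∀ i, i < 79756 → fq1 i = true := below_step fq1 79141 615 79756 q1u131 q1c132 rfl
theorem q1c133 : allBelow (fun k => fq1 (Nat.add 79756 k)) 531 = true := by decide +kernel
theorem q1u133 : ∀ i, i < 80287 → fq1 i = true := below_step fq1 79756 531 80287 q1u132 q1c133 rfl
theorem q1c134 : allBelow (fun k => fq1 (Nat.add 80287 k)) 644 = true := by decide +kernel
theorem q1u134 : ∀ i, i < 80931 → fq1 i = true := below_step fq1 80287 644 80931 q1u133 q1c134 rfl
theorem q1c135 : allBelow (fun k => fq1 (Nat.add 80931 k)) 568 = true := by decide +kernel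
theorem q1u135 : ∀ i, i < 81499 → fq1 i = true := below_step fq1 80931 568 81499 q1u134 q1c135 rfl
theorem q1c136 : allBelow (fun k => fq1 (Nat.add 81499 k)) 656 = true := by decide +kernel
theorem q1u136 : ∀ i, i < 82155 → fq1 i = true := below_step fq1 81499 656 82155 q1u135 q1c136 rfl
theorem q1c137 : allBelow (fun k => fq1 (Nat.add 82155 k)) 598 = true := by decide +kernel
theorem q1u137 : ∀ i, i < 82753 → fq1 i = true := below_step fq1 82155 598 82753 q1u136 q1c137 rfl
theorem q1c138 : allBelow (fun k => fq1 (Nat.add 82753 k)) 621 = true := by decide +kernel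
theorem q1u138 : ∀ i, i < 83374 → fq1 i = true := below_step fq1 82753 621 83374 q1u137 q1c138 rfl
theorem q1c139 : allBelow (fun k => fq1 (Nat.add 83374 k)) 747 = true := by decide +kernel
theorem q1u139 : ∀ i, i < 84121 → fq1 i = true := below_step fq1 83374 747 84121 q1u138 q1c139 rfl
theorem q1c140 : allBelow (fun k => fq1 (Nat.add 84121 k)) 539 = true := by decide +kernel
theorem q1u140 : ∀ i, i < 84660 → fq1 i = true := below_step fq1 84121 539 84660 q1u139 q1c140 rfl
theorem q1c141 : allBelow (fun k => fq1 (Nat.add 84660 k)) 644 = true := by decide +kernel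
theorem q1u141 : ∀ i, i < 85304 → fq1 i = true := below_step fq1 84660 644 85304 q1u140 q1c141 rfl
theorem q1c142 : allBelow (fun k => fq1 (Nat.add 85304 k)) 608 = true := by decide +kernel
theorem q1u142 : ∀ i, i < 85912 → fq1 i = true := below_step fq1 85304 608 85912 q1u141 q1c142 rfl
theorem q1c143 : allBelow (fun k => fq1 (Nat.add 85912 k)) 622 = true := by decide +kernel
theorem q1u143 : ∀ i, i < 86534 → fq1 i = true := below_step fq1 85912 622 86534 q1u142 q1c143 rfl
theorem q1c144 : allBelow (fun k => fq1 (Nat.add 86534 k)) 649 = true := by decide +kernel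
theorem q1u144 : ∀ i, i < 87183 → fq1 i = true := below_step fq1 86534 649 87183 q1u143 q1c144 rfl
theorem q1c145 : allBelow (fun k => fq1 (Nat.add 87183 k)) 560 = true := by decide +kernel
theorem q1u145 : ∀ i, i < 87743 → fq1 i = true := below_step fq1 87183 560 87743 q1u144 q1c145 rfl
theorem q1c146 : allBelow (fun k => fq1 (Nat.add 87743 k)) 584 = true := by decide +kernel
theorem q1u146 : ∀ i, i < 88327 → fq1 i = true := below_step fq1 87743 584 88327 q1u145 q1c146 rfl
theorem q1c147 : allBelow (fun k => fq1 (Nat.add 88327 k)) 677 = true := by decide +kernel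
theorem q1u147 : ∀ i, i < 89004 → fq1 i = true := below_step fq1 88327 677 89004 q1u146 q1c147 rfl
theorem q1c148 : allBelow (fun k => fq1 (Nat.add 89004 k)) 620 = true := by decide +kernel
theorem q1u148 : ∀ i, i < 89624 → fq1 i = true := below_step fq1 89004 620 89624 q1u147 q1c148 rfl
theorem q1c149 : allBelow (fun k => fq1 (Nat.add 89624 k)) 764 = true := by decide +kernel
theorem q1u149 : ∀ i, i < 90388 → fq1 i = true := below_step fq1 89624 764 90388 q1u148 q1c149 rfl
theorem q1c150 : allBelow (fun k => fq1 (Nat.add 90388 k)) 581 = true := by decide +kernel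
theorem q1u150 : ∀ i, i < 90969 → fq1 i = true := below_step fq1 90388 581 90969 q1u149 q1c150 rfl
theorem q1c151 : allBelow (fun k => fq1 (Nat.add 90969 k)) 698 = true := by decide +kernel
theorem q1u151 : ∀ i, i < 91667 → fq1 i = true := below_step fq1 90969 698 91667 q1u150 q1c151 rfl
theorem q1c152 : allBelow (fun k => fq1 (Nat.add 91667 k)) 608 = true := by decide +kernel
theorem q1u152 : ∀ i, i < 92275 → fq1 i = true := below_step fq1 91667 608 92275 q1u151 q1c152 rfl
theorem q1c153 : allBelow (fun k => fq1 (Nat.add 92275 k)) 628 = true := by decide +kernel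
theorem q1u153 : ∀ i, i < 92903 → fq1 i = true := below_step fq1 92275 628 92903 q1u152 q1c153 rfl
theorem q1c154 : allBelow (fun k => fq1 (Nat.add 92903 k)) 607 = true := by decide +kernel
theorem q1u154 : ∀ i, i < 93510 → fq1 i = true := below_step fq1 92903 607 93510 q1u153 q1c154 rfl
theorem q1c155 : allBelow (fun k => fq1 (Nat.add 93510 k)) 678 = true := by decide +kernel
theorem q1u155 : ∀ i, i < 94188 → fq1 i = true := below_step fq1 93510 678 94188 q1u154 q1c155 rfl
theorem q1c156 : allBelow (fun k => fq1 (Nat.add 94188 k)) 704 = true := by decide +kernel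
theorem q1u156 : ∀ i, i < 94892 → fq1 i = true := below_step fq1 94188 704 94892 q1u155 q1c156 rfl
theorem q1c157 : allBelow (fun k => fq1 (Nat.add 94892 k)) 813 = true := by decide +kernel
theorem q1u157 : ∀ i, i < 95705 → fq1 i = true := below_step fq1 94892 813 95705 q1u156 q1c157 rfl
theorem q1c158 : allBelow (fun k => fq1 (Nat.add 95705 k)) 544 = true := by decide +kernel
theorem q1u158 : ∀ i, i < 96249 → fq1 i = true := below_step fq1 95705 544 96249 q1u157 q1c158 rfl
theorem q1c159 : allBelow (fun k => fq1 (Nat.add 96249 k)) 653 = true := by decide +kernel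
theorem q1u159 : ∀ i, i < 96902 → fq1 i = true := below_step fq1 96249 653 96902 q1u158 q1c159 rfl
theorem q1c160 : allBelow (fun k => fq1 (Nat.add 96902 k)) 697 = true := by decide +kernel
theorem q1u160 : ∀ i, i < 97599 → fq1 i = true := below_step fq1 96902 697 97599 q1u159 q1c160 rfl
theorem q1c161 : allBelow (fun k => fq1 (Nat.add 97599 k)) 699 = true := by decide +kernel
theorem q1u161 : ∀ i, i < 98298 → fq1 i = true := below_step fq1 97599 699 98298 q1u160 q1c161 rfl
theorem q1c162 : allBelow (fun k => fq1 (Nat.add 98298 k)) 557 = true := by decide +kernel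
theorem q1u162 : ∀ i, i < 98855 → fq1 i = true := below_step fq1 98298 557 98855 q1u161 q1c162 rfl
theorem q1c163 : allBelow (fun k => fq1 (Nat.add 98855 k)) 727 = true := by decide +kernel
theorem q1u163 : ∀ i, i < 99582 → fq1 i = true := below_step fq1 98855 727 99582 q1u162 q1c163 rfl
theorem q1c164 : allBelow (fun k => fq1 (Nat.add 99582 k)) 728 = true := by decide +kernel
theorem q1u164 : ∀ i, i < 100310 → fq1 i = true := below_step fq1 99582 728 100310 q1u163 q1c164 rfl
theorem q1c165 : allBelow (fun k => fq1 (Nat.add 100310 k)) 735 = true := by decide +kernel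
theorem q1u165 : ∀ i, i < 101045 → fq1 i = true := below_step fq1 100310 735 101045 q1u164 q1c165 rfl
theorem q1c166 : allBelow (fun k => fq1 (Nat.add 101045 k)) 764 = true := by decide +kernel
theorem q1u166 : ∀ i, i < 101809 → fq1 i = true := below_step fq1 101045 764 101809 q1u165 q1c166 rfl
theorem q1c167 : allBelow (fun k => fq1 (Nat.add 101809 k)) 572 = true := by decide +kernel
theorem q1u167 : ∀ i, i < 102381 → fq1 i = true := below_step fq1 101809 572 102381 q1u166 q1c167 rfl
theorem q1c168 : allBelow (fun k => fq1 (Nat.add 102381 k)) 704 = true := by decide +kernel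
theorem q1u168 : ∀ i, i < 103085 → fq1 i = true := below_step fq1 102381 704 103085 q1u167 q1c168 rfl
theorem q1c169 : allBelow (fun k => fq1 (Nat.add 103085 k)) 673 = true := by decide +kernel
theorem q1u169 : ∀ i, i < 103758 → fq1 i = true := below_step fq1 103085 673 103758 q1u168 q1c169 rfl
theorem q1c170 : allBelow (fun k => fq1 (Nat.add 103758 k)) 616 = true := by decide +kernel
theorem q1u170 : ∀ i, i < 104374 → fq1 i = true := below_step fq1 103758 616 104374 q1u169 q1c170 rfl
theorem q1c171 : allBelow (fun k => fq1 (Nat.add 104374 k)) 597 = true := by decide +kernel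
theorem q1u171 : ∀ i, i < 104971 → fq1 i = true := below_step fq1 104374 597 104971 q1u170 q1c171 rfl
theorem q1c172 : allBelow (fun k => fq1 (Nat.add 104971 k)) 670 = true := by decide +kernel
theorem q1u172 : ∀ i, i < 105641 → fq1 i = true := below_step fq1 104971 670 105641 q1u171 q1c172 rfl
theorem q1c173 : allBelow (fun k => fq1 (Nat.add 105641 k)) 627 = true := by decide +kernel
theorem q1u173 : ∀ i, i < 106268 → fq1 i = true := below_step fq1 105641 627 106268 q1u172 q1c173 rfl
theorem q1c174 : allBelow (fun k => fq1 (Nat.add 106268 k)) 680 = true := by decide +kernel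
theorem q1u174 : ∀ i, i < 106948 → fq1 i = true := below_step fq1 106268 680 106948 q1u173 q1c174 rfl
theorem q1c175 : allBelow (fun k => fq1 (Nat.add 106948 k)) 716 = true := by decide +kernel
theorem q1u175 : ∀ i, i < 107664 → fq1 i = true := below_step fq1 106948 716 107664 q1u174 q1c175 rfl
theorem q1c176 : allBelow (fun k => fq1 (Nat.add 107664 k)) 782 = true := by decide +kernel
theorem q1u176 : ∀ i, i < 108446 → fq1 i = true := below_step fq1 107664 782 108446 q1u175 q1c176 rfl
theorem q1c177 : allBelow (fun k => fq1 (Nat.add 108446 k)) 683 = true := by decide +kernel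
theorem q1u177 : ∀ i, i < 109129 → fq1 i = true := below_step fq1 108446 683 109129 q1u176 q1c177 rfl
theorem q1c178 : allBelow (fun k => fq1 (Nat.add 109129 k)) 643 = true := by decide +kernel
theorem q1u178 : ∀ i, i < 109772 → fq1 i = true := below_step fq1 109129 643 109772 q1u177 q1c178 rfl
theorem q1c179 : allBelow (fun k => fq1 (Nat.add 109772 k)) 666 = true := by decide +kernel
theorem q1u179 : ∀ i, i < 110438 → fq1 i = true := below_step fq1 109772 666 110438 q1u178 q1c179 rfl
theorem q1c180 : allBelow (fun k => fq1 (Nat.add 110438 k)) 805 = true := by decide +kernel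
theorem q1u180 : ∀ i, i < 111243 → fq1 i = true := below_step fq1 110438 805 111243 q1u179 q1c180 rfl
theorem q1c181 : allBelow (fun k => fq1 (Nat.add 111243 k)) 622 = true := by decide +kernel
theorem q1u181 : ∀ i, i < 111865 → fq1 i = true := below_step fq1 111243 622 111865 q1u180 q1c181 rfl
theorem q1c182 : allBelow (fun k => fq1 (Nat.add 111865 k)) 724 = true := by decide +kernel
theorem q1u182 : ∀ i, i < 112589 → fq1 i = true := below_step fq1 111865 724 112589 q1u181 q1c182 rfl
theorem q1c183 : allBelow (fun k => fq1 (Nat.add 112589 k)) 688 = true := by decide +kernel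
theorem q1u183 : ∀ i, i < 113277 → fq1 i = true := below_step fq1 112589 688 113277 q1u182 q1c183 rfl
theorem q1c184 : allBelow (fun k => fq1 (Nat.add 113277 k)) 719 = true := by decide +kernel
theorem q1u184 : ∀ i, i < 113996 → fq1 i = true := below_step fq1 113277 719 113996 q1u183 q1c184 rfl
theorem q1c185 : allBelow (fun k => fq1 (Nat.add 113996 k)) 706 = true := by decide +kernel
theorem q1u185 : ∀ i, i < 114702 → fq1 i = true := below_step fq1 113996 706 114702 q1u184 q1c185 rfl
theorem q1c186 : allBelow (fun k => fq1 (Nat.add 114702 k)) 667 = true := by decide +kernel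
theorem q1u186 : ∀ i, i < 115369 → fq1 i = true := below_step fq1 114702 667 115369 q1u185 q1c186 rfl
theorem q1c187 : allBelow (fun k => fq1 (Nat.add 115369 k)) 687 = true := by decide +kernel
theorem q1u187 : ∀ i, i < 116056 → fq1 i = true := below_step fq1 115369 687 116056 q1u186 q1c187 rfl
theorem q1c188 : allBelow (fun k => fq1 (Nat.add 116056 k)) 884 = true := by decide +kernel
theorem q1u188 : ∀ i, i < 116940 → fq1 i = true := below_step fq1 116056 884 116940 q1u187 q1c188 rfl
theorem q1c189 : allBelow (fun k => fq1 (Nat.add 116940 k)) 752 = true := by decide +kernel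
theorem q1u189 : ∀ i, i < 117692 → fq1 i = true := below_step fq1 116940 752 117692 q1u188 q1c189 rfl
theorem q1c190 : allBelow (fun k => fq1 (Nat.add 117692 k)) 711 = true := by decide +kernel
theorem q1u190 : ∀ i, i < 118403 → fq1 i = true := below_step fq1 117692 711 118403 q1u189 q1c190 rfl
theorem q1c191 : allBelow (fun k => fq1 (Nat.add 118403 k)) 829 = true := by decide +kernel
theorem q1u191 : ∀ i, i < 119232 → fq1 i = true := below_step fq1 118403 829 119232 q1u190 q1c191 rfl
theorem q1c192 : allBelow (fun k => fq1 (Nat.add 119232 k)) 814 = true := by decide +kernel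
theorem q1u192 : ∀ i, i < 120046 → fq1 i = true := below_step fq1 119232 814 120046 q1u191 q1c192 rfl
theorem q1c193 : allBelow (fun k => fq1 (Nat.add 120046 k)) 878 = true := by decide +kernel
theorem q1u193 : ∀ i, i < 120924 → fq1 i = true := below_step fq1 120046 878 120924 q1u192 q1c193 rfl
theorem q1c194 : allBelow (fun k => fq1 (Nat.add 120924 k)) 896 = true := by decide +kernel
theorem q1u194 : ∀ i, i < 121820 → fq1 i = true := below_step fq1 120924 896 121820 q1u193 q1c194 rfl
theorem q1c195 : allBelow (fun k => fq1 (Nat.add 121820 k)) 940 = true := by decide +kernel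
theorem q1u195 : ∀ i, i < 122760 → fq1 i = true := below_step fq1 121820 940 122760 q1u194 q1c195 rfl
theorem m1z : countBelow fm1 0 = 0 := rfl
theorem m1k0 : countBelow (fun k => fm1 (Nat.add 0 k)) 3824 = 1300 := by decide +kernel
theorem m1n0 : countBelow fm1 3824 = 1300 := countBelow_step fm1 0 3824 3824 0 1300 1300 m1z m1k0 rfl rfl
theorem m1k1 : countBelow (fun k => fm1 (Nat.add 3824 k)) 3824 = 1674 := by decide +kernel
theorem m1n1 : countBelow fm1 7648 = 2974 := countBelow_step fm1 3824 3824 7648 1300 1674 2974 m1n0 m1k1 rfl rfl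
theorem m1k2 : countBelow (fun k => fm1 (Nat.add 7648 k)) 3824 = 1738 := by decide +kernel
theorem m1n2 : countBelow fm1 11472 = 4712 := countBelow_step fm1 7648 3824 11472 2974 1738 4712 m1n1 m1k2 rfl rfl
theorem m1k3 : countBelow (fun k => fm1 (Nat.add 11472 k)) 3824 = 1842 := by decide +kernel
theorem m1n3 : countBelow fm1 15296 = 6554 := countBelow_step fm1 11472 3824 15296 4712 1842 6554 m1n2 m1k3 rfl rfl
theorem m1k4 : countBelow (fun k => fm1 (Nat.add 15296 k)) 3824 = 1772 := by decide +kernel
theorem m1n4 : countBelow fm1 19120 = 8326 := countBelow_step fm1 15296 3824 19120 6554 1772 8326 m1n3 m1k4 rfl rfl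
theorem m1k5 : countBelow (fun k => fm1 (Nat.add 19120 k)) 3824 = 1808 := by decide +kernel
theorem m1n5 : countBelow fm1 22944 = 10134 := countBelow_step fm1 19120 3824 22944 8326 1808 10134 m1n4 m1k5 rfl rfl
theorem m1k6 : countBelow (fun k => fm1 (Nat.add 22944 k)) 3824 = 1806 := by decide +kernel
theorem m1n6 : countBelow fm1 26768 = 11940 := countBelow_step fm1 22944 3824 26768 10134 1806 11940 m1n5 m1k6 rfl rfl
theorem m1k7 : countBelow (fun k => fm1 (Nat.add 26768 k)) 3824 = 1840 := by decide +kernel
theorem m1n7 : countBelow fm1 30592 = 13780 := countBelow_step fm1 26768 3824 30592 11940 1840 13780 m1n6 m1k7 rfl rfl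
theorem m1k8 : countBelow (fun k => fm1 (Nat.add 30592 k)) 3824 = 1670 := by decide +kernel
theorem m1n8 : countBelow fm1 34416 = 15450 := countBelow_step fm1 30592 3824 34416 13780 1670 15450 m1n7 m1k8 rfl rfl
theorem m1k9 : countBelow (fun k => fm1 (Nat.add 34416 k)) 3824 = 1882 := by decide +kernel
theorem m1n9 : countBelow fm1 38240 = 17332 := countBelow_step fm1 34416 3824 38240 15450 1882 17332 m1n8 m1k9 rfl rfl
theorem m1k10 : countBelow (fun k => fm1 (Nat.add 38240 k)) 3824 = 1674 := by decide +kernel
theorem m1n10 : countBelow fm1 42064 = 19006 := countBelow_step fm1 38240 3824 42064 17332 1674 19006 m1n9 m1k10 rfl rfl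
theorem m1k11 : countBelow (fun k => fm1 (Nat.add 42064 k)) 3824 = 1821 := by decide +kernel
theorem m1n11 : countBelow fm1 45888 = 20827 := countBelow_step fm1 42064 3824 45888 19006 1821 20827 m1n10 m1k11 rfl rfl
theorem m1k12 : countBelow (fun k => fm1 (Nat.add 45888 k)) 3824 = 1782 := by decide +kernel
theorem m1n12 : countBelow fm1 49712 = 22609 := countBelow_step fm1 45888 3824 49712 20827 1782 22609 m1n11 m1k12 rfl rfl
theorem m1k13 : countBelow (fun k => fm1 (Nat.add 49712 k)) 3824 = 1837 := by decide +kernel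
theorem m1n13 : countBelow fm1 53536 = 24446 := countBelow_step fm1 49712 3824 53536 22609 1837 24446 m1n12 m1k13 rfl rfl
theorem m1k14 : countBelow (fun k => fm1 (Nat.add 53536 k)) 3824 = 1647 := by decide +kernel
theorem m1n14 : countBelow fm1 57360 = 26093 := countBelow_step fm1 53536 3824 57360 24446 1647 26093 m1n13 m1k14 rfl rfl
theorem m1k15 : countBelow (fun k => fm1 (Nat.add 57360 k)) 3824 = 1498 := by decide +kernel
theorem m1n15 : countBelow fm1 61184 = 27591 := countBelow_step fm1 57360 3824 61184 26093 1498 27591 m1n14 m1k15 rfl rfl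
theorem m1k16 : countBelow (fun k => fm1 (Nat.add 61184 k)) 3824 = 1662 := by decide +kernel
theorem m1n16 : countBelow fm1 65008 = 29253 := countBelow_step fm1 61184 3824 65008 27591 1662 29253 m1n15 m1k16 rfl rfl
theorem m1k17 : countBelow (fun k => fm1 (Nat.add 65008 k)) 3824 = 1656 := by decide +kernel
theorem m1n17 : countBelow fm1 68832 = 30909 := countBelow_step fm1 65008 3824 68832 29253 1656 30909 m1n16 m1k17 rfl rfl
theorem m1k18 : countBelow (fun k => fm1 (Nat.add 68832 k)) 3824 = 1730 := by decide +kernel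
theorem m1n18 : countBelow fm1 72656 = 32639 := countBelow_step fm1 68832 3824 72656 30909 1730 32639 m1n17 m1k18 rfl rfl
theorem m1k19 : countBelow (fun k => fm1 (Nat.add 72656 k)) 3824 = 1623 := by decide +kernel
theorem m1n19 : countBelow fm1 76480 = 34262 := countBelow_step fm1 72656 3824 76480 32639 1623 34262 m1n18 m1k19 rfl rfl
theorem m1k20 : countBelow (fun k => fm1 (Nat.add 76480 k)) 3824 = 1693 := by decide +kernel
theorem m1n20 : countBelow fm1 80304 = 35955 := countBelow_step fm1 76480 3824 80304 34262 1693 35955 m1n19 m1k20 rfl rfl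
theorem m1k21 : countBelow (fun k => fm1 (Nat.add 80304 k)) 3824 = 1588 := by decide +kernel
theorem m1n21 : countBelow fm1 84128 = 37543 := countBelow_step fm1 80304 3824 84128 35955 1588 37543 m1n20 m1k21 rfl rfl
theorem m1k22 : countBelow (fun k => fm1 (Nat.add 84128 k)) 3824 = 1697 := by decide +kernel
theorem m1n22 : countBelow fm1 87952 = 39240 := countBelow_step fm1 84128 3824 87952 37543 1697 39240 m1n21 m1k22 rfl rfl
theorem m1k23 : countBelow (fun k => fm1 (Nat.add 87952 k)) 3824 = 1554 := by decide +kernel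
theorem m1n23 : countBelow fm1 91776 = 40794 := countBelow_step fm1 87952 3824 91776 39240 1554 40794 m1n22 m1k23 rfl rfl
theorem m1k24 : countBelow (fun k => fm1 (Nat.add 91776 k)) 3824 = 1484 := by decide +kernel
theorem m1n24 : countBelow fm1 95600 = 42278 := countBelow_step fm1 91776 3824 95600 40794 1484 42278 m1n23 m1k24 rfl rfl
theorem m1k25 : countBelow (fun k => fm1 (Nat.add 95600 k)) 3824 = 1536 := by decide +kernel
theorem m1n25 : countBelow fm1 99424 = 43814 := countBelow_step fm1 95600 3824 99424 42278 1536 43814 m1n24 m1k25 rfl rfl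
theorem m1k26 : countBelow (fun k => fm1 (Nat.add 99424 k)) 3824 = 1461 := by decide +kernel
theorem m1n26 : countBelow fm1 103248 = 45275 := countBelow_step fm1 99424 3824 103248 43814 1461 45275 m1n25 m1k26 rfl rfl
theorem m1k27 : countBelow (fun k => fm1 (Nat.add 103248 k)) 3824 = 1556 := by decide +kernel
theorem m1n27 : countBelow fm1 107072 = 46831 := countBelow_step fm1 103248 3824 107072 45275 1556 46831 m1n26 m1k27 rfl rfl
theorem m1k28 : countBelow (fun k => fm1 (Nat.add 107072 k)) 3824 = 1381 := by decide +kernel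
theorem m1n28 : countBelow fm1 110896 = 48212 := countBelow_step fm1 107072 3824 110896 46831 1381 48212 m1n27 m1k28 rfl rfl
theorem m1k29 : countBelow (fun k => fm1 (Nat.add 110896 k)) 3824 = 1434 := by decide +kernel
theorem m1n29 : countBelow fm1 114720 = 49646 := countBelow_step fm1 110896 3824 114720 48212 1434 49646 m1n28 m1k29 rfl rfl
theorem m1k30 : countBelow (fun k => fm1 (Nat.add 114720 k)) 3824 = 1306 := by decide +kernel
theorem m1n30 : countBelow fm1 118544 = 50952 := countBelow_step fm1 114720 3824 118544 49646 1306 50952 m1n29 m1k30 rfl rfl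
theorem m1k31 : countBelow (fun k => fm1 (Nat.add 118544 k)) 3824 = 1096 := by decide +kernel
theorem m1n31 : countBelow fm1 122368 = 52048 := countBelow_step fm1 118544 3824 122368 50952 1096 52048 m1n30 m1k31 rfl rfl
theorem m1k32 : countBelow (fun k => fm1 (Nat.add 122368 k)) 392 = 88 := by decide +kernel
theorem m1n32 : countBelow fm1 122760 = 52136 := countBelow_step fm1 122368 392 122760 52048 88 52136 m1n31 m1k32 rfl rfl
theorem q2c0 : allBelow (fun k => fq2 (Nat.add 0 k)) 3824 = true := by decide +kernel
theorem q2u0 : ∀ i, i < 3824 → fq2 i = true := below_step fq2 0 3824 3824 (below_zero fq2) q2c0 rfl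
theorem q2c1 : allBelow (fun k => fq2 (Nat.add 3824 k)) 3770 = true := by decide +kernel
theorem q2u1 : ∀ i, i < 7594 → fq2 i = true := below_step fq2 3824 3770 7594 q2u0 q2c1 rfl
theorem q2c2 : allBelow (fun k => fq2 (Nat.add 7594 k)) 3806 = true := by decide +kernel
theorem q2u2 : ∀ i, i < 11400 → fq2 i = true := below_step fq2 7594 3806 11400 q2u1 q2c2 rfl
theorem q2c3 : allBelow (fun k => fq2 (Nat.add 11400 k)) 3725 = true := by decide +kernel
theorem q2u3 : ∀ i, i < 15125 → fq2 i = true := below_step fq2 11400 3725 15125 q2u2 q2c3 rfl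
theorem q2c4 : allBelow (fun k => fq2 (Nat.add 15125 k)) 3788 = true := by decide +kernel
theorem q2u4 : ∀ i, i < 18913 → fq2 i = true := below_step fq2 15125 3788 18913 q2u3 q2c4 rfl
theorem q2c5 : allBelow (fun k => fq2 (Nat.add 18913 k)) 3797 = true := by decide +kernel
theorem q2u5 : ∀ i, i < 22710 → fq2 i = true := below_step fq2 18913 3797 22710 q2u4 q2c5 rfl
theorem q2c6 : allBelow (fun k => fq2 (Nat.add 22710 k)) 3725 = true := by decide +kernel
theorem q2u6 : ∀ i, i < 26435 → fq2 i = true := below_step fq2 22710 3725 26435 q2u5 q2c6 rfl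
theorem q2c7 : allBelow (fun k => fq2 (Nat.add 26435 k)) 3770 = true := by decide +kernel
theorem q2u7 : ∀ i, i < 30205 → fq2 i = true := below_step fq2 26435 3770 30205 q2u6 q2c7 rfl
theorem q2c8 : allBelow (fun k => fq2 (Nat.add 30205 k)) 3806 = true := by decide +kernel
theorem q2u8 : ∀ i, i < 34011 → fq2 i = true := below_step fq2 30205 3806 34011 q2u7 q2c8 rfl
theorem q2c9 : allBelow (fun k => fq2 (Nat.add 34011 k)) 3788 = true := by decide +kernel
theorem q2u9 : ∀ i, i < 37799 → fq2 i = true := below_step fq2 34011 3788 37799 q2u8 q2c9 rfl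
theorem q2c10 : allBelow (fun k => fq2 (Nat.add 37799 k)) 3788 = true := by decide +kernel
theorem q2u10 : ∀ i, i < 41587 → fq2 i = true := below_step fq2 37799 3788 41587 q2u9 q2c10 rfl
theorem q2c11 : allBelow (fun k => fq2 (Nat.add 41587 k)) 3824 = true := by decide +kernel
theorem q2u11 : ∀ i, i < 45411 → fq2 i = true := below_step fq2 41587 3824 45411 q2u10 q2c11 rfl
theorem q2c12 : allBelow (fun k => fq2 (Nat.add 45411 k)) 3761 = true := by decide +kernel
theorem q2u12 : ∀ i, i < 49172 → fq2 i = true := below_step fq2 45411 3761 49172 q2u11 q2c12 rfl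
theorem q2c13 : allBelow (fun k => fq2 (Nat.add 49172 k)) 3788 = true := by decide +kernel
theorem q2u13 : ∀ i, i < 52960 → fq2 i = true := below_step fq2 49172 3788 52960 q2u12 q2c13 rfl
theorem q2c14 : allBelow (fun k => fq2 (Nat.add 52960 k)) 3815 = true := by decide +kernel
theorem q2u14 : ∀ i, i < 56775 → fq2 i = true := below_step fq2 52960 3815 56775 q2u13 q2c14 rfl
theorem q2c15 : allBelow (fun k => fq2 (Nat.add 56775 k)) 3824 = true := by decide +kernel
theorem q2u15 : ∀ i, i < 60599 → fq2 i = true := below_step fq2 56775 3824 60599 q2u14 q2c15 rfl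
theorem q2c16 : allBelow (fun k => fq2 (Nat.add 60599 k)) 3815 = true := by decide +kernel
theorem q2u16 : ∀ i, i < 64414 → fq2 i = true := below_step fq2 60599 3815 64414 q2u15 q2c16 rfl
theorem q2c17 : allBelow (fun k => fq2 (Nat.add 64414 k)) 3815 = true := by decide +kernel
theorem q2u17 : ∀ i, i < 68229 → fq2 i = true := below_step fq2 64414 3815 68229 q2u16 q2c17 rfl
theorem q2c18 : allBelow (fun k => fq2 (Nat.add 68229 k)) 3788 = true := by decide +kernel
theorem q2u18 : ∀ i, i < 72017 → fq2 i = true := below_step fq2 68229 3788 72017 q2u17 q2c18 rfl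
theorem q2c19 : allBelow (fun k => fq2 (Nat.add 72017 k)) 3824 = true := by decide +kernel
theorem q2u19 : ∀ i, i < 75841 → fq2 i = true := below_step fq2 72017 3824 75841 q2u18 q2c19 rfl
theorem q2c20 : allBelow (fun k => fq2 (Nat.add 75841 k)) 3824 = true := by decide +kernel
theorem q2u20 : ∀ i, i < 79665 → fq2 i = true := below_step fq2 75841 3824 79665 q2u19 q2c20 rfl
theorem q2c21 : allBelow (fun k => fq2 (Nat.add 79665 k)) 3824 = true := by decide +kernel
theorem q2u21 : ∀ i, i < 83489 → fq2 i = true := below_step fq2 79665 3824 83489 q2u20 q2c21 rfl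
theorem q2c22 : allBelow (fun k => fq2 (Nat.add 83489 k)) 3815 = true := by decide +kernel
theorem q2u22 : ∀ i, i < 87304 → fq2 i = true := below_step fq2 83489 3815 87304 q2u21 q2c22 rfl
theorem q2c23 : allBelow (fun k => fq2 (Nat.add 87304 k)) 3824 = true := by decide +kernel
theorem q2u23 : ∀ i, i < 91128 → fq2 i = true := below_step fq2 87304 3824 91128 q2u22 q2c23 rfl
theorem q2c24 : allBelow (fun k => fq2 (Nat.add 91128 k)) 3824 = true := by decide +kernel
theorem q2u24 : ∀ i, i < 94952 → fq2 i = true := below_step fq2 91128 3824 94952 q2u23 q2c24 rfl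
theorem q2c25 : allBelow (fun k => fq2 (Nat.add 94952 k)) 3824 = true := by decide +kernel
theorem q2u25 : ∀ i, i < 98776 → fq2 i = true := below_step fq2 94952 3824 98776 q2u24 q2c25 rfl
theorem q2c26 : allBelow (fun k => fq2 (Nat.add 98776 k)) 3824 = true := by decide +kernel
theorem q2u26 : ∀ i, i < 102600 → fq2 i = true := below_step fq2 98776 3824 102600 q2u25 q2c26 rfl
theorem q2c27 : allBelow (fun k => fq2 (Nat.add 102600 k)) 3824 = true := by decide +kernel
theorem q2u27 : ∀ i, i < 106424 → fq2 i = true := below_step fq2 102600 3824 106424 q2u26 q2c27 rfl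
theorem q2c28 : allBelow (fun k => fq2 (Nat.add 106424 k)) 3824 = true := by decide +kernel
theorem q2u28 : ∀ i, i < 110248 → fq2 i = true := below_step fq2 106424 3824 110248 q2u27 q2c28 rfl
theorem q2c29 : allBelow (fun k => fq2 (Nat.add 110248 k)) 3824 = true := by decide +kernel
theorem q2u29 : ∀ i, i < 114072 → fq2 i = true := below_step fq2 110248 3824 114072 q2u28 q2c29 rfl
theorem q2c30 : allBelow (fun k => fq2 (Nat.add 114072 k)) 3824 = true := by decide +kernel
theorem q2u30 : ∀ i, i < 117896 → fq2 i = true := below_step fq2 114072 3824 117896 q2u29 q2c30 rfl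
theorem q2c31 : allBelow (fun k => fq2 (Nat.add 117896 k)) 3824 = true := by decide +kernel
theorem q2u31 : ∀ i, i < 121720 → fq2 i = true := below_step fq2 117896 3824 121720 q2u30 q2c31 rfl
theorem q2c32 : allBelow (fun k => fq2 (Nat.add 121720 k)) 1040 = true := by decide +kernel
theorem q2u32 : ∀ i, i < 122760 → fq2 i = true := below_step fq2 121720 1040 122760 q2u31 q2c32 rfl
theorem m2z : countBelow fm2 0 = 0 := rfl
theorem m2k0 : countBelow (fun k => fm2 (Nat.add 0 k)) 3824 = 0 := by decide +kernel
theorem m2n0 : countBelow fm2 3824 = 0 := countBelow_step fm2 0 3824 3824 0 0 0 m2z m2k0 rfl rfl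
theorem m2k1 : countBelow (fun k => fm2 (Nat.add 3824 k)) 3824 = 6 := by decide +kernel
theorem m2n1 : countBelow fm2 7648 = 6 := countBelow_step fm2 3824 3824 7648 0 6 6 m2n0 m2k1 rfl rfl
theorem m2k2 : countBelow (fun k => fm2 (Nat.add 7648 k)) 3824 = 2 := by decide +kernel
theorem m2n2 : countBelow fm2 11472 = 8 := countBelow_step fm2 7648 3824 11472 6 2 8 m2n1 m2k2 rfl rfl
theorem m2k3 : countBelow (fun k => fm2 (Nat.add 11472 k)) 3824 = 11 := by decide +kernel
theorem m2n3 : countBelow fm2 15296 = 19 := countBelow_step fm2 11472 3824 15296 8 11 19 m2n2 m2k3 rfl rfl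
theorem m2k4 : countBelow (fun k => fm2 (Nat.add 15296 k)) 3824 = 4 := by decide +kernel
theorem m2n4 : countBelow fm2 19120 = 23 := countBelow_step fm2 15296 3824 19120 19 4 23 m2n3 m2k4 rfl rfl
theorem m2k5 : countBelow (fun k => fm2 (Nat.add 19120 k)) 3824 = 3 := by decide +kernel
theorem m2n5 : countBelow fm2 22944 = 26 := countBelow_step fm2 19120 3824 22944 23 3 26 m2n4 m2k5 rfl rfl
theorem m2k6 : countBelow (fun k => fm2 (Nat.add 22944 k)) 3824 = 13 := by decide +kernel
theorem m2n6 : countBelow fm2 26768 = 39 := countBelow_step fm2 22944 3824 26768 26 13 39 m2n5 m2k6 rfl rfl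
theorem m2k7 : countBelow (fun k => fm2 (Nat.add 26768 k)) 3824 = 4 := by decide +kernel
theorem m2n7 : countBelow fm2 30592 = 43 := countBelow_step fm2 26768 3824 30592 39 4 43 m2n6 m2k7 rfl rfl
theorem m2k8 : countBelow (fun k => fm2 (Nat.add 30592 k)) 3824 = 2 := by decide +kernel
theorem m2n8 : countBelow fm2 34416 = 45 := countBelow_step fm2 30592 3824 34416 43 2 45 m2n7 m2k8 rfl rfl
theorem m2k9 : countBelow (fun k => fm2 (Nat.add 34416 k)) 3824 = 4 := by decide +kernel
theorem m2n9 : countBelow fm2 38240 = 49 := countBelow_step fm2 34416 3824 38240 45 4 49 m2n8 m2k9 rfl rfl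
theorem m2k10 : countBelow (fun k => fm2 (Nat.add 38240 k)) 3824 = 4 := by decide +kernel
theorem m2n10 : countBelow fm2 42064 = 53 := countBelow_step fm2 38240 3824 42064 49 4 53 m2n9 m2k10 rfl rfl
theorem m2k11 : countBelow (fun k => fm2 (Nat.add 42064 k)) 3824 = 0 := by decide +kernel
theorem m2n11 : countBelow fm2 45888 = 53 := countBelow_step fm2 42064 3824 45888 53 0 53 m2n10 m2k11 rfl rfl
theorem m2k12 : countBelow (fun k => fm2 (Nat.add 45888 k)) 3824 = 9 := by decide +kernel
theorem m2n12 : countBelow fm2 49712 = 62 := countBelow_step fm2 45888 3824 49712 53 9 62 m2n11 m2k12 rfl rfl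
theorem m2k13 : countBelow (fun k => fm2 (Nat.add 49712 k)) 3824 = 2 := by decide +kernel
theorem m2n13 : countBelow fm2 53536 = 64 := countBelow_step fm2 49712 3824 53536 62 2 64 m2n12 m2k13 rfl rfl
theorem m2k14 : countBelow (fun k => fm2 (Nat.add 53536 k)) 3824 = 1 := by decide +kernel
theorem m2n14 : countBelow fm2 57360 = 65 := countBelow_step fm2 53536 3824 57360 64 1 65 m2n13 m2k14 rfl rfl
theorem m2k15 : countBelow (fun k => fm2 (Nat.add 57360 k)) 3824 = 0 := by decide +kernel
theorem m2n15 : countBelow fm2 61184 = 65 := countBelow_step fm2 57360 3824 61184 65 0 65 m2n14 m2k15 rfl rfl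
theorem m2k16 : countBelow (fun k => fm2 (Nat.add 61184 k)) 3824 = 2 := by decide +kernel
theorem m2n16 : countBelow fm2 65008 = 67 := countBelow_step fm2 61184 3824 65008 65 2 67 m2n15 m2k16 rfl rfl
theorem m2k17 : countBelow (fun k => fm2 (Nat.add 65008 k)) 3824 = 0 := by decide +kernel
theorem m2n17 : countBelow fm2 68832 = 67 := countBelow_step fm2 65008 3824 68832 67 0 67 m2n16 m2k17 rfl rfl
theorem m2k18 : countBelow (fun k => fm2 (Nat.add 68832 k)) 3824 = 4 := by decide +kernel
theorem m2n18 : countBelow fm2 72656 = 71 := countBelow_step fm2 68832 3824 72656 67 4 71 m2n17 m2k18 rfl rfl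
theorem m2k19 : countBelow (fun k => fm2 (Nat.add 72656 k)) 3824 = 0 := by decide +kernel
theorem m2n19 : countBelow fm2 76480 = 71 := countBelow_step fm2 72656 3824 76480 71 0 71 m2n18 m2k19 rfl rfl
theorem m2k20 : countBelow (fun k => fm2 (Nat.add 76480 k)) 3824 = 0 := by decide +kernel
theorem m2n20 : countBelow fm2 80304 = 71 := countBelow_step fm2 76480 3824 80304 71 0 71 m2n19 m2k20 rfl rfl
theorem m2k21 : countBelow (fun k => fm2 (Nat.add 80304 k)) 3824 = 1 := by decide +kernel
theorem m2n21 : countBelow fm2 84128 = 72 := countBelow_step fm2 80304 3824 84128 71 1 72 m2n20 m2k21 rfl rfl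
theorem m2k22 : countBelow (fun k => fm2 (Nat.add 84128 k)) 3824 = 0 := by decide +kernel
theorem m2n22 : countBelow fm2 87952 = 72 := countBelow_step fm2 84128 3824 87952 72 0 72 m2n21 m2k22 rfl rfl
theorem m2k23 : countBelow (fun k => fm2 (Nat.add 87952 k)) 3824 = 0 := by decide +kernel
theorem m2n23 : countBelow fm2 91776 = 72 := countBelow_step fm2 87952 3824 91776 72 0 72 m2n22 m2k23 rfl rfl
theorem m2k24 : countBelow (fun k => fm2 (Nat.add 91776 k)) 3824 = 0 := by decide +kernel
theorem m2n24 : countBelow fm2 95600 = 72 := countBelow_step fm2 91776 3824 95600 72 0 72 m2n23 m2k24 rfl rfl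
theorem m2k25 : countBelow (fun k => fm2 (Nat.add 95600 k)) 3824 = 0 := by decide +kernel
theorem m2n25 : countBelow fm2 99424 = 72 := countBelow_step fm2 95600 3824 99424 72 0 72 m2n24 m2k25 rfl rfl
theorem m2k26 : countBelow (fun k => fm2 (Nat.add 99424 k)) 3824 = 0 := by decide +kernel
theorem m2n26 : countBelow fm2 103248 = 72 := countBelow_step fm2 99424 3824 103248 72 0 72 m2n25 m2k26 rfl rfl
theorem m2k27 : countBelow (fun k => fm2 (Nat.add 103248 k)) 3824 = 0 := by decide +kernel
theorem m2n27 : countBelow fm2 107072 = 72 := countBelow_step fm2 103248 3824 107072 72 0 72 m2n26 m2k27 rfl rfl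
theorem m2k28 : countBelow (fun k => fm2 (Nat.add 107072 k)) 3824 = 0 := by decide +kernel
theorem m2n28 : countBelow fm2 110896 = 72 := countBelow_step fm2 107072 3824 110896 72 0 72 m2n27 m2k28 rfl rfl
theorem m2k29 : countBelow (fun k => fm2 (Nat.add 110896 k)) 3824 = 0 := by decide +kernel
theorem m2n29 : countBelow fm2 114720 = 72 := countBelow_step fm2 110896 3824 114720 72 0 72 m2n28 m2k29 rfl rfl
theorem m2k30 : countBelow (fun k => fm2 (Nat.add 114720 k)) 3824 = 0 := by decide +kernel
theorem m2n30 : countBelow fm2 118544 = 72 := countBelow_step fm2 114720 3824 118544 72 0 72 m2n29 m2k30 rfl rfl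
theorem m2k31 : countBelow (fun k => fm2 (Nat.add 118544 k)) 3824 = 0 := by decide +kernel
theorem m2n31 : countBelow fm2 122368 = 72 := countBelow_step fm2 118544 3824 122368 72 0 72 m2n30 m2k31 rfl rfl
theorem m2k32 : countBelow (fun k => fm2 (Nat.add 122368 k)) 392 = 0 := by decide +kernel
theorem m2n32 : countBelow fm2 122760 = 72 := countBelow_step fm2 122368 392 122760 72 0 72 m2n31 m2k32 rfl rfl
theorem y0c0 : allBelow (fun k => fy0 (Nat.add 0 k)) 191 = true := by decide +kernel
theorem y0u0 : ∀ i, i < 191 → fy0 i = true := below_step fy0 0 191 191 (below_zero fy0) y0c0 rfl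
theorem y0c1 : allBelow (fun k => fy0 (Nat.add 191 k)) 191 = true := by decide +kernel
theorem y0u1 : ∀ i, i < 382 → fy0 i = true := below_step fy0 191 191 382 y0u0 y0c1 rfl
theorem y0c2 : allBelow (fun k => fy0 (Nat.add 382 k)) 191 = true := by decide +kernel
theorem y0u2 : ∀ i, i < 573 → fy0 i = true := below_step fy0 382 191 573 y0u1 y0c2 rfl
theorem y0c3 : allBelow (fun k => fy0 (Nat.add 573 k)) 191 = true := by decide +kernel
theorem y0u3 : ∀ i, i < 764 → fy0 i = true := below_step fy0 573 191 764 y0u2 y0c3 rfl
theorem y0c4 : allBelow (fun k => fy0 (Nat.add 764 k)) 191 = true := by decide +kernel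
theorem y0u4 : ∀ i, i < 955 → fy0 i = true := below_step fy0 764 191 955 y0u3 y0c4 rfl
theorem y0c5 : allBelow (fun k => fy0 (Nat.add 955 k)) 191 = true := by decide +kernel
theorem y0u5 : ∀ i, i < 1146 → fy0 i = true := below_step fy0 955 191 1146 y0u4 y0c5 rfl
theorem y0c6 : allBelow (fun k => fy0 (Nat.add 1146 k)) 191 = true := by decide +kernel
theorem y0u6 : ∀ i, i < 1337 → fy0 i = true := below_step fy0 1146 191 1337 y0u5 y0c6 rfl
theorem y0c7 : allBelow (fun k => fy0 (Nat.add 1337 k)) 191 = true := by decide +kernel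
theorem y0u7 : ∀ i, i < 1528 → fy0 i = true := below_step fy0 1337 191 1528 y0u6 y0c7 rfl
theorem y0c8 : allBelow (fun k => fy0 (Nat.add 1528 k)) 191 = true := by decide +kernel
theorem y0u8 : ∀ i, i < 1719 → fy0 i = true := below_step fy0 1528 191 1719 y0u7 y0c8 rfl
theorem y0c9 : allBelow (fun k => fy0 (Nat.add 1719 k)) 191 = true := by decide +kernel
theorem y0u9 : ∀ i, i < 1910 → fy0 i = true := below_step fy0 1719 191 1910 y0u8 y0c9 rfl
theorem y0c10 : allBelow (fun k => fy0 (Nat.add 1910 k)) 191 = true := by decide +kernel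
theorem y0u10 : ∀ i, i < 2101 → fy0 i = true := below_step fy0 1910 191 2101 y0u9 y0c10 rfl
theorem y0c11 : allBelow (fun k => fy0 (Nat.add 2101 k)) 191 = true := by decide +kernel
theorem y0u11 : ∀ i, i < 2292 → fy0 i = true := below_step fy0 2101 191 2292 y0u10 y0c11 rfl
theorem y0c12 : allBelow (fun k => fy0 (Nat.add 2292 k)) 191 = true := by decide +kernel
theorem y0u12 : ∀ i, i < 2483 → fy0 i = true := below_step fy0 2292 191 2483 y0u11 y0c12 rfl
theorem y0c13 : allBelow (fun k => fy0 (Nat.add 2483 k)) 191 = true := by decide +kernel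
theorem y0u13 : ∀ i, i < 2674 → fy0 i = true := below_step fy0 2483 191 2674 y0u12 y0c13 rfl
theorem y0c14 : allBelow (fun k => fy0 (Nat.add 2674 k)) 191 = true := by decide +kernel
theorem y0u14 : ∀ i, i < 2865 → fy0 i = true := below_step fy0 2674 191 2865 y0u13 y0c14 rfl
theorem y0c15 : allBelow (fun k => fy0 (Nat.add 2865 k)) 191 = true := by decide +kernel
theorem y0u15 : ∀ i, i < 3056 → fy0 i = true := below_step fy0 2865 191 3056 y0u14 y0c15 rfl
theorem y0c16 : allBelow (fun k => fy0 (Nat.add 3056 k)) 191 = true := by decide +kernel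
theorem y0u16 : ∀ i, i < 3247 → fy0 i = true := below_step fy0 3056 191 3247 y0u15 y0c16 rfl
theorem y0c17 : allBelow (fun k => fy0 (Nat.add 3247 k)) 191 = true := by decide +kernel
theorem y0u17 : ∀ i, i < 3438 → fy0 i = true := below_step fy0 3247 191 3438 y0u16 y0c17 rfl
theorem y0c18 : allBelow (fun k => fy0 (Nat.add 3438 k)) 191 = true := by decide +kernel
theorem y0u18 : ∀ i, i < 3629 → fy0 i = true := below_step fy0 3438 191 3629 y0u17 y0c18 rfl
theorem y0c19 : allBelow (fun k => fy0 (Nat.add 3629 k)) 191 = true := by decide +kernel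
theorem y0u19 : ∀ i, i < 3820 → fy0 i = true := below_step fy0 3629 191 3820 y0u18 y0c19 rfl
theorem y0c20 : allBelow (fun k => fy0 (Nat.add 3820 k)) 191 = true := by decide +kernel
theorem y0u20 : ∀ i, i < 4011 → fy0 i = true := below_step fy0 3820 191 4011 y0u19 y0c20 rfl
theorem y0c21 : allBelow (fun k => fy0 (Nat.add 4011 k)) 191 = true := by decide +kernel
theorem y0u21 : ∀ i, i < 4202 → fy0 i = true := below_step fy0 4011 191 4202 y0u20 y0c21 rfl
theorem y0c22 : allBelow (fun k => fy0 (Nat.add 4202 k)) 191 = true := by decide +kernel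
theorem y0u22 : ∀ i, i < 4393 → fy0 i = true := below_step fy0 4202 191 4393 y0u21 y0c22 rfl
theorem y0c23 : allBelow (fun k => fy0 (Nat.add 4393 k)) 191 = true := by decide +kernel
theorem y0u23 : ∀ i, i < 4584 → fy0 i = true := below_step fy0 4393 191 4584 y0u22 y0c23 rfl
theorem y0c24 : allBelow (fun k => fy0 (Nat.add 4584 k)) 191 = true := by decide +kernel
theorem y0u24 : ∀ i, i < 4775 → fy0 i = true := below_step fy0 4584 191 4775 y0u23 y0c24 rfl
theorem y0c25 : allBelow (fun k => fy0 (Nat.add 4775 k)) 191 = true := by decide +kernel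
theorem y0u25 : ∀ i, i < 4966 → fy0 i = true := below_step fy0 4775 191 4966 y0u24 y0c25 rfl
theorem y0c26 : allBelow (fun k => fy0 (Nat.add 4966 k)) 191 = true := by decide +kernel
theorem y0u26 : ∀ i, i < 5157 → fy0 i = true := below_step fy0 4966 191 5157 y0u25 y0c26 rfl
theorem y0c27 : allBelow (fun k => fy0 (Nat.add 5157 k)) 191 = true := by decide +kernel
theorem y0u27 : ∀ i, i < 5348 → fy0 i = true := below_step fy0 5157 191 5348 y0u26 y0c27 rfl
theorem y0c28 : allBelow (fun k => fy0 (Nat.add 5348 k)) 191 = true := by decide +kernel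
theorem y0u28 : ∀ i, i < 5539 → fy0 i = true := below_step fy0 5348 191 5539 y0u27 y0c28 rfl
theorem y0c29 : allBelow (fun k => fy0 (Nat.add 5539 k)) 191 = true := by decide +kernel
theorem y0u29 : ∀ i, i < 5730 → fy0 i = true := below_step fy0 5539 191 5730 y0u28 y0c29 rfl
theorem y0c30 : allBelow (fun k => fy0 (Nat.add 5730 k)) 191 = true := by decide +kernel
theorem y0u30 : ∀ i, i < 5921 → fy0 i = true := below_step fy0 5730 191 5921 y0u29 y0c30 rfl
theorem y0c31 : allBelow (fun k => fy0 (Nat.add 5921 k)) 191 = true := by decide +kernel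
theorem y0u31 : ∀ i, i < 6112 → fy0 i = true := below_step fy0 5921 191 6112 y0u30 y0c31 rfl
theorem y0c32 : allBelow (fun k => fy0 (Nat.add 6112 k)) 191 = true := by decide +kernel
theorem y0u32 : ∀ i, i < 6303 → fy0 i = true := below_step fy0 6112 191 6303 y0u31 y0c32 rfl
theorem y0c33 : allBelow (fun k => fy0 (Nat.add 6303 k)) 191 = true := by decide +kernel
theorem y0u33 : ∀ i, i < 6494 → fy0 i = true := below_step fy0 6303 191 6494 y0u32 y0c33 rfl
theorem y0c34 : allBelow (fun k => fy0 (Nat.add 6494 k)) 191 = true := by decide +kernel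
theorem y0u34 : ∀ i, i < 6685 → fy0 i = true := below_step fy0 6494 191 6685 y0u33 y0c34 rfl
theorem y0c35 : allBelow (fun k => fy0 (Nat.add 6685 k)) 191 = true := by decide +kernel
theorem y0u35 : ∀ i, i < 6876 → fy0 i = true := below_step fy0 6685 191 6876 y0u34 y0c35 rfl
theorem y0c36 : allBelow (fun k => fy0 (Nat.add 6876 k)) 191 = true := by decide +kernel
theorem y0u36 : ∀ i, i < 7067 → fy0 i = true := below_step fy0 6876 191 7067 y0u35 y0c36 rfl
theorem y0c37 : allBelow (fun k => fy0 (Nat.add 7067 k)) 191 = true := by decide +kernel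
theorem y0u37 : ∀ i, i < 7258 → fy0 i = true := below_step fy0 7067 191 7258 y0u36 y0c37 rfl
theorem y0c38 : allBelow (fun k => fy0 (Nat.add 7258 k)) 191 = true := by decide +kernel
theorem y0u38 : ∀ i, i < 7449 → fy0 i = true := below_step fy0 7258 191 7449 y0u37 y0c38 rfl
theorem y0c39 : allBelow (fun k => fy0 (Nat.add 7449 k)) 191 = true := by decide +kernel
theorem y0u39 : ∀ i, i < 7640 → fy0 i = true := below_step fy0 7449 191 7640 y0u38 y0c39 rfl
theorem y0c40 : allBelow (fun k => fy0 (Nat.add 7640 k)) 191 = true := by decide +kernel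
theorem y0u40 : ∀ i, i < 7831 → fy0 i = true := below_step fy0 7640 191 7831 y0u39 y0c40 rfl
theorem y0c41 : allBelow (fun k => fy0 (Nat.add 7831 k)) 191 = true := by decide +kernel
theorem y0u41 : ∀ i, i < 8022 → fy0 i = true := below_step fy0 7831 191 8022 y0u40 y0c41 rfl
theorem y0c42 : allBelow (fun k => fy0 (Nat.add 8022 k)) 191 = true := by decide +kernel
theorem y0u42 : ∀ i, i < 8213 → fy0 i = true := below_step fy0 8022 191 8213 y0u41 y0c42 rfl
theorem y0c43 : allBelow (fun k => fy0 (Nat.add 8213 k)) 191 = true := by decide +kernel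
theorem y0u43 : ∀ i, i < 8404 → fy0 i = true := below_step fy0 8213 191 8404 y0u42 y0c43 rfl
theorem y0c44 : allBelow (fun k => fy0 (Nat.add 8404 k)) 191 = true := by decide +kernel
theorem y0u44 : ∀ i, i < 8595 → fy0 i = true := below_step fy0 8404 191 8595 y0u43 y0c44 rfl
theorem y0c45 : allBelow (fun k => fy0 (Nat.add 8595 k)) 191 = true := by decide +kernel
theorem y0u45 : ∀ i, i < 8786 → fy0 i = true := below_step fy0 8595 191 8786 y0u44 y0c45 rfl
theorem y0c46 : allBelow (fun k => fy0 (Nat.add 8786 k)) 191 = true := by decide +kernel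
theorem y0u46 : ∀ i, i < 8977 → fy0 i = true := below_step fy0 8786 191 8977 y0u45 y0c46 rfl
theorem y0c47 : allBelow (fun k => fy0 (Nat.add 8977 k)) 191 = true := by decide +kernel
theorem y0u47 : ∀ i, i < 9168 → fy0 i = true := below_step fy0 8977 191 9168 y0u46 y0c47 rfl
theorem y0c48 : allBelow (fun k => fy0 (Nat.add 9168 k)) 191 = true := by decide +kernel
theorem y0u48 : ∀ i, i < 9359 → fy0 i = true := below_step fy0 9168 191 9359 y0u47 y0c48 rfl
theorem y0c49 : allBelow (fun k => fy0 (Nat.add 9359 k)) 191 = true := by decide +kernel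
theorem y0u49 : ∀ i, i < 9550 → fy0 i = true := below_step fy0 9359 191 9550 y0u48 y0c49 rfl
theorem y0c50 : allBelow (fun k => fy0 (Nat.add 9550 k)) 191 = true := by decide +kernel
theorem y0u50 : ∀ i, i < 9741 → fy0 i = true := below_step fy0 9550 191 9741 y0u49 y0c50 rfl
theorem y0c51 : allBelow (fun k => fy0 (Nat.add 9741 k)) 191 = true := by decide +kernel
theorem y0u51 : ∀ i, i < 9932 → fy0 i = true := below_step fy0 9741 191 9932 y0u50 y0c51 rfl
theorem y0c52 : allBelow (fun k => fy0 (Nat.add 9932 k)) 191 = true := by decide +kernel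
theorem y0u52 : ∀ i, i < 10123 → fy0 i = true := below_step fy0 9932 191 10123 y0u51 y0c52 rfl
theorem y0c53 : allBelow (fun k => fy0 (Nat.add 10123 k)) 191 = true := by decide +kernel
theorem y0u53 : ∀ i, i < 10314 → fy0 i = true := below_step fy0 10123 191 10314 y0u52 y0c53 rfl
theorem y0c54 : allBelow (fun k => fy0 (Nat.add 10314 k)) 191 = true := by decide +kernel
theorem y0u54 : ∀ i, i < 10505 → fy0 i = true := below_step fy0 10314 191 10505 y0u53 y0c54 rfl
theorem y0c55 : allBelow (fun k => fy0 (Nat.add 10505 k)) 191 = true := by decide +kernel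
theorem y0u55 : ∀ i, i < 10696 → fy0 i = true := below_step fy0 10505 191 10696 y0u54 y0c55 rfl
theorem y0c56 : allBelow (fun k => fy0 (Nat.add 10696 k)) 191 = true := by decide +kernel
theorem y0u56 : ∀ i, i < 10887 → fy0 i = true := below_step fy0 10696 191 10887 y0u55 y0c56 rfl
theorem y0c57 : allBelow (fun k => fy0 (Nat.add 10887 k)) 191 = true := by decide +kernel
theorem y0u57 : ∀ i, i < 11078 → fy0 i = true := below_step fy0 10887 191 11078 y0u56 y0c57 rfl
theorem y0c58 : allBelow (fun k => fy0 (Nat.add 11078 k)) 191 = true := by decide +kernel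
theorem y0u58 : ∀ i, i < 11269 → fy0 i = true := below_step fy0 11078 191 11269 y0u57 y0c58 rfl
theorem y0c59 : allBelow (fun k => fy0 (Nat.add 11269 k)) 191 = true := by decide +kernel
theorem y0u59 : ∀ i, i < 11460 → fy0 i = true := below_step fy0 11269 191 11460 y0u58 y0c59 rfl
theorem y0c60 : allBelow (fun k => fy0 (Nat.add 11460 k)) 191 = true := by decide +kernel
theorem y0u60 : ∀ i, i < 11651 → fy0 i = true := below_step fy0 11460 191 11651 y0u59 y0c60 rfl
theorem y0c61 : allBelow (fun k => fy0 (Nat.add 11651 k)) 191 = true := by decide +kernel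
theorem y0u61 : ∀ i, i < 11842 → fy0 i = true := below_step fy0 11651 191 11842 y0u60 y0c61 rfl
theorem y0c62 : allBelow (fun k => fy0 (Nat.add 11842 k)) 191 = true := by decide +kernel
theorem y0u62 : ∀ i, i < 12033 → fy0 i = true := below_step fy0 11842 191 12033 y0u61 y0c62 rfl
theorem y0c63 : allBelow (fun k => fy0 (Nat.add 12033 k)) 191 = true := by decide +kernel
theorem y0u63 : ∀ i, i < 12224 → fy0 i = true := below_step fy0 12033 191 12224 y0u62 y0c63 rfl
theorem y0c64 : allBelow (fun k => fy0 (Nat.add 12224 k)) 191 = true := by decide +kernel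
theorem y0u64 : ∀ i, i < 12415 → fy0 i = true := below_step fy0 12224 191 12415 y0u63 y0c64 rfl
theorem y0c65 : allBelow (fun k => fy0 (Nat.add 12415 k)) 191 = true := by decide +kernel
theorem y0u65 : ∀ i, i < 12606 → fy0 i = true := below_step fy0 12415 191 12606 y0u64 y0c65 rfl
theorem y0c66 : allBelow (fun k => fy0 (Nat.add 12606 k)) 191 = true := by decide +kernel
theorem y0u66 : ∀ i, i < 12797 → fy0 i = true := below_step fy0 12606 191 12797 y0u65 y0c66 rfl
theorem y0c67 : allBelow (fun k => fy0 (Nat.add 12797 k)) 191 = true := by decide +kernel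
theorem y0u67 : ∀ i, i < 12988 → fy0 i = true := below_step fy0 12797 191 12988 y0u66 y0c67 rfl
theorem y0c68 : allBelow (fun k => fy0 (Nat.add 12988 k)) 191 = true := by decide +kernel
theorem y0u68 : ∀ i, i < 13179 → fy0 i = true := below_step fy0 12988 191 13179 y0u67 y0c68 rfl
theorem y0c69 : allBelow (fun k => fy0 (Nat.add 13179 k)) 191 = true := by decide +kernel
theorem y0u69 : ∀ i, i < 13370 → fy0 i = true := below_step fy0 13179 191 13370 y0u68 y0c69 rfl
theorem y0c70 : allBelow (fun k => fy0 (Nat.add 13370 k)) 191 = true := by decide +kernel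
theorem y0u70 : ∀ i, i < 13561 → fy0 i = true := below_step fy0 13370 191 13561 y0u69 y0c70 rfl
theorem y0c71 : allBelow (fun k => fy0 (Nat.add 13561 k)) 191 = true := by decide +kernel
theorem y0u71 : ∀ i, i < 13752 → fy0 i = true := below_step fy0 13561 191 13752 y0u70 y0c71 rfl
theorem y0c72 : allBelow (fun k => fy0 (Nat.add 13752 k)) 191 = true := by decide +kernel
theorem y0u72 : ∀ i, i < 13943 → fy0 i = true := below_step fy0 13752 191 13943 y0u71 y0c72 rfl
theorem y0c73 : allBelow (fun k => fy0 (Nat.add 13943 k)) 191 = true := by decide +kernel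
theorem y0u73 : ∀ i, i < 14134 → fy0 i = true := below_step fy0 13943 191 14134 y0u72 y0c73 rfl
theorem y0c74 : allBelow (fun k => fy0 (Nat.add 14134 k)) 191 = true := by decide +kernel
theorem y0u74 : ∀ i, i < 14325 → fy0 i = true := below_step fy0 14134 191 14325 y0u73 y0c74 rfl
theorem y0c75 : allBelow (fun k => fy0 (Nat.add 14325 k)) 191 = true := by decide +kernel
theorem y0u75 : ∀ i, i < 14516 → fy0 i = true := below_step fy0 14325 191 14516 y0u74 y0c75 rfl
theorem y0c76 : allBelow (fun k => fy0 (Nat.add 14516 k)) 191 = true := by decide +kernel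
theorem y0u76 : ∀ i, i < 14707 → fy0 i = true := below_step fy0 14516 191 14707 y0u75 y0c76 rfl
theorem y0c77 : allBelow (fun k => fy0 (Nat.add 14707 k)) 191 = true := by decide +kernel
theorem y0u77 : ∀ i, i < 14898 → fy0 i = true := below_step fy0 14707 191 14898 y0u76 y0c77 rfl
theorem y0c78 : allBelow (fun k => fy0 (Nat.add 14898 k)) 191 = true := by decide +kernel
theorem y0u78 : ∀ i, i < 15089 → fy0 i = true := below_step fy0 14898 191 15089 y0u77 y0c78 rfl
theorem y0c79 : allBelow (fun k => fy0 (Nat.add 15089 k)) 191 = true := by decide +kernel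
theorem y0u79 : ∀ i, i < 15280 → fy0 i = true := below_step fy0 15089 191 15280 y0u78 y0c79 rfl
theorem y0c80 : allBelow (fun k => fy0 (Nat.add 15280 k)) 191 = true := by decide +kernel
theorem y0u80 : ∀ i, i < 15471 → fy0 i = true := below_step fy0 15280 191 15471 y0u79 y0c80 rfl
theorem y0c81 : allBelow (fun k => fy0 (Nat.add 15471 k)) 191 = true := by decide +kernel
theorem y0u81 : ∀ i, i < 15662 → fy0 i = true := below_step fy0 15471 191 15662 y0u80 y0c81 rfl
theorem y0c82 : allBelow (fun k => fy0 (Nat.add 15662 k)) 191 = true := by decide +kernel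
theorem y0u82 : ∀ i, i < 15853 → fy0 i = true := below_step fy0 15662 191 15853 y0u81 y0c82 rfl
theorem y0c83 : allBelow (fun k => fy0 (Nat.add 15853 k)) 191 = true := by decide +kernel
theorem y0u83 : ∀ i, i < 16044 → fy0 i = true := below_step fy0 15853 191 16044 y0u82 y0c83 rfl
theorem y0c84 : allBelow (fun k => fy0 (Nat.add 16044 k)) 191 = true := by decide +kernel
theorem y0u84 : ∀ i, i < 16235 → fy0 i = true := below_step fy0 16044 191 16235 y0u83 y0c84 rfl
theorem y0c85 : allBelow (fun k => fy0 (Nat.add 16235 k)) 191 = true := by decide +kernel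
theorem y0u85 : ∀ i, i < 16426 → fy0 i = true := below_step fy0 16235 191 16426 y0u84 y0c85 rfl
theorem y0c86 : allBelow (fun k => fy0 (Nat.add 16426 k)) 191 = true := by decide +kernel
theorem y0u86 : ∀ i, i < 16617 → fy0 i = true := below_step fy0 16426 191 16617 y0u85 y0c86 rfl
theorem y0c87 : allBelow (fun k => fy0 (Nat.add 16617 k)) 191 = true := by decide +kernel
theorem y0u87 : ∀ i, i < 16808 → fy0 i = true := below_step fy0 16617 191 16808 y0u86 y0c87 rfl
theorem y0c88 : allBelow (fun k => fy0 (Nat.add 16808 k)) 191 = true := by decide +kernel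
theorem y0u88 : ∀ i, i < 16999 → fy0 i = true := below_step fy0 16808 191 16999 y0u87 y0c88 rfl
theorem y0c89 : allBelow (fun k => fy0 (Nat.add 16999 k)) 191 = true := by decide +kernel
theorem y0u89 : ∀ i, i < 17190 → fy0 i = true := below_step fy0 16999 191 17190 y0u88 y0c89 rfl
theorem y0c90 : allBelow (fun k => fy0 (Nat.add 17190 k)) 191 = true := by decide +kernel
theorem y0u90 : ∀ i, i < 17381 → fy0 i = true := below_step fy0 17190 191 17381 y0u89 y0c90 rfl
theorem y0c91 : allBelow (fun k => fy0 (Nat.add 17381 k)) 191 = true := by decide +kernel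
theorem y0u91 : ∀ i, i < 17572 → fy0 i = true := below_step fy0 17381 191 17572 y0u90 y0c91 rfl
theorem y0c92 : allBelow (fun k => fy0 (Nat.add 17572 k)) 191 = true := by decide +kernel
theorem y0u92 : ∀ i, i < 17763 → fy0 i = true := below_step fy0 17572 191 17763 y0u91 y0c92 rfl
theorem y0c93 : allBelow (fun k => fy0 (Nat.add 17763 k)) 191 = true := by decide +kernel
theorem y0u93 : ∀ i, i < 17954 → fy0 i = true := below_step fy0 17763 191 17954 y0u92 y0c93 rfl
theorem y0c94 : allBelow (fun k => fy0 (Nat.add 17954 k)) 191 = true := by decide +kernel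
theorem y0u94 : ∀ i, i < 18145 → fy0 i = true := below_step fy0 17954 191 18145 y0u93 y0c94 rfl
theorem y0c95 : allBelow (fun k => fy0 (Nat.add 18145 k)) 191 = true := by decide +kernel
theorem y0u95 : ∀ i, i < 18336 → fy0 i = true := below_step fy0 18145 191 18336 y0u94 y0c95 rfl
theorem y0c96 : allBelow (fun k => fy0 (Nat.add 18336 k)) 191 = true := by decide +kernel
theorem y0u96 : ∀ i, i < 18527 → fy0 i = true := below_step fy0 18336 191 18527 y0u95 y0c96 rfl
theorem y0c97 : allBelow (fun k => fy0 (Nat.add 18527 k)) 191 = true := by decide +kernel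
theorem y0u97 : ∀ i, i < 18718 → fy0 i = true := below_step fy0 18527 191 18718 y0u96 y0c97 rfl
theorem y0c98 : allBelow (fun k => fy0 (Nat.add 18718 k)) 191 = true := by decide +kernel
theorem y0u98 : ∀ i, i < 18909 → fy0 i = true := below_step fy0 18718 191 18909 y0u97 y0c98 rfl
theorem y0c99 : allBelow (fun k => fy0 (Nat.add 18909 k)) 191 = true := by decide +kernel
theorem y0u99 : ∀ i, i < 19100 → fy0 i = true := below_step fy0 18909 191 19100 y0u98 y0c99 rfl
theorem y0c100 : allBelow (fun k => fy0 (Nat.add 19100 k)) 191 = true := by decide +kernel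
theorem y0u100 : ∀ i, i < 19291 → fy0 i = true := below_step fy0 19100 191 19291 y0u99 y0c100 rfl
theorem y0c101 : allBelow (fun k => fy0 (Nat.add 19291 k)) 191 = true := by decide +kernel
theorem y0u101 : ∀ i, i < 19482 → fy0 i = true := below_step fy0 19291 191 19482 y0u100 y0c101 rfl
theorem y0c102 : allBelow (fun k => fy0 (Nat.add 19482 k)) 191 = true := by decide +kernel
theorem y0u102 : ∀ i, i < 19673 → fy0 i = true := below_step fy0 19482 191 19673 y0u101 y0c102 rfl
theorem y0c103 : allBelow (fun k => fy0 (Nat.add 19673 k)) 191 = true := by decide +kernel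
theorem y0u103 : ∀ i, i < 19864 → fy0 i = true := below_step fy0 19673 191 19864 y0u102 y0c103 rfl
theorem y0c104 : allBelow (fun k => fy0 (Nat.add 19864 k)) 191 = true := by decide +kernel
theorem y0u104 : ∀ i, i < 20055 → fy0 i = true := below_step fy0 19864 191 20055 y0u103 y0c104 rfl
theorem y0c105 : allBelow (fun k => fy0 (Nat.add 20055 k)) 191 = true := by decide +kernel
theorem y0u105 : ∀ i, i < 20246 → fy0 i = true := below_step fy0 20055 191 20246 y0u104 y0c105 rfl
theorem y0c106 : allBelow (fun k => fy0 (Nat.add 20246 k)) 191 = true := by decide +kernel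
theorem y0u106 : ∀ i, i < 20437 → fy0 i = true := below_step fy0 20246 191 20437 y0u105 y0c106 rfl
theorem y0c107 : allBelow (fun k => fy0 (Nat.add 20437 k)) 191 = true := by decide +kernel
theorem y0u107 : ∀ i, i < 20628 → fy0 i = true := below_step fy0 20437 191 20628 y0u106 y0c107 rfl
theorem y0c108 : allBelow (fun k => fy0 (Nat.add 20628 k)) 191 = true := by decide +kernel
theorem y0u108 : ∀ i, i < 20819 → fy0 i = true := below_step fy0 20628 191 20819 y0u107 y0c108 rfl
theorem y0c109 : allBelow (fun k => fy0 (Nat.add 20819 k)) 191 = true := by decide +kernel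
theorem y0u109 : ∀ i, i < 21010 → fy0 i = true := below_step fy0 20819 191 21010 y0u108 y0c109 rfl
theorem y0c110 : allBelow (fun k => fy0 (Nat.add 21010 k)) 191 = true := by decide +kernel
theorem y0u110 : ∀ i, i < 21201 → fy0 i = true := below_step fy0 21010 191 21201 y0u109 y0c110 rfl
theorem y0c111 : allBelow (fun k => fy0 (Nat.add 21201 k)) 191 = true := by decide +kernel
theorem y0u111 : ∀ i, i < 21392 → fy0 i = true := below_step fy0 21201 191 21392 y0u110 y0c111 rfl
theorem y0c112 : allBelow (fun k => fy0 (Nat.add 21392 k)) 191 = true := by decide +kernel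
theorem y0u112 : ∀ i, i < 21583 → fy0 i = true := below_step fy0 21392 191 21583 y0u111 y0c112 rfl
theorem y0c113 : allBelow (fun k => fy0 (Nat.add 21583 k)) 191 = true := by decide +kernel
theorem y0u113 : ∀ i, i < 21774 → fy0 i = true := below_step fy0 21583 191 21774 y0u112 y0c113 rfl
theorem y0c114 : allBelow (fun k => fy0 (Nat.add 21774 k)) 191 = true := by decide +kernel
theorem y0u114 : ∀ i, i < 21965 → fy0 i = true := below_step fy0 21774 191 21965 y0u113 y0c114 rfl
theorem y0c115 : allBelow (fun k => fy0 (Nat.add 21965 k)) 191 = true := by decide +kernel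
theorem y0u115 : ∀ i, i < 22156 → fy0 i = true := below_step fy0 21965 191 22156 y0u114 y0c115 rfl
theorem y0c116 : allBelow (fun k => fy0 (Nat.add 22156 k)) 191 = true := by decide +kernel
theorem y0u116 : ∀ i, i < 22347 → fy0 i = true := below_step fy0 22156 191 22347 y0u115 y0c116 rfl
theorem y0c117 : allBelow (fun k => fy0 (Nat.add 22347 k)) 191 = true := by decide +kernel
theorem y0u117 : ∀ i, i < 22538 → fy0 i = true := below_step fy0 22347 191 22538 y0u116 y0c117 rfl
theorem y0c118 : allBelow (fun k => fy0 (Nat.add 22538 k)) 191 = true := by decide +kernel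
theorem y0u118 : ∀ i, i < 22729 → fy0 i = true := below_step fy0 22538 191 22729 y0u117 y0c118 rfl
theorem y0c119 : allBelow (fun k => fy0 (Nat.add 22729 k)) 191 = true := by decide +kernel
theorem y0u119 : ∀ i, i < 22920 → fy0 i = true := below_step fy0 22729 191 22920 y0u118 y0c119 rfl
theorem y0c120 : allBelow (fun k => fy0 (Nat.add 22920 k)) 191 = true := by decide +kernel
theorem y0u120 : ∀ i, i < 23111 → fy0 i = true := below_step fy0 22920 191 23111 y0u119 y0c120 rfl
theorem y0c121 : allBelow (fun k => fy0 (Nat.add 23111 k)) 191 = true := by decide +kernel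
theorem y0u121 : ∀ i, i < 23302 → fy0 i = true := below_step fy0 23111 191 23302 y0u120 y0c121 rfl
theorem y0c122 : allBelow (fun k => fy0 (Nat.add 23302 k)) 191 = true := by decide +kernel
theorem y0u122 : ∀ i, i < 23493 → fy0 i = true := below_step fy0 23302 191 23493 y0u121 y0c122 rfl
theorem y0c123 : allBelow (fun k => fy0 (Nat.add 23493 k)) 191 = true := by decide +kernel
theorem y0u123 : ∀ i, i < 23684 → fy0 i = true := below_step fy0 23493 191 23684 y0u122 y0c123 rfl
theorem y0c124 : allBelow (fun k => fy0 (Nat.add 23684 k)) 191 = true := by decide +kernel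
theorem y0u124 : ∀ i, i < 23875 → fy0 i = true := below_step fy0 23684 191 23875 y0u123 y0c124 rfl
theorem y0c125 : allBelow (fun k => fy0 (Nat.add 23875 k)) 191 = true := by decide +kernel
theorem y0u125 : ∀ i, i < 24066 → fy0 i = true := below_step fy0 23875 191 24066 y0u124 y0c125 rfl
theorem y0c126 : allBelow (fun k => fy0 (Nat.add 24066 k)) 191 = true := by decide +kernel
theorem y0u126 : ∀ i, i < 24257 → fy0 i = true := below_step fy0 24066 191 24257 y0u125 y0c126 rfl
theorem y0c127 : allBelow (fun k => fy0 (Nat.add 24257 k)) 191 = true := by decide +kernel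
theorem y0u127 : ∀ i, i < 24448 → fy0 i = true := below_step fy0 24257 191 24448 y0u126 y0c127 rfl
theorem y0c128 : allBelow (fun k => fy0 (Nat.add 24448 k)) 191 = true := by decide +kernel
theorem y0u128 : ∀ i, i < 24639 → fy0 i = true := below_step fy0 24448 191 24639 y0u127 y0c128 rfl
theorem y0c129 : allBelow (fun k => fy0 (Nat.add 24639 k)) 191 = true := by decide +kernel
theorem y0u129 : ∀ i, i < 24830 → fy0 i = true := below_step fy0 24639 191 24830 y0u128 y0c129 rfl
theorem y0c130 : allBelow (fun k => fy0 (Nat.add 24830 k)) 191 = true := by decide +kernel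
theorem y0u130 : ∀ i, i < 25021 → fy0 i = true := below_step fy0 24830 191 25021 y0u129 y0c130 rfl
theorem y0c131 : allBelow (fun k => fy0 (Nat.add 25021 k)) 191 = true := by decide +kernel
theorem y0u131 : ∀ i, i < 25212 → fy0 i = true := below_step fy0 25021 191 25212 y0u130 y0c131 rfl
theorem y0c132 : allBelow (fun k => fy0 (Nat.add 25212 k)) 191 = true := by decide +kernel
theorem y0u132 : ∀ i, i < 25403 → fy0 i = true := below_step fy0 25212 191 25403 y0u131 y0c132 rfl
theorem y0c133 : allBelow (fun k => fy0 (Nat.add 25403 k)) 191 = true := by decide +kernel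
theorem y0u133 : ∀ i, i < 25594 → fy0 i = true := below_step fy0 25403 191 25594 y0u132 y0c133 rfl
theorem y0c134 : allBelow (fun k => fy0 (Nat.add 25594 k)) 191 = true := by decide +kernel
theorem y0u134 : ∀ i, i < 25785 → fy0 i = true := below_step fy0 25594 191 25785 y0u133 y0c134 rfl
theorem y0c135 : allBelow (fun k => fy0 (Nat.add 25785 k)) 191 = true := by decide +kernel
theorem y0u135 : ∀ i, i < 25976 → fy0 i = true := below_step fy0 25785 191 25976 y0u134 y0c135 rfl
theorem y0c136 : allBelow (fun k => fy0 (Nat.add 25976 k)) 191 = true := by decide +kernel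
theorem y0u136 : ∀ i, i < 26167 → fy0 i = true := below_step fy0 25976 191 26167 y0u135 y0c136 rfl
theorem y0c137 : allBelow (fun k => fy0 (Nat.add 26167 k)) 191 = true := by decide +kernel
theorem y0u137 : ∀ i, i < 26358 → fy0 i = true := below_step fy0 26167 191 26358 y0u136 y0c137 rfl
theorem y0c138 : allBelow (fun k => fy0 (Nat.add 26358 k)) 191 = true := by decide +kernel
theorem y0u138 : ∀ i, i < 26549 → fy0 i = true := below_step fy0 26358 191 26549 y0u137 y0c138 rfl
theorem y0c139 : allBelow (fun k => fy0 (Nat.add 26549 k)) 191 = true := by decide +kernel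
theorem y0u139 : ∀ i, i < 26740 → fy0 i = true := below_step fy0 26549 191 26740 y0u138 y0c139 rfl
theorem y0c140 : allBelow (fun k => fy0 (Nat.add 26740 k)) 191 = true := by decide +kernel
theorem y0u140 : ∀ i, i < 26931 → fy0 i = true := below_step fy0 26740 191 26931 y0u139 y0c140 rfl
theorem y0c141 : allBelow (fun k => fy0 (Nat.add 26931 k)) 191 = true := by decide +kernel
theorem y0u141 : ∀ i, i < 27122 → fy0 i = true := below_step fy0 26931 191 27122 y0u140 y0c141 rfl
theorem y0c142 : allBelow (fun k => fy0 (Nat.add 27122 k)) 191 = true := by decide +kernel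
theorem y0u142 : ∀ i, i < 27313 → fy0 i = true := below_step fy0 27122 191 27313 y0u141 y0c142 rfl
theorem y0c143 : allBelow (fun k => fy0 (Nat.add 27313 k)) 191 = true := by decide +kernel
theorem y0u143 : ∀ i, i < 27504 → fy0 i = true := below_step fy0 27313 191 27504 y0u142 y0c143 rfl
theorem y0c144 : allBelow (fun k => fy0 (Nat.add 27504 k)) 191 = true := by decide +kernel
theorem y0u144 : ∀ i, i < 27695 → fy0 i = true := below_step fy0 27504 191 27695 y0u143 y0c144 rfl
theorem y0c145 : allBelow (fun k => fy0 (Nat.add 27695 k)) 191 = true := by decide +kernel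
theorem y0u145 : ∀ i, i < 27886 → fy0 i = true := below_step fy0 27695 191 27886 y0u144 y0c145 rfl
theorem y0c146 : allBelow (fun k => fy0 (Nat.add 27886 k)) 191 = true := by decide +kernel
theorem y0u146 : ∀ i, i < 28077 → fy0 i = true := below_step fy0 27886 191 28077 y0u145 y0c146 rfl
theorem y0c147 : allBelow (fun k => fy0 (Nat.add 28077 k)) 191 = true := by decide +kernel
theorem y0u147 : ∀ i, i < 28268 → fy0 i = true := below_step fy0 28077 191 28268 y0u146 y0c147 rfl
theorem y0c148 : allBelow (fun k => fy0 (Nat.add 28268 k)) 191 = true := by decide +kernel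
theorem y0u148 : ∀ i, i < 28459 → fy0 i = true := below_step fy0 28268 191 28459 y0u147 y0c148 rfl
theorem y0c149 : allBelow (fun k => fy0 (Nat.add 28459 k)) 191 = true := by decide +kernel
theorem y0u149 : ∀ i, i < 28650 → fy0 i = true := below_step fy0 28459 191 28650 y0u148 y0c149 rfl
theorem y0c150 : allBelow (fun k => fy0 (Nat.add 28650 k)) 191 = true := by decide +kernel
theorem y0u150 : ∀ i, i < 28841 → fy0 i = true := below_step fy0 28650 191 28841 y0u149 y0c150 rfl
theorem y0c151 : allBelow (fun k => fy0 (Nat.add 28841 k)) 191 = true := by decide +kernel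
theorem y0u151 : ∀ i, i < 29032 → fy0 i = true := below_step fy0 28841 191 29032 y0u150 y0c151 rfl
theorem y0c152 : allBelow (fun k => fy0 (Nat.add 29032 k)) 191 = true := by decide +kernel
theorem y0u152 : ∀ i, i < 29223 → fy0 i = true := below_step fy0 29032 191 29223 y0u151 y0c152 rfl
theorem y0c153 : allBelow (fun k => fy0 (Nat.add 29223 k)) 191 = true := by decide +kernel
theorem y0u153 : ∀ i, i < 29414 → fy0 i = true := below_step fy0 29223 191 29414 y0u152 y0c153 rfl
theorem y0c154 : allBelow (fun k => fy0 (Nat.add 29414 k)) 191 = true := by decide +kernel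
theorem y0u154 : ∀ i, i < 29605 → fy0 i = true := below_step fy0 29414 191 29605 y0u153 y0c154 rfl
theorem y0c155 : allBelow (fun k => fy0 (Nat.add 29605 k)) 191 = true := by decide +kernel
theorem y0u155 : ∀ i, i < 29796 → fy0 i = true := below_step fy0 29605 191 29796 y0u154 y0c155 rfl
theorem y0c156 : allBelow (fun k => fy0 (Nat.add 29796 k)) 191 = true := by decide +kernel
theorem y0u156 : ∀ i, i < 29987 → fy0 i = true := below_step fy0 29796 191 29987 y0u155 y0c156 rfl
theorem y0c157 : allBelow (fun k => fy0 (Nat.add 29987 k)) 191 = true := by decide +kernel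
theorem y0u157 : ∀ i, i < 30178 → fy0 i = true := below_step fy0 29987 191 30178 y0u156 y0c157 rfl
theorem y0c158 : allBelow (fun k => fy0 (Nat.add 30178 k)) 191 = true := by decide +kernel
theorem y0u158 : ∀ i, i < 30369 → fy0 i = true := below_step fy0 30178 191 30369 y0u157 y0c158 rfl
theorem y0c159 : allBelow (fun k => fy0 (Nat.add 30369 k)) 191 = true := by decide +kernel
theorem y0u159 : ∀ i, i < 30560 → fy0 i = true := below_step fy0 30369 191 30560 y0u158 y0c159 rfl
theorem y0c160 : allBelow (fun k => fy0 (Nat.add 30560 k)) 191 = true := by decide +kernel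
theorem y0u160 : ∀ i, i < 30751 → fy0 i = true := below_step fy0 30560 191 30751 y0u159 y0c160 rfl
theorem y0c161 : allBelow (fun k => fy0 (Nat.add 30751 k)) 191 = true := by decide +kernel
theorem y0u161 : ∀ i, i < 30942 → fy0 i = true := below_step fy0 30751 191 30942 y0u160 y0c161 rfl
theorem y0c162 : allBelow (fun k => fy0 (Nat.add 30942 k)) 191 = true := by decide +kernel
theorem y0u162 : ∀ i, i < 31133 → fy0 i = true := below_step fy0 30942 191 31133 y0u161 y0c162 rfl
theorem y0c163 : allBelow (fun k => fy0 (Nat.add 31133 k)) 191 = true := by decide +kernel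
theorem y0u163 : ∀ i, i < 31324 → fy0 i = true := below_step fy0 31133 191 31324 y0u162 y0c163 rfl
theorem y0c164 : allBelow (fun k => fy0 (Nat.add 31324 k)) 191 = true := by decide +kernel
theorem y0u164 : ∀ i, i < 31515 → fy0 i = true := below_step fy0 31324 191 31515 y0u163 y0c164 rfl
theorem y0c165 : allBelow (fun k => fy0 (Nat.add 31515 k)) 191 = true := by decide +kernel
theorem y0u165 : ∀ i, i < 31706 → fy0 i = true := below_step fy0 31515 191 31706 y0u164 y0c165 rfl
theorem y0c166 : allBelow (fun k => fy0 (Nat.add 31706 k)) 191 = true := by decide +kernel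
theorem y0u166 : ∀ i, i < 31897 → fy0 i = true := below_step fy0 31706 191 31897 y0u165 y0c166 rfl
theorem y0c167 : allBelow (fun k => fy0 (Nat.add 31897 k)) 191 = true := by decide +kernel
theorem y0u167 : ∀ i, i < 32088 → fy0 i = true := below_step fy0 31897 191 32088 y0u166 y0c167 rfl
theorem y0c168 : allBelow (fun k => fy0 (Nat.add 32088 k)) 191 = true := by decide +kernel
theorem y0u168 : ∀ i, i < 32279 → fy0 i = true := below_step fy0 32088 191 32279 y0u167 y0c168 rfl
theorem y0c169 : allBelow (fun k => fy0 (Nat.add 32279 k)) 191 = true := by decide +kernel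
theorem y0u169 : ∀ i, i < 32470 → fy0 i = true := below_step fy0 32279 191 32470 y0u168 y0c169 rfl
theorem y0c170 : allBelow (fun k => fy0 (Nat.add 32470 k)) 191 = true := by decide +kernel
theorem y0u170 : ∀ i, i < 32661 → fy0 i = true := below_step fy0 32470 191 32661 y0u169 y0c170 rfl
theorem y0c171 : allBelow (fun k => fy0 (Nat.add 32661 k)) 191 = true := by decide +kernel
theorem y0u171 : ∀ i, i < 32852 → fy0 i = true := below_step fy0 32661 191 32852 y0u170 y0c171 rfl
theorem y0c172 : allBelow (fun k => fy0 (Nat.add 32852 k)) 191 = true := by decide +kernel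
theorem y0u172 : ∀ i, i < 33043 → fy0 i = true := below_step fy0 32852 191 33043 y0u171 y0c172 rfl
theorem y0c173 : allBelow (fun k => fy0 (Nat.add 33043 k)) 191 = true := by decide +kernel
theorem y0u173 : ∀ i, i < 33234 → fy0 i = true := below_step fy0 33043 191 33234 y0u172 y0c173 rfl
theorem y0c174 : allBelow (fun k => fy0 (Nat.add 33234 k)) 191 = true := by decide +kernel
theorem y0u174 : ∀ i, i < 33425 → fy0 i = true := below_step fy0 33234 191 33425 y0u173 y0c174 rfl
theorem y0c175 : allBelow (fun k => fy0 (Nat.add 33425 k)) 191 = true := by decide +kernel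
theorem y0u175 : ∀ i, i < 33616 → fy0 i = true := below_step fy0 33425 191 33616 y0u174 y0c175 rfl
theorem y0c176 : allBelow (fun k => fy0 (Nat.add 33616 k)) 191 = true := by decide +kernel
theorem y0u176 : ∀ i, i < 33807 → fy0 i = true := below_step fy0 33616 191 33807 y0u175 y0c176 rfl

end Cfsg.Agent.Lib.Helper35.ONOrd.X0
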