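import Cfsg.Agent.Lib.Helper35.ONOrd.X0.Chk0

set_option Elab.async false

namespace Cfsg.Agent.Lib.Helper35.ONOrd.X0

open Cfsg.Agent.Lib.Helper35

theorem y0c177 : allBelow (fun k => fy0 (Nat.add 33807 k)) 191 = true := by decide +kernel
theorem y0u177 : ∀ i, i < 33998 → fy0 i = true := below_step fy0 33807 191 33998 y0u176 y0c177 rfl
theorem y0c178 : allBelow (fun k => fy0 (Nat.add 33998 k)) 191 = true := by decide +kernel
theorem y0u178 : ∀ i, i < 34189 → fy0 i = true := below_step fy0 33998 191 34189 y0u177 y0c178 rfl
theorem y0c179 : allBelow (fun k => fy0 (Nat.add 34189 k)) 191 = true := by decide +kernel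
theorem y0u179 : ∀ i, i < 34380 → fy0 i = true := below_step fy0 34189 191 34380 y0u178 y0c179 rfl
theorem y0c180 : allBelow (fun k => fy0 (Nat.add 34380 k)) 191 = true := by decide +kernel
theorem y0u180 : ∀ i, i < 34571 → fy0 i = true := below_step fy0 34380 191 34571 y0u179 y0c180 rfl
theorem y0c181 : allBelow (fun k => fy0 (Nat.add 34571 k)) 191 = true := by decide +kernel
theorem y0u181 : ∀ i, i < 34762 → fy0 i = true := below_step fy0 34571 191 34762 y0u180 y0c181 rfl
theorem y0c182 : allBelow (fun k => fy0 (Nat.add 34762 k)) 191 = true := by decide +kernel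
theorem y0u182 : ∀ i, i < 34953 → fy0 i = true := below_step fy0 34762 191 34953 y0u181 y0c182 rfl
theorem y0c183 : allBelow (fun k => fy0 (Nat.add 34953 k)) 191 = true := by decide +kernel
theorem y0u183 : ∀ i, i < 35144 → fy0 i = true := below_step fy0 34953 191 35144 y0u182 y0c183 rfl
theorem y0c184 : allBelow (fun k => fy0 (Nat.add 35144 k)) 191 = true := by decide +kernel
theorem y0u184 : ∀ i, i < 35335 → fy0 i = true := below_step fy0 35144 191 35335 y0u183 y0c184 rfl
theorem y0c185 : allBelow (fun k => fy0 (Nat.add 35335 k)) 191 = true := by decide +kernel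
theorem y0u185 : ∀ i, i < 35526 → fy0 i = true := below_step fy0 35335 191 35526 y0u184 y0c185 rfl
theorem y0c186 : allBelow (fun k => fy0 (Nat.add 35526 k)) 191 = true := by decide +kernel
theorem y0u186 : ∀ i, i < 35717 → fy0 i = true := below_step fy0 35526 191 35717 y0u185 y0c186 rfl
theorem y0c187 : allBelow (fun k => fy0 (Nat.add 35717 k)) 191 = true := by decide +kernel
theorem y0u187 : ∀ i, i < 35908 → fy0 i = true := below_step fy0 35717 191 35908 y0u186 y0c187 rfl
theorem y0c188 : allBelow (fun k => fy0 (Nat.add 35908 k)) 191 = true := by decide +kernel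
theorem y0u188 : ∀ i, i < 36099 → fy0 i = true := below_step fy0 35908 191 36099 y0u187 y0c188 rfl
theorem y0c189 : allBelow (fun k => fy0 (Nat.add 36099 k)) 191 = true := by decide +kernel
theorem y0u189 : ∀ i, i < 36290 → fy0 i = true := below_step fy0 36099 191 36290 y0u188 y0c189 rfl
theorem y0c190 : allBelow (fun k => fy0 (Nat.add 36290 k)) 191 = true := by decide +kernel
theorem y0u190 : ∀ i, i < 36481 → fy0 i = true := below_step fy0 36290 191 36481 y0u189 y0c190 rfl
theorem y0c191 : allBelow (fun k => fy0 (Nat.add 36481 k)) 191 = true := by decide +kernel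
theorem y0u191 : ∀ i, i < 36672 → fy0 i = true := below_step fy0 36481 191 36672 y0u190 y0c191 rfl
theorem y0c192 : allBelow (fun k => fy0 (Nat.add 36672 k)) 191 = true := by decide +kernel
theorem y0u192 : ∀ i, i < 36863 → fy0 i = true := below_step fy0 36672 191 36863 y0u191 y0c192 rfl
theorem y0c193 : allBelow (fun k => fy0 (Nat.add 36863 k)) 191 = true := by decide +kernel
theorem y0u193 : ∀ i, i < 37054 → fy0 i = true := below_step fy0 36863 191 37054 y0u192 y0c193 rfl
theorem y0c194 : allBelow (fun k => fy0 (Nat.add 37054 k)) 191 = true := by decide +kernel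
theorem y0u194 : ∀ i, i < 37245 → fy0 i = true := below_step fy0 37054 191 37245 y0u193 y0c194 rfl
theorem y0c195 : allBelow (fun k => fy0 (Nat.add 37245 k)) 191 = true := by decide +kernel
theorem y0u195 : ∀ i, i < 37436 → fy0 i = true := below_step fy0 37245 191 37436 y0u194 y0c195 rfl
theorem y0c196 : allBelow (fun k => fy0 (Nat.add 37436 k)) 191 = true := by decide +kernel
theorem y0u196 : ∀ i, i < 37627 → fy0 i = true := below_step fy0 37436 191 37627 y0u195 y0c196 rfl
theorem y0c197 : allBelow (fun k => fy0 (Nat.add 37627 k)) 191 = true := by decide +kernel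
theorem y0u197 : ∀ i, i < 37818 → fy0 i = true := below_step fy0 37627 191 37818 y0u196 y0c197 rfl
theorem y0c198 : allBelow (fun k => fy0 (Nat.add 37818 k)) 191 = true := by decide +kernel
theorem y0u198 : ∀ i, i < 38009 → fy0 i = true := below_step fy0 37818 191 38009 y0u197 y0c198 rfl
theorem y0c199 : allBelow (fun k => fy0 (Nat.add 38009 k)) 191 = true := by decide +kernel
theorem y0u199 : ∀ i, i < 38200 → fy0 i = true := below_step fy0 38009 191 38200 y0u198 y0c199 rfl
theorem y0c200 : allBelow (fun k => fy0 (Nat.add 38200 k)) 191 = true := by decide +kernel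
theorem y0u200 : ∀ i, i < 38391 → fy0 i = true := below_step fy0 38200 191 38391 y0u199 y0c200 rfl
theorem y0c201 : allBelow (fun k => fy0 (Nat.add 38391 k)) 191 = true := by decide +kernel
theorem y0u201 : ∀ i, i < 38582 → fy0 i = true := below_step fy0 38391 191 38582 y0u200 y0c201 rfl
theorem y0c202 : allBelow (fun k => fy0 (Nat.add 38582 k)) 191 = true := by decide +kernel
theorem y0u202 : ∀ i, i < 38773 → fy0 i = true := below_step fy0 38582 191 38773 y0u201 y0c202 rfl
theorem y0c203 : allBelow (fun k => fy0 (Nat.add 38773 k)) 191 = true := by decide +kernel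
theorem y0u203 : ∀ i, i < 38964 → fy0 i = true := below_step fy0 38773 191 38964 y0u202 y0c203 rfl
theorem y0c204 : allBelow (fun k => fy0 (Nat.add 38964 k)) 191 = true := by decide +kernel
theorem y0u204 : ∀ i, i < 39155 → fy0 i = true := below_step fy0 38964 191 39155 y0u203 y0c204 rfl
theorem y0c205 : allBelow (fun k => fy0 (Nat.add 39155 k)) 191 = true := by decide +kernel
theorem y0u205 : ∀ i, i < 39346 → fy0 i = true := below_step fy0 39155 191 39346 y0u204 y0c205 rfl
theorem y0c206 : allBelow (fun k => fy0 (Nat.add 39346 k)) 191 = true := by decide +kernel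
theorem y0u206 : ∀ i, i < 39537 → fy0 i = true := below_step fy0 39346 191 39537 y0u205 y0c206 rfl
theorem y0c207 : allBelow (fun k => fy0 (Nat.add 39537 k)) 191 = true := by decide +kernel
theorem y0u207 : ∀ i, i < 39728 → fy0 i = true := below_step fy0 39537 191 39728 y0u206 y0c207 rfl
theorem y0c208 : allBelow (fun k => fy0 (Nat.add 39728 k)) 191 = true := by decide +kernel
theorem y0u208 : ∀ i, i < 39919 → fy0 i = true := below_step fy0 39728 191 39919 y0u207 y0c208 rfl
theorem y0c209 : allBelow (fun k => fy0 (Nat.add 39919 k)) 191 = true := by decide +kernel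
theorem y0u209 : ∀ i, i < 40110 → fy0 i = true := below_step fy0 39919 191 40110 y0u208 y0c209 rfl
theorem y0c210 : allBelow (fun k => fy0 (Nat.add 40110 k)) 191 = true := by decide +kernel
theorem y0u210 : ∀ i, i < 40301 → fy0 i = true := below_step fy0 40110 191 40301 y0u209 y0c210 rfl
theorem y0c211 : allBelow (fun k => fy0 (Nat.add 40301 k)) 191 = true := by decide +kernel
theorem y0u211 : ∀ i, i < 40492 → fy0 i = true := below_step fy0 40301 191 40492 y0u210 y0c211 rfl
theorem y0c212 : allBelow (fun k => fy0 (Nat.add 40492 k)) 191 = true := by decide +kernel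
theorem y0u212 : ∀ i, i < 40683 → fy0 i = true := below_step fy0 40492 191 40683 y0u211 y0c212 rfl
theorem y0c213 : allBelow (fun k => fy0 (Nat.add 40683 k)) 191 = true := by decide +kernel
theorem y0u213 : ∀ i, i < 40874 → fy0 i = true := below_step fy0 40683 191 40874 y0u212 y0c213 rfl
theorem y0c214 : allBelow (fun k => fy0 (Nat.add 40874 k)) 191 = true := by decide +kernel
theorem y0u214 : ∀ i, i < 41065 → fy0 i = true := below_step fy0 40874 191 41065 y0u213 y0c214 rfl
theorem y0c215 : allBelow (fun k => fy0 (Nat.add 41065 k)) 191 = true := by decide +kernel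
theorem y0u215 : ∀ i, i < 41256 → fy0 i = true := below_step fy0 41065 191 41256 y0u214 y0c215 rfl
theorem y0c216 : allBelow (fun k => fy0 (Nat.add 41256 k)) 191 = true := by decide +kernel
theorem y0u216 : ∀ i, i < 41447 → fy0 i = true := below_step fy0 41256 191 41447 y0u215 y0c216 rfl
theorem y0c217 : allBelow (fun k => fy0 (Nat.add 41447 k)) 191 = true := by decide +kernel
theorem y0u217 : ∀ i, i < 41638 → fy0 i = true := below_step fy0 41447 191 41638 y0u216 y0c217 rfl
theorem y0c218 : allBelow (fun k => fy0 (Nat.add 41638 k)) 191 = true := by decide +kernel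
theorem y0u218 : ∀ i, i < 41829 → fy0 i = true := below_step fy0 41638 191 41829 y0u217 y0c218 rfl
theorem y0c219 : allBelow (fun k => fy0 (Nat.add 41829 k)) 191 = true := by decide +kernel
theorem y0u219 : ∀ i, i < 42020 → fy0 i = true := below_step fy0 41829 191 42020 y0u218 y0c219 rfl
theorem y0c220 : allBelow (fun k => fy0 (Nat.add 42020 k)) 191 = true := by decide +kernel
theorem y0u220 : ∀ i, i < 42211 → fy0 i = true := below_step fy0 42020 191 42211 y0u219 y0c220 rfl
theorem y0c221 : allBelow (fun k => fy0 (Nat.add 42211 k)) 191 = true := by decide +kernel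
theorem y0u221 : ∀ i, i < 42402 → fy0 i = true := below_step fy0 42211 191 42402 y0u220 y0c221 rfl
theorem y0c222 : allBelow (fun k => fy0 (Nat.add 42402 k)) 191 = true := by decide +kernel
theorem y0u222 : ∀ i, i < 42593 → fy0 i = true := below_step fy0 42402 191 42593 y0u221 y0c222 rfl
theorem y0c223 : allBelow (fun k => fy0 (Nat.add 42593 k)) 191 = true := by decide +kernel
theorem y0u223 : ∀ i, i < 42784 → fy0 i = true := below_step fy0 42593 191 42784 y0u222 y0c223 rfl
theorem y0c224 : allBelow (fun k => fy0 (Nat.add 42784 k)) 191 = true := by decide +kernel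
theorem y0u224 : ∀ i, i < 42975 → fy0 i = true := below_step fy0 42784 191 42975 y0u223 y0c224 rfl
theorem y0c225 : allBelow (fun k => fy0 (Nat.add 42975 k)) 191 = true := by decide +kernel
theorem y0u225 : ∀ i, i < 43166 → fy0 i = true := below_step fy0 42975 191 43166 y0u224 y0c225 rfl
theorem y0c226 : allBelow (fun k => fy0 (Nat.add 43166 k)) 191 = true := by decide +kernel
theorem y0u226 : ∀ i, i < 43357 → fy0 i = true := below_step fy0 43166 191 43357 y0u225 y0c226 rfl
theorem y0c227 : allBelow (fun k => fy0 (Nat.add 43357 k)) 191 = true := by decide +kernel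
theorem y0u227 : ∀ i, i < 43548 → fy0 i = true := below_step fy0 43357 191 43548 y0u226 y0c227 rfl
theorem y0c228 : allBelow (fun k => fy0 (Nat.add 43548 k)) 191 = true := by decide +kernel
theorem y0u228 : ∀ i, i < 43739 → fy0 i = true := below_step fy0 43548 191 43739 y0u227 y0c228 rfl
theorem y0c229 : allBelow (fun k => fy0 (Nat.add 43739 k)) 191 = true := by decide +kernel
theorem y0u229 : ∀ i, i < 43930 → fy0 i = true := below_step fy0 43739 191 43930 y0u228 y0c229 rfl
theorem y0c230 : allBelow (fun k => fy0 (Nat.add 43930 k)) 191 = true := by decide +kernel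
theorem y0u230 : ∀ i, i < 44121 → fy0 i = true := below_step fy0 43930 191 44121 y0u229 y0c230 rfl
theorem y0c231 : allBelow (fun k => fy0 (Nat.add 44121 k)) 191 = true := by decide +kernel
theorem y0u231 : ∀ i, i < 44312 → fy0 i = true := below_step fy0 44121 191 44312 y0u230 y0c231 rfl
theorem y0c232 : allBelow (fun k => fy0 (Nat.add 44312 k)) 191 = true := by decide +kernel
theorem y0u232 : ∀ i, i < 44503 → fy0 i = true := below_step fy0 44312 191 44503 y0u231 y0c232 rfl
theorem y0c233 : allBelow (fun k => fy0 (Nat.add 44503 k)) 191 = true := by decide +kernel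
theorem y0u233 : ∀ i, i < 44694 → fy0 i = true := below_step fy0 44503 191 44694 y0u232 y0c233 rfl
theorem y0c234 : allBelow (fun k => fy0 (Nat.add 44694 k)) 191 = true := by decide +kernel
theorem y0u234 : ∀ i, i < 44885 → fy0 i = true := below_step fy0 44694 191 44885 y0u233 y0c234 rfl
theorem y0c235 : allBelow (fun k => fy0 (Nat.add 44885 k)) 191 = true := by decide +kernel
theorem y0u235 : ∀ i, i < 45076 → fy0 i = true := below_step fy0 44885 191 45076 y0u234 y0c235 rfl
theorem y0c236 : allBelow (fun k => fy0 (Nat.add 45076 k)) 191 = true := by decide +kernel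
theorem y0u236 : ∀ i, i < 45267 → fy0 i = true := below_step fy0 45076 191 45267 y0u235 y0c236 rfl
theorem y0c237 : allBelow (fun k => fy0 (Nat.add 45267 k)) 191 = true := by decide +kernel
theorem y0u237 : ∀ i, i < 45458 → fy0 i = true := below_step fy0 45267 191 45458 y0u236 y0c237 rfl
theorem y0c238 : allBelow (fun k => fy0 (Nat.add 45458 k)) 191 = true := by decide +kernel
theorem y0u238 : ∀ i, i < 45649 → fy0 i = true := below_step fy0 45458 191 45649 y0u237 y0c238 rfl
theorem y0c239 : allBelow (fun k => fy0 (Nat.add 45649 k)) 191 = true := by decide +kernel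
theorem y0u239 : ∀ i, i < 45840 → fy0 i = true := below_step fy0 45649 191 45840 y0u238 y0c239 rfl
theorem y0c240 : allBelow (fun k => fy0 (Nat.add 45840 k)) 191 = true := by decide +kernel
theorem y0u240 : ∀ i, i < 46031 → fy0 i = true := below_step fy0 45840 191 46031 y0u239 y0c240 rfl
theorem y0c241 : allBelow (fun k => fy0 (Nat.add 46031 k)) 191 = true := by decide +kernel
theorem y0u241 : ∀ i, i < 46222 → fy0 i = true := below_step fy0 46031 191 46222 y0u240 y0c241 rfl
theorem y0c242 : allBelow (fun k => fy0 (Nat.add 46222 k)) 191 = true := by decide +kernel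
theorem y0u242 : ∀ i, i < 46413 → fy0 i = true := below_step fy0 46222 191 46413 y0u241 y0c242 rfl
theorem y0c243 : allBelow (fun k => fy0 (Nat.add 46413 k)) 191 = true := by decide +kernel
theorem y0u243 : ∀ i, i < 46604 → fy0 i = true := below_step fy0 46413 191 46604 y0u242 y0c243 rfl
theorem y0c244 : allBelow (fun k => fy0 (Nat.add 46604 k)) 191 = true := by decide +kernel
theorem y0u244 : ∀ i, i < 46795 → fy0 i = true := below_step fy0 46604 191 46795 y0u243 y0c244 rfl
theorem y0c245 : allBelow (fun k => fy0 (Nat.add 46795 k)) 191 = true := by decide +kernel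
theorem y0u245 : ∀ i, i < 46986 → fy0 i = true := below_step fy0 46795 191 46986 y0u244 y0c245 rfl
theorem y0c246 : allBelow (fun k => fy0 (Nat.add 46986 k)) 191 = true := by decide +kernel
theorem y0u246 : ∀ i, i < 47177 → fy0 i = true := below_step fy0 46986 191 47177 y0u245 y0c246 rfl
theorem y0c247 : allBelow (fun k => fy0 (Nat.add 47177 k)) 191 = true := by decide +kernel
theorem y0u247 : ∀ i, i < 47368 → fy0 i = true := below_step fy0 47177 191 47368 y0u246 y0c247 rfl
theorem y0c248 : allBelow (fun k => fy0 (Nat.add 47368 k)) 191 = true := by decide +kernel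
theorem y0u248 : ∀ i, i < 47559 → fy0 i = true := below_step fy0 47368 191 47559 y0u247 y0c248 rfl
theorem y0c249 : allBelow (fun k => fy0 (Nat.add 47559 k)) 191 = true := by decide +kernel
theorem y0u249 : ∀ i, i < 47750 → fy0 i = true := below_step fy0 47559 191 47750 y0u248 y0c249 rfl
theorem y0c250 : allBelow (fun k => fy0 (Nat.add 47750 k)) 191 = true := by decide +kernel
theorem y0u250 : ∀ i, i < 47941 → fy0 i = true := below_step fy0 47750 191 47941 y0u249 y0c250 rfl
theorem y0c251 : allBelow (fun k => fy0 (Nat.add 47941 k)) 191 = true := by decide +kernel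
theorem y0u251 : ∀ i, i < 48132 → fy0 i = true := below_step fy0 47941 191 48132 y0u250 y0c251 rfl
theorem y0c252 : allBelow (fun k => fy0 (Nat.add 48132 k)) 191 = true := by decide +kernel
theorem y0u252 : ∀ i, i < 48323 → fy0 i = true := below_step fy0 48132 191 48323 y0u251 y0c252 rfl
theorem y0c253 : allBelow (fun k => fy0 (Nat.add 48323 k)) 191 = true := by decide +kernel
theorem y0u253 : ∀ i, i < 48514 → fy0 i = true := below_step fy0 48323 191 48514 y0u252 y0c253 rfl
theorem y0c254 : allBelow (fun k => fy0 (Nat.add 48514 k)) 191 = true := by decide +kernel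
theorem y0u254 : ∀ i, i < 48705 → fy0 i = true := below_step fy0 48514 191 48705 y0u253 y0c254 rfl
theorem y0c255 : allBelow (fun k => fy0 (Nat.add 48705 k)) 191 = true := by decide +kernel
theorem y0u255 : ∀ i, i < 48896 → fy0 i = true := below_step fy0 48705 191 48896 y0u254 y0c255 rfl
theorem y0c256 : allBelow (fun k => fy0 (Nat.add 48896 k)) 191 = true := by decide +kernel
theorem y0u256 : ∀ i, i < 49087 → fy0 i = true := below_step fy0 48896 191 49087 y0u255 y0c256 rfl
theorem y0c257 : allBelow (fun k => fy0 (Nat.add 49087 k)) 191 = true := by decide +kernel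
theorem y0u257 : ∀ i, i < 49278 → fy0 i = true := below_step fy0 49087 191 49278 y0u256 y0c257 rfl
theorem y0c258 : allBelow (fun k => fy0 (Nat.add 49278 k)) 191 = true := by decide +kernel
theorem y0u258 : ∀ i, i < 49469 → fy0 i = true := below_step fy0 49278 191 49469 y0u257 y0c258 rfl
theorem y0c259 : allBelow (fun k => fy0 (Nat.add 49469 k)) 191 = true := by decide +kernel
theorem y0u259 : ∀ i, i < 49660 → fy0 i = true := below_step fy0 49469 191 49660 y0u258 y0c259 rfl
theorem y0c260 : allBelow (fun k => fy0 (Nat.add 49660 k)) 191 = true := by decide +kernel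
theorem y0u260 : ∀ i, i < 49851 → fy0 i = true := below_step fy0 49660 191 49851 y0u259 y0c260 rfl
theorem y0c261 : allBelow (fun k => fy0 (Nat.add 49851 k)) 191 = true := by decide +kernel
theorem y0u261 : ∀ i, i < 50042 → fy0 i = true := below_step fy0 49851 191 50042 y0u260 y0c261 rfl
theorem y0c262 : allBelow (fun k => fy0 (Nat.add 50042 k)) 191 = true := by decide +kernel
theorem y0u262 : ∀ i, i < 50233 → fy0 i = true := below_step fy0 50042 191 50233 y0u261 y0c262 rfl
theorem y0c263 : allBelow (fun k => fy0 (Nat.add 50233 k)) 191 = true := by decide +kernel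
theorem y0u263 : ∀ i, i < 50424 → fy0 i = true := below_step fy0 50233 191 50424 y0u262 y0c263 rfl
theorem y0c264 : allBelow (fun k => fy0 (Nat.add 50424 k)) 191 = true := by decide +kernel
theorem y0u264 : ∀ i, i < 50615 → fy0 i = true := below_step fy0 50424 191 50615 y0u263 y0c264 rfl
theorem y0c265 : allBelow (fun k => fy0 (Nat.add 50615 k)) 191 = true := by decide +kernel
theorem y0u265 : ∀ i, i < 50806 → fy0 i = true := below_step fy0 50615 191 50806 y0u264 y0c265 rfl
theorem y0c266 : allBelow (fun k => fy0 (Nat.add 50806 k)) 191 = true := by decide +kernel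
theorem y0u266 : ∀ i, i < 50997 → fy0 i = true := below_step fy0 50806 191 50997 y0u265 y0c266 rfl
theorem y0c267 : allBelow (fun k => fy0 (Nat.add 50997 k)) 191 = true := by decide +kernel
theorem y0u267 : ∀ i, i < 51188 → fy0 i = true := below_step fy0 50997 191 51188 y0u266 y0c267 rfl
theorem y0c268 : allBelow (fun k => fy0 (Nat.add 51188 k)) 191 = true := by decide +kernel
theorem y0u268 : ∀ i, i < 51379 → fy0 i = true := below_step fy0 51188 191 51379 y0u267 y0c268 rfl
theorem y0c269 : allBelow (fun k => fy0 (Nat.add 51379 k)) 191 = true := by decide +kernel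
theorem y0u269 : ∀ i, i < 51570 → fy0 i = true := below_step fy0 51379 191 51570 y0u268 y0c269 rfl
theorem y0c270 : allBelow (fun k => fy0 (Nat.add 51570 k)) 191 = true := by decide +kernel
theorem y0u270 : ∀ i, i < 51761 → fy0 i = true := below_step fy0 51570 191 51761 y0u269 y0c270 rfl
theorem y0c271 : allBelow (fun k => fy0 (Nat.add 51761 k)) 191 = true := by decide +kernel
theorem y0u271 : ∀ i, i < 51952 → fy0 i = true := below_step fy0 51761 191 51952 y0u270 y0c271 rfl
theorem y0c272 : allBelow (fun k => fy0 (Nat.add 51952 k)) 191 = true := by decide +kernel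
theorem y0u272 : ∀ i, i < 52143 → fy0 i = true := below_step fy0 51952 191 52143 y0u271 y0c272 rfl
theorem y0c273 : allBelow (fun k => fy0 (Nat.add 52143 k)) 191 = true := by decide +kernel
theorem y0u273 : ∀ i, i < 52334 → fy0 i = true := below_step fy0 52143 191 52334 y0u272 y0c273 rfl
theorem y0c274 : allBelow (fun k => fy0 (Nat.add 52334 k)) 191 = true := by decide +kernel
theorem y0u274 : ∀ i, i < 52525 → fy0 i = true := below_step fy0 52334 191 52525 y0u273 y0c274 rfl
theorem y0c275 : allBelow (fun k => fy0 (Nat.add 52525 k)) 191 = true := by decide +kernel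
theorem y0u275 : ∀ i, i < 52716 → fy0 i = true := below_step fy0 52525 191 52716 y0u274 y0c275 rfl
theorem y0c276 : allBelow (fun k => fy0 (Nat.add 52716 k)) 191 = true := by decide +kernel
theorem y0u276 : ∀ i, i < 52907 → fy0 i = true := below_step fy0 52716 191 52907 y0u275 y0c276 rfl
theorem y0c277 : allBelow (fun k => fy0 (Nat.add 52907 k)) 191 = true := by decide +kernel
theorem y0u277 : ∀ i, i < 53098 → fy0 i = true := below_step fy0 52907 191 53098 y0u276 y0c277 rfl
theorem y0c278 : allBelow (fun k => fy0 (Nat.add 53098 k)) 191 = true := by decide +kernel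
theorem y0u278 : ∀ i, i < 53289 → fy0 i = true := below_step fy0 53098 191 53289 y0u277 y0c278 rfl
theorem y0c279 : allBelow (fun k => fy0 (Nat.add 53289 k)) 191 = true := by decide +kernel
theorem y0u279 : ∀ i, i < 53480 → fy0 i = true := below_step fy0 53289 191 53480 y0u278 y0c279 rfl
theorem y0c280 : allBelow (fun k => fy0 (Nat.add 53480 k)) 191 = true := by decide +kernel
theorem y0u280 : ∀ i, i < 53671 → fy0 i = true := below_step fy0 53480 191 53671 y0u279 y0c280 rfl
theorem y0c281 : allBelow (fun k => fy0 (Nat.add 53671 k)) 191 = true := by decide +kernel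
theorem y0u281 : ∀ i, i < 53862 → fy0 i = true := below_step fy0 53671 191 53862 y0u280 y0c281 rfl
theorem y0c282 : allBelow (fun k => fy0 (Nat.add 53862 k)) 191 = true := by decide +kernel
theorem y0u282 : ∀ i, i < 54053 → fy0 i = true := below_step fy0 53862 191 54053 y0u281 y0c282 rfl
theorem y0c283 : allBelow (fun k => fy0 (Nat.add 54053 k)) 191 = true := by decide +kernel
theorem y0u283 : ∀ i, i < 54244 → fy0 i = true := below_step fy0 54053 191 54244 y0u282 y0c283 rfl
theorem y0c284 : allBelow (fun k => fy0 (Nat.add 54244 k)) 191 = true := by decide +kernel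
theorem y0u284 : ∀ i, i < 54435 → fy0 i = true := below_step fy0 54244 191 54435 y0u283 y0c284 rfl
theorem y0c285 : allBelow (fun k => fy0 (Nat.add 54435 k)) 191 = true := by decide +kernel
theorem y0u285 : ∀ i, i < 54626 → fy0 i = true := below_step fy0 54435 191 54626 y0u284 y0c285 rfl
theorem y0c286 : allBelow (fun k => fy0 (Nat.add 54626 k)) 191 = true := by decide +kernel
theorem y0u286 : ∀ i, i < 54817 → fy0 i = true := below_step fy0 54626 191 54817 y0u285 y0c286 rfl
theorem y0c287 : allBelow (fun k => fy0 (Nat.add 54817 k)) 191 = true := by decide +kernel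
theorem y0u287 : ∀ i, i < 55008 → fy0 i = true := below_step fy0 54817 191 55008 y0u286 y0c287 rfl
theorem y0c288 : allBelow (fun k => fy0 (Nat.add 55008 k)) 191 = true := by decide +kernel
theorem y0u288 : ∀ i, i < 55199 → fy0 i = true := below_step fy0 55008 191 55199 y0u287 y0c288 rfl
theorem y0c289 : allBelow (fun k => fy0 (Nat.add 55199 k)) 191 = true := by decide +kernel
theorem y0u289 : ∀ i, i < 55390 → fy0 i = true := below_step fy0 55199 191 55390 y0u288 y0c289 rfl
theorem y0c290 : allBelow (fun k => fy0 (Nat.add 55390 k)) 191 = true := by decide +kernel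
theorem y0u290 : ∀ i, i < 55581 → fy0 i = true := below_step fy0 55390 191 55581 y0u289 y0c290 rfl
theorem y0c291 : allBelow (fun k => fy0 (Nat.add 55581 k)) 191 = true := by decide +kernel
theorem y0u291 : ∀ i, i < 55772 → fy0 i = true := below_step fy0 55581 191 55772 y0u290 y0c291 rfl
theorem y0c292 : allBelow (fun k => fy0 (Nat.add 55772 k)) 191 = true := by decide +kernel
theorem y0u292 : ∀ i, i < 55963 → fy0 i = true := below_step fy0 55772 191 55963 y0u291 y0c292 rfl
theorem y0c293 : allBelow (fun k => fy0 (Nat.add 55963 k)) 191 = true := by decide +kernel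
theorem y0u293 : ∀ i, i < 56154 → fy0 i = true := below_step fy0 55963 191 56154 y0u292 y0c293 rfl
theorem y0c294 : allBelow (fun k => fy0 (Nat.add 56154 k)) 191 = true := by decide +kernel
theorem y0u294 : ∀ i, i < 56345 → fy0 i = true := below_step fy0 56154 191 56345 y0u293 y0c294 rfl
theorem y0c295 : allBelow (fun k => fy0 (Nat.add 56345 k)) 191 = true := by decide +kernel
theorem y0u295 : ∀ i, i < 56536 → fy0 i = true := below_step fy0 56345 191 56536 y0u294 y0c295 rfl
theorem y0c296 : allBelow (fun k => fy0 (Nat.add 56536 k)) 191 = true := by decide +kernel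
theorem y0u296 : ∀ i, i < 56727 → fy0 i = true := below_step fy0 56536 191 56727 y0u295 y0c296 rfl
theorem y0c297 : allBelow (fun k => fy0 (Nat.add 56727 k)) 191 = true := by decide +kernel
theorem y0u297 : ∀ i, i < 56918 → fy0 i = true := below_step fy0 56727 191 56918 y0u296 y0c297 rfl
theorem y0c298 : allBelow (fun k => fy0 (Nat.add 56918 k)) 191 = true := by decide +kernel
theorem y0u298 : ∀ i, i < 57109 → fy0 i = true := below_step fy0 56918 191 57109 y0u297 y0c298 rfl
theorem y0c299 : allBelow (fun k => fy0 (Nat.add 57109 k)) 191 = true := by decide +kernel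
theorem y0u299 : ∀ i, i < 57300 → fy0 i = true := below_step fy0 57109 191 57300 y0u298 y0c299 rfl
theorem y0c300 : allBelow (fun k => fy0 (Nat.add 57300 k)) 191 = true := by decide +kernel
theorem y0u300 : ∀ i, i < 57491 → fy0 i = true := below_step fy0 57300 191 57491 y0u299 y0c300 rfl
theorem y0c301 : allBelow (fun k => fy0 (Nat.add 57491 k)) 191 = true := by decide +kernel
theorem y0u301 : ∀ i, i < 57682 → fy0 i = true := below_step fy0 57491 191 57682 y0u300 y0c301 rfl
theorem y0c302 : allBelow (fun k => fy0 (Nat.add 57682 k)) 191 = true := by decide +kernel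
theorem y0u302 : ∀ i, i < 57873 → fy0 i = true := below_step fy0 57682 191 57873 y0u301 y0c302 rfl
theorem y0c303 : allBelow (fun k => fy0 (Nat.add 57873 k)) 191 = true := by decide +kernel
theorem y0u303 : ∀ i, i < 58064 → fy0 i = true := below_step fy0 57873 191 58064 y0u302 y0c303 rfl
theorem y0c304 : allBelow (fun k => fy0 (Nat.add 58064 k)) 191 = true := by decide +kernel
theorem y0u304 : ∀ i, i < 58255 → fy0 i = true := below_step fy0 58064 191 58255 y0u303 y0c304 rfl
theorem y0c305 : allBelow (fun k => fy0 (Nat.add 58255 k)) 191 = true := by decide +kernel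
theorem y0u305 : ∀ i, i < 58446 → fy0 i = true := below_step fy0 58255 191 58446 y0u304 y0c305 rfl
theorem y0c306 : allBelow (fun k => fy0 (Nat.add 58446 k)) 191 = true := by decide +kernel
theorem y0u306 : ∀ i, i < 58637 → fy0 i = true := below_step fy0 58446 191 58637 y0u305 y0c306 rfl
theorem y0c307 : allBelow (fun k => fy0 (Nat.add 58637 k)) 191 = true := by decide +kernel
theorem y0u307 : ∀ i, i < 58828 → fy0 i = true := below_step fy0 58637 191 58828 y0u306 y0c307 rfl
theorem y0c308 : allBelow (fun k => fy0 (Nat.add 58828 k)) 191 = true := by decide +kernel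
theorem y0u308 : ∀ i, i < 59019 → fy0 i = true := below_step fy0 58828 191 59019 y0u307 y0c308 rfl
theorem y0c309 : allBelow (fun k => fy0 (Nat.add 59019 k)) 191 = true := by decide +kernel
theorem y0u309 : ∀ i, i < 59210 → fy0 i = true := below_step fy0 59019 191 59210 y0u308 y0c309 rfl
theorem y0c310 : allBelow (fun k => fy0 (Nat.add 59210 k)) 191 = true := by decide +kernel
theorem y0u310 : ∀ i, i < 59401 → fy0 i = true := below_step fy0 59210 191 59401 y0u309 y0c310 rfl
theorem y0c311 : allBelow (fun k => fy0 (Nat.add 59401 k)) 191 = true := by decide +kernel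
theorem y0u311 : ∀ i, i < 59592 → fy0 i = true := below_step fy0 59401 191 59592 y0u310 y0c311 rfl
theorem y0c312 : allBelow (fun k => fy0 (Nat.add 59592 k)) 191 = true := by decide +kernel
theorem y0u312 : ∀ i, i < 59783 → fy0 i = true := below_step fy0 59592 191 59783 y0u311 y0c312 rfl
theorem y0c313 : allBelow (fun k => fy0 (Nat.add 59783 k)) 191 = true := by decide +kernel
theorem y0u313 : ∀ i, i < 59974 → fy0 i = true := below_step fy0 59783 191 59974 y0u312 y0c313 rfl
theorem y0c314 : allBelow (fun k => fy0 (Nat.add 59974 k)) 191 = true := by decide +kernel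
theorem y0u314 : ∀ i, i < 60165 → fy0 i = true := below_step fy0 59974 191 60165 y0u313 y0c314 rfl
theorem y0c315 : allBelow (fun k => fy0 (Nat.add 60165 k)) 191 = true := by decide +kernel
theorem y0u315 : ∀ i, i < 60356 → fy0 i = true := below_step fy0 60165 191 60356 y0u314 y0c315 rfl
theorem y0c316 : allBelow (fun k => fy0 (Nat.add 60356 k)) 191 = true := by decide +kernel
theorem y0u316 : ∀ i, i < 60547 → fy0 i = true := below_step fy0 60356 191 60547 y0u315 y0c316 rfl
theorem y0c317 : allBelow (fun k => fy0 (Nat.add 60547 k)) 191 = true := by decide +kernel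
theorem y0u317 : ∀ i, i < 60738 → fy0 i = true := below_step fy0 60547 191 60738 y0u316 y0c317 rfl
theorem y0c318 : allBelow (fun k => fy0 (Nat.add 60738 k)) 191 = true := by decide +kernel
theorem y0u318 : ∀ i, i < 60929 → fy0 i = true := below_step fy0 60738 191 60929 y0u317 y0c318 rfl
theorem y0c319 : allBelow (fun k => fy0 (Nat.add 60929 k)) 191 = true := by decide +kernel
theorem y0u319 : ∀ i, i < 61120 → fy0 i = true := below_step fy0 60929 191 61120 y0u318 y0c319 rfl
theorem y0c320 : allBelow (fun k => fy0 (Nat.add 61120 k)) 191 = true := by decide +kernel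
theorem y0u320 : ∀ i, i < 61311 → fy0 i = true := below_step fy0 61120 191 61311 y0u319 y0c320 rfl
theorem y0c321 : allBelow (fun k => fy0 (Nat.add 61311 k)) 191 = true := by decide +kernel
theorem y0u321 : ∀ i, i < 61502 → fy0 i = true := below_step fy0 61311 191 61502 y0u320 y0c321 rfl
theorem y0c322 : allBelow (fun k => fy0 (Nat.add 61502 k)) 191 = true := by decide +kernel
theorem y0u322 : ∀ i, i < 61693 → fy0 i = true := below_step fy0 61502 191 61693 y0u321 y0c322 rfl
theorem y0c323 : allBelow (fun k => fy0 (Nat.add 61693 k)) 191 = true := by decide +kernel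
theorem y0u323 : ∀ i, i < 61884 → fy0 i = true := below_step fy0 61693 191 61884 y0u322 y0c323 rfl
theorem y0c324 : allBelow (fun k => fy0 (Nat.add 61884 k)) 191 = true := by decide +kernel
theorem y0u324 : ∀ i, i < 62075 → fy0 i = true := below_step fy0 61884 191 62075 y0u323 y0c324 rfl
theorem y0c325 : allBelow (fun k => fy0 (Nat.add 62075 k)) 191 = true := by decide +kernel
theorem y0u325 : ∀ i, i < 62266 → fy0 i = true := below_step fy0 62075 191 62266 y0u324 y0c325 rfl
theorem y0c326 : allBelow (fun k => fy0 (Nat.add 62266 k)) 191 = true := by decide +kernel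
theorem y0u326 : ∀ i, i < 62457 → fy0 i = true := below_step fy0 62266 191 62457 y0u325 y0c326 rfl
theorem y0c327 : allBelow (fun k => fy0 (Nat.add 62457 k)) 191 = true := by decide +kernel
theorem y0u327 : ∀ i, i < 62648 → fy0 i = true := below_step fy0 62457 191 62648 y0u326 y0c327 rfl
theorem y0c328 : allBelow (fun k => fy0 (Nat.add 62648 k)) 191 = true := by decide +kernel
theorem y0u328 : ∀ i, i < 62839 → fy0 i = true := below_step fy0 62648 191 62839 y0u327 y0c328 rfl
theorem y0c329 : allBelow (fun k => fy0 (Nat.add 62839 k)) 191 = true := by decide +kernel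
theorem y0u329 : ∀ i, i < 63030 → fy0 i = true := below_step fy0 62839 191 63030 y0u328 y0c329 rfl
theorem y0c330 : allBelow (fun k => fy0 (Nat.add 63030 k)) 191 = true := by decide +kernel
theorem y0u330 : ∀ i, i < 63221 → fy0 i = true := below_step fy0 63030 191 63221 y0u329 y0c330 rfl
theorem y0c331 : allBelow (fun k => fy0 (Nat.add 63221 k)) 191 = true := by decide +kernel
theorem y0u331 : ∀ i, i < 63412 → fy0 i = true := below_step fy0 63221 191 63412 y0u330 y0c331 rfl
theorem y0c332 : allBelow (fun k => fy0 (Nat.add 63412 k)) 191 = true := by decide +kernel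
theorem y0u332 : ∀ i, i < 63603 → fy0 i = true := below_step fy0 63412 191 63603 y0u331 y0c332 rfl
theorem y0c333 : allBelow (fun k => fy0 (Nat.add 63603 k)) 191 = true := by decide +kernel
theorem y0u333 : ∀ i, i < 63794 → fy0 i = true := below_step fy0 63603 191 63794 y0u332 y0c333 rfl
theorem y0c334 : allBelow (fun k => fy0 (Nat.add 63794 k)) 191 = true := by decide +kernel
theorem y0u334 : ∀ i, i < 63985 → fy0 i = true := below_step fy0 63794 191 63985 y0u333 y0c334 rfl
theorem y0c335 : allBelow (fun k => fy0 (Nat.add 63985 k)) 191 = true := by decide +kernel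
theorem y0u335 : ∀ i, i < 64176 → fy0 i = true := below_step fy0 63985 191 64176 y0u334 y0c335 rfl
theorem y0c336 : allBelow (fun k => fy0 (Nat.add 64176 k)) 191 = true := by decide +kernel
theorem y0u336 : ∀ i, i < 64367 → fy0 i = true := below_step fy0 64176 191 64367 y0u335 y0c336 rfl
theorem y0c337 : allBelow (fun k => fy0 (Nat.add 64367 k)) 191 = true := by decide +kernel
theorem y0u337 : ∀ i, i < 64558 → fy0 i = true := below_step fy0 64367 191 64558 y0u336 y0c337 rfl
theorem y0c338 : allBelow (fun k => fy0 (Nat.add 64558 k)) 191 = true := by decide +kernel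
theorem y0u338 : ∀ i, i < 64749 → fy0 i = true := below_step fy0 64558 191 64749 y0u337 y0c338 rfl
theorem y0c339 : allBelow (fun k => fy0 (Nat.add 64749 k)) 191 = true := by decide +kernel
theorem y0u339 : ∀ i, i < 64940 → fy0 i = true := below_step fy0 64749 191 64940 y0u338 y0c339 rfl
theorem y0c340 : allBelow (fun k => fy0 (Nat.add 64940 k)) 191 = true := by decide +kernel
theorem y0u340 : ∀ i, i < 65131 → fy0 i = true := below_step fy0 64940 191 65131 y0u339 y0c340 rfl
theorem y0c341 : allBelow (fun k => fy0 (Nat.add 65131 k)) 191 = true := by decide +kernel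
theorem y0u341 : ∀ i, i < 65322 → fy0 i = true := below_step fy0 65131 191 65322 y0u340 y0c341 rfl
theorem y0c342 : allBelow (fun k => fy0 (Nat.add 65322 k)) 191 = true := by decide +kernel
theorem y0u342 : ∀ i, i < 65513 → fy0 i = true := below_step fy0 65322 191 65513 y0u341 y0c342 rfl
theorem y0c343 : allBelow (fun k => fy0 (Nat.add 65513 k)) 191 = true := by decide +kernel
theorem y0u343 : ∀ i, i < 65704 → fy0 i = true := below_step fy0 65513 191 65704 y0u342 y0c343 rfl
theorem y0c344 : allBelow (fun k => fy0 (Nat.add 65704 k)) 191 = true := by decide +kernel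
theorem y0u344 : ∀ i, i < 65895 → fy0 i = true := below_step fy0 65704 191 65895 y0u343 y0c344 rfl
theorem y0c345 : allBelow (fun k => fy0 (Nat.add 65895 k)) 191 = true := by decide +kernel
theorem y0u345 : ∀ i, i < 66086 → fy0 i = true := below_step fy0 65895 191 66086 y0u344 y0c345 rfl
theorem y0c346 : allBelow (fun k => fy0 (Nat.add 66086 k)) 191 = true := by decide +kernel
theorem y0u346 : ∀ i, i < 66277 → fy0 i = true := below_step fy0 66086 191 66277 y0u345 y0c346 rfl
theorem y0c347 : allBelow (fun k => fy0 (Nat.add 66277 k)) 191 = true := by decide +kernel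
theorem y0u347 : ∀ i, i < 66468 → fy0 i = true := below_step fy0 66277 191 66468 y0u346 y0c347 rfl
theorem y0c348 : allBelow (fun k => fy0 (Nat.add 66468 k)) 191 = true := by decide +kernel
theorem y0u348 : ∀ i, i < 66659 → fy0 i = true := below_step fy0 66468 191 66659 y0u347 y0c348 rfl
theorem y0c349 : allBelow (fun k => fy0 (Nat.add 66659 k)) 191 = true := by decide +kernel
theorem y0u349 : ∀ i, i < 66850 → fy0 i = true := below_step fy0 66659 191 66850 y0u348 y0c349 rfl
theorem y0c350 : allBelow (fun k => fy0 (Nat.add 66850 k)) 191 = true := by decide +kernel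
theorem y0u350 : ∀ i, i < 67041 → fy0 i = true := below_step fy0 66850 191 67041 y0u349 y0c350 rfl
theorem y0c351 : allBelow (fun k => fy0 (Nat.add 67041 k)) 191 = true := by decide +kernel
theorem y0u351 : ∀ i, i < 67232 → fy0 i = true := below_step fy0 67041 191 67232 y0u350 y0c351 rfl
theorem y0c352 : allBelow (fun k => fy0 (Nat.add 67232 k)) 191 = true := by decide +kernel
theorem y0u352 : ∀ i, i < 67423 → fy0 i = true := below_step fy0 67232 191 67423 y0u351 y0c352 rfl
theorem y0c353 : allBelow (fun k => fy0 (Nat.add 67423 k)) 191 = true := by decide +kernel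
theorem y0u353 : ∀ i, i < 67614 → fy0 i = true := below_step fy0 67423 191 67614 y0u352 y0c353 rfl
theorem y0c354 : allBelow (fun k => fy0 (Nat.add 67614 k)) 191 = true := by decide +kernel
theorem y0u354 : ∀ i, i < 67805 → fy0 i = true := below_step fy0 67614 191 67805 y0u353 y0c354 rfl
theorem y0c355 : allBelow (fun k => fy0 (Nat.add 67805 k)) 191 = true := by decide +kernel
theorem y0u355 : ∀ i, i < 67996 → fy0 i = true := below_step fy0 67805 191 67996 y0u354 y0c355 rfl
theorem y0c356 : allBelow (fun k => fy0 (Nat.add 67996 k)) 191 = true := by decide +kernel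
theorem y0u356 : ∀ i, i < 68187 → fy0 i = true := below_step fy0 67996 191 68187 y0u355 y0c356 rfl
theorem y0c357 : allBelow (fun k => fy0 (Nat.add 68187 k)) 191 = true := by decide +kernel
theorem y0u357 : ∀ i, i < 68378 → fy0 i = true := below_step fy0 68187 191 68378 y0u356 y0c357 rfl
theorem y0c358 : allBelow (fun k => fy0 (Nat.add 68378 k)) 191 = true := by decide +kernel
theorem y0u358 : ∀ i, i < 68569 → fy0 i = true := below_step fy0 68378 191 68569 y0u357 y0c358 rfl
theorem y0c359 : allBelow (fun k => fy0 (Nat.add 68569 k)) 191 = true := by decide +kernel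
theorem y0u359 : ∀ i, i < 68760 → fy0 i = true := below_step fy0 68569 191 68760 y0u358 y0c359 rfl
theorem y0c360 : allBelow (fun k => fy0 (Nat.add 68760 k)) 191 = true := by decide +kernel
theorem y0u360 : ∀ i, i < 68951 → fy0 i = true := below_step fy0 68760 191 68951 y0u359 y0c360 rfl
theorem y0c361 : allBelow (fun k => fy0 (Nat.add 68951 k)) 191 = true := by decide +kernel
theorem y0u361 : ∀ i, i < 69142 → fy0 i = true := below_step fy0 68951 191 69142 y0u360 y0c361 rfl
theorem y0c362 : allBelow (fun k => fy0 (Nat.add 69142 k)) 191 = true := by decide +kernel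
theorem y0u362 : ∀ i, i < 69333 → fy0 i = true := below_step fy0 69142 191 69333 y0u361 y0c362 rfl
theorem y0c363 : allBelow (fun k => fy0 (Nat.add 69333 k)) 191 = true := by decide +kernel
theorem y0u363 : ∀ i, i < 69524 → fy0 i = true := below_step fy0 69333 191 69524 y0u362 y0c363 rfl
theorem y0c364 : allBelow (fun k => fy0 (Nat.add 69524 k)) 191 = true := by decide +kernel
theorem y0u364 : ∀ i, i < 69715 → fy0 i = true := below_step fy0 69524 191 69715 y0u363 y0c364 rfl
theorem y0c365 : allBelow (fun k => fy0 (Nat.add 69715 k)) 191 = true := by decide +kernel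
theorem y0u365 : ∀ i, i < 69906 → fy0 i = true := below_step fy0 69715 191 69906 y0u364 y0c365 rfl
theorem y0c366 : allBelow (fun k => fy0 (Nat.add 69906 k)) 191 = true := by decide +kernel
theorem y0u366 : ∀ i, i < 70097 → fy0 i = true := below_step fy0 69906 191 70097 y0u365 y0c366 rfl
theorem y0c367 : allBelow (fun k => fy0 (Nat.add 70097 k)) 191 = true := by decide +kernel
theorem y0u367 : ∀ i, i < 70288 → fy0 i = true := below_step fy0 70097 191 70288 y0u366 y0c367 rfl
theorem y0c368 : allBelow (fun k => fy0 (Nat.add 70288 k)) 191 = true := by decide +kernel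
theorem y0u368 : ∀ i, i < 70479 → fy0 i = true := below_step fy0 70288 191 70479 y0u367 y0c368 rfl
theorem y0c369 : allBelow (fun k => fy0 (Nat.add 70479 k)) 191 = true := by decide +kernel
theorem y0u369 : ∀ i, i < 70670 → fy0 i = true := below_step fy0 70479 191 70670 y0u368 y0c369 rfl
theorem y0c370 : allBelow (fun k => fy0 (Nat.add 70670 k)) 191 = true := by decide +kernel
theorem y0u370 : ∀ i, i < 70861 → fy0 i = true := below_step fy0 70670 191 70861 y0u369 y0c370 rfl
theorem y0c371 : allBelow (fun k => fy0 (Nat.add 70861 k)) 191 = true := by decide +kernel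
theorem y0u371 : ∀ i, i < 71052 → fy0 i = true := below_step fy0 70861 191 71052 y0u370 y0c371 rfl
theorem y0c372 : allBelow (fun k => fy0 (Nat.add 71052 k)) 191 = true := by decide +kernel
theorem y0u372 : ∀ i, i < 71243 → fy0 i = true := below_step fy0 71052 191 71243 y0u371 y0c372 rfl
theorem y0c373 : allBelow (fun k => fy0 (Nat.add 71243 k)) 191 = true := by decide +kernel
theorem y0u373 : ∀ i, i < 71434 → fy0 i = true := below_step fy0 71243 191 71434 y0u372 y0c373 rfl
theorem y0c374 : allBelow (fun k => fy0 (Nat.add 71434 k)) 191 = true := by decide +kernel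
theorem y0u374 : ∀ i, i < 71625 → fy0 i = true := below_step fy0 71434 191 71625 y0u373 y0c374 rfl
theorem y0c375 : allBelow (fun k => fy0 (Nat.add 71625 k)) 191 = true := by decide +kernel
theorem y0u375 : ∀ i, i < 71816 → fy0 i = true := below_step fy0 71625 191 71816 y0u374 y0c375 rfl
theorem y0c376 : allBelow (fun k => fy0 (Nat.add 71816 k)) 191 = true := by decide +kernel
theorem y0u376 : ∀ i, i < 72007 → fy0 i = true := below_step fy0 71816 191 72007 y0u375 y0c376 rfl
theorem y0c377 : allBelow (fun k => fy0 (Nat.add 72007 k)) 191 = true := by decide +kernel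
theorem y0u377 : ∀ i, i < 72198 → fy0 i = true := below_step fy0 72007 191 72198 y0u376 y0c377 rfl
theorem y0c378 : allBelow (fun k => fy0 (Nat.add 72198 k)) 191 = true := by decide +kernel
theorem y0u378 : ∀ i, i < 72389 → fy0 i = true := below_step fy0 72198 191 72389 y0u377 y0c378 rfl
theorem y0c379 : allBelow (fun k => fy0 (Nat.add 72389 k)) 191 = true := by decide +kernel
theorem y0u379 : ∀ i, i < 72580 → fy0 i = true := below_step fy0 72389 191 72580 y0u378 y0c379 rfl
theorem y0c380 : allBelow (fun k => fy0 (Nat.add 72580 k)) 191 = true := by decide +kernel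
theorem y0u380 : ∀ i, i < 72771 → fy0 i = true := below_step fy0 72580 191 72771 y0u379 y0c380 rfl
theorem y0c381 : allBelow (fun k => fy0 (Nat.add 72771 k)) 191 = true := by decide +kernel
theorem y0u381 : ∀ i, i < 72962 → fy0 i = true := below_step fy0 72771 191 72962 y0u380 y0c381 rfl
theorem y0c382 : allBelow (fun k => fy0 (Nat.add 72962 k)) 191 = true := by decide +kernel
theorem y0u382 : ∀ i, i < 73153 → fy0 i = true := below_step fy0 72962 191 73153 y0u381 y0c382 rfl
theorem y0c383 : allBelow (fun k => fy0 (Nat.add 73153 k)) 191 = true := by decide +kernel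
theorem y0u383 : ∀ i, i < 73344 → fy0 i = true := below_step fy0 73153 191 73344 y0u382 y0c383 rfl
theorem y0c384 : allBelow (fun k => fy0 (Nat.add 73344 k)) 191 = true := by decide +kernel
theorem y0u384 : ∀ i, i < 73535 → fy0 i = true := below_step fy0 73344 191 73535 y0u383 y0c384 rfl
theorem y0c385 : allBelow (fun k => fy0 (Nat.add 73535 k)) 191 = true := by decide +kernel
theorem y0u385 : ∀ i, i < 73726 → fy0 i = true := below_step fy0 73535 191 73726 y0u384 y0c385 rfl
theorem y0c386 : allBelow (fun k => fy0 (Nat.add 73726 k)) 191 = true := by decide +kernel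
theorem y0u386 : ∀ i, i < 73917 → fy0 i = true := below_step fy0 73726 191 73917 y0u385 y0c386 rfl
theorem y0c387 : allBelow (fun k => fy0 (Nat.add 73917 k)) 191 = true := by decide +kernel
theorem y0u387 : ∀ i, i < 74108 → fy0 i = true := below_step fy0 73917 191 74108 y0u386 y0c387 rfl
theorem y0c388 : allBelow (fun k => fy0 (Nat.add 74108 k)) 191 = true := by decide +kernel
theorem y0u388 : ∀ i, i < 74299 → fy0 i = true := below_step fy0 74108 191 74299 y0u387 y0c388 rfl
theorem y0c389 : allBelow (fun k => fy0 (Nat.add 74299 k)) 191 = true := by decide +kernel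
theorem y0u389 : ∀ i, i < 74490 → fy0 i = true := below_step fy0 74299 191 74490 y0u388 y0c389 rfl
theorem y0c390 : allBelow (fun k => fy0 (Nat.add 74490 k)) 191 = true := by decide +kernel
theorem y0u390 : ∀ i, i < 74681 → fy0 i = true := below_step fy0 74490 191 74681 y0u389 y0c390 rfl
theorem y0c391 : allBelow (fun k => fy0 (Nat.add 74681 k)) 191 = true := by decide +kernel
theorem y0u391 : ∀ i, i < 74872 → fy0 i = true := below_step fy0 74681 191 74872 y0u390 y0c391 rfl
theorem y0c392 : allBelow (fun k => fy0 (Nat.add 74872 k)) 191 = true := by decide +kernel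
theorem y0u392 : ∀ i, i < 75063 → fy0 i = true := below_step fy0 74872 191 75063 y0u391 y0c392 rfl
theorem y0c393 : allBelow (fun k => fy0 (Nat.add 75063 k)) 191 = true := by decide +kernel
theorem y0u393 : ∀ i, i < 75254 → fy0 i = true := below_step fy0 75063 191 75254 y0u392 y0c393 rfl
theorem y0c394 : allBelow (fun k => fy0 (Nat.add 75254 k)) 191 = true := by decide +kernel
theorem y0u394 : ∀ i, i < 75445 → fy0 i = true := below_step fy0 75254 191 75445 y0u393 y0c394 rfl
theorem y0c395 : allBelow (fun k => fy0 (Nat.add 75445 k)) 191 = true := by decide +kernel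
theorem y0u395 : ∀ i, i < 75636 → fy0 i = true := below_step fy0 75445 191 75636 y0u394 y0c395 rfl
theorem y0c396 : allBelow (fun k => fy0 (Nat.add 75636 k)) 191 = true := by decide +kernel
theorem y0u396 : ∀ i, i < 75827 → fy0 i = true := below_step fy0 75636 191 75827 y0u395 y0c396 rfl
theorem y0c397 : allBelow (fun k => fy0 (Nat.add 75827 k)) 191 = true := by decide +kernel
theorem y0u397 : ∀ i, i < 76018 → fy0 i = true := below_step fy0 75827 191 76018 y0u396 y0c397 rfl
theorem y0c398 : allBelow (fun k => fy0 (Nat.add 76018 k)) 191 = true := by decide +kernel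
theorem y0u398 : ∀ i, i < 76209 → fy0 i = true := below_step fy0 76018 191 76209 y0u397 y0c398 rfl
theorem y0c399 : allBelow (fun k => fy0 (Nat.add 76209 k)) 191 = true := by decide +kernel
theorem y0u399 : ∀ i, i < 76400 → fy0 i = true := below_step fy0 76209 191 76400 y0u398 y0c399 rfl
theorem y0c400 : allBelow (fun k => fy0 (Nat.add 76400 k)) 191 = true := by decide +kernel
theorem y0u400 : ∀ i, i < 76591 → fy0 i = true := below_step fy0 76400 191 76591 y0u399 y0c400 rfl
theorem y0c401 : allBelow (fun k => fy0 (Nat.add 76591 k)) 191 = true := by decide +kernel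
theorem y0u401 : ∀ i, i < 76782 → fy0 i = true := below_step fy0 76591 191 76782 y0u400 y0c401 rfl
theorem y0c402 : allBelow (fun k => fy0 (Nat.add 76782 k)) 191 = true := by decide +kernel
theorem y0u402 : ∀ i, i < 76973 → fy0 i = true := below_step fy0 76782 191 76973 y0u401 y0c402 rfl
theorem y0c403 : allBelow (fun k => fy0 (Nat.add 76973 k)) 191 = true := by decide +kernel
theorem y0u403 : ∀ i, i < 77164 → fy0 i = true := below_step fy0 76973 191 77164 y0u402 y0c403 rfl
theorem y0c404 : allBelow (fun k => fy0 (Nat.add 77164 k)) 191 = true := by decide +kernel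
theorem y0u404 : ∀ i, i < 77355 → fy0 i = true := below_step fy0 77164 191 77355 y0u403 y0c404 rfl
theorem y0c405 : allBelow (fun k => fy0 (Nat.add 77355 k)) 191 = true := by decide +kernel
theorem y0u405 : ∀ i, i < 77546 → fy0 i = true := below_step fy0 77355 191 77546 y0u404 y0c405 rfl
theorem y0c406 : allBelow (fun k => fy0 (Nat.add 77546 k)) 191 = true := by decide +kernel
theorem y0u406 : ∀ i, i < 77737 → fy0 i = true := below_step fy0 77546 191 77737 y0u405 y0c406 rfl
theorem y0c407 : allBelow (fun k => fy0 (Nat.add 77737 k)) 191 = true := by decide +kernel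
theorem y0u407 : ∀ i, i < 77928 → fy0 i = true := below_step fy0 77737 191 77928 y0u406 y0c407 rfl
theorem y0c408 : allBelow (fun k => fy0 (Nat.add 77928 k)) 191 = true := by decide +kernel
theorem y0u408 : ∀ i, i < 78119 → fy0 i = true := below_step fy0 77928 191 78119 y0u407 y0c408 rfl
theorem y0c409 : allBelow (fun k => fy0 (Nat.add 78119 k)) 191 = true := by decide +kernel
theorem y0u409 : ∀ i, i < 78310 → fy0 i = true := below_step fy0 78119 191 78310 y0u408 y0c409 rfl
theorem y0c410 : allBelow (fun k => fy0 (Nat.add 78310 k)) 191 = true := by decide +kernel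
theorem y0u410 : ∀ i, i < 78501 → fy0 i = true := below_step fy0 78310 191 78501 y0u409 y0c410 rfl
theorem y0c411 : allBelow (fun k => fy0 (Nat.add 78501 k)) 191 = true := by decide +kernel
theorem y0u411 : ∀ i, i < 78692 → fy0 i = true := below_step fy0 78501 191 78692 y0u410 y0c411 rfl
theorem y0c412 : allBelow (fun k => fy0 (Nat.add 78692 k)) 191 = true := by decide +kernel
theorem y0u412 : ∀ i, i < 78883 → fy0 i = true := below_step fy0 78692 191 78883 y0u411 y0c412 rfl
theorem y0c413 : allBelow (fun k => fy0 (Nat.add 78883 k)) 191 = true := by decide +kernel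
theorem y0u413 : ∀ i, i < 79074 → fy0 i = true := below_step fy0 78883 191 79074 y0u412 y0c413 rfl
theorem y0c414 : allBelow (fun k => fy0 (Nat.add 79074 k)) 191 = true := by decide +kernel
theorem y0u414 : ∀ i, i < 79265 → fy0 i = true := below_step fy0 79074 191 79265 y0u413 y0c414 rfl
theorem y0c415 : allBelow (fun k => fy0 (Nat.add 79265 k)) 191 = true := by decide +kernel
theorem y0u415 : ∀ i, i < 79456 → fy0 i = true := below_step fy0 79265 191 79456 y0u414 y0c415 rfl
theorem y0c416 : allBelow (fun k => fy0 (Nat.add 79456 k)) 191 = true := by decide +kernel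
theorem y0u416 : ∀ i, i < 79647 → fy0 i = true := below_step fy0 79456 191 79647 y0u415 y0c416 rfl
theorem y0c417 : allBelow (fun k => fy0 (Nat.add 79647 k)) 191 = true := by decide +kernel
theorem y0u417 : ∀ i, i < 79838 → fy0 i = true := below_step fy0 79647 191 79838 y0u416 y0c417 rfl
theorem y0c418 : allBelow (fun k => fy0 (Nat.add 79838 k)) 191 = true := by decide +kernel
theorem y0u418 : ∀ i, i < 80029 → fy0 i = true := below_step fy0 79838 191 80029 y0u417 y0c418 rfl
theorem y0c419 : allBelow (fun k => fy0 (Nat.add 80029 k)) 191 = true := by decide +kernel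
theorem y0u419 : ∀ i, i < 80220 → fy0 i = true := below_step fy0 80029 191 80220 y0u418 y0c419 rfl
theorem y0c420 : allBelow (fun k => fy0 (Nat.add 80220 k)) 191 = true := by decide +kernel
theorem y0u420 : ∀ i, i < 80411 → fy0 i = true := below_step fy0 80220 191 80411 y0u419 y0c420 rfl
theorem y0c421 : allBelow (fun k => fy0 (Nat.add 80411 k)) 191 = true := by decide +kernel
theorem y0u421 : ∀ i, i < 80602 → fy0 i = true := below_step fy0 80411 191 80602 y0u420 y0c421 rfl
theorem y0c422 : allBelow (fun k => fy0 (Nat.add 80602 k)) 191 = true := by decide +kernel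
theorem y0u422 : ∀ i, i < 80793 → fy0 i = true := below_step fy0 80602 191 80793 y0u421 y0c422 rfl
theorem y0c423 : allBelow (fun k => fy0 (Nat.add 80793 k)) 191 = true := by decide +kernel
theorem y0u423 : ∀ i, i < 80984 → fy0 i = true := below_step fy0 80793 191 80984 y0u422 y0c423 rfl
theorem y0c424 : allBelow (fun k => fy0 (Nat.add 80984 k)) 191 = true := by decide +kernel
theorem y0u424 : ∀ i, i < 81175 → fy0 i = true := below_step fy0 80984 191 81175 y0u423 y0c424 rfl
theorem y0c425 : allBelow (fun k => fy0 (Nat.add 81175 k)) 191 = true := by decide +kernel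
theorem y0u425 : ∀ i, i < 81366 → fy0 i = true := below_step fy0 81175 191 81366 y0u424 y0c425 rfl
theorem y0c426 : allBelow (fun k => fy0 (Nat.add 81366 k)) 191 = true := by decide +kernel
theorem y0u426 : ∀ i, i < 81557 → fy0 i = true := below_step fy0 81366 191 81557 y0u425 y0c426 rfl
theorem y0c427 : allBelow (fun k => fy0 (Nat.add 81557 k)) 191 = true := by decide +kernel
theorem y0u427 : ∀ i, i < 81748 → fy0 i = true := below_step fy0 81557 191 81748 y0u426 y0c427 rfl
theorem y0c428 : allBelow (fun k => fy0 (Nat.add 81748 k)) 191 = true := by decide +kernel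
theorem y0u428 : ∀ i, i < 81939 → fy0 i = true := below_step fy0 81748 191 81939 y0u427 y0c428 rfl
theorem y0c429 : allBelow (fun k => fy0 (Nat.add 81939 k)) 191 = true := by decide +kernel
theorem y0u429 : ∀ i, i < 82130 → fy0 i = true := below_step fy0 81939 191 82130 y0u428 y0c429 rfl
theorem y0c430 : allBelow (fun k => fy0 (Nat.add 82130 k)) 191 = true := by decide +kernel
theorem y0u430 : ∀ i, i < 82321 → fy0 i = true := below_step fy0 82130 191 82321 y0u429 y0c430 rfl
theorem y0c431 : allBelow (fun k => fy0 (Nat.add 82321 k)) 191 = true := by decide +kernel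
theorem y0u431 : ∀ i, i < 82512 → fy0 i = true := below_step fy0 82321 191 82512 y0u430 y0c431 rfl
theorem y0c432 : allBelow (fun k => fy0 (Nat.add 82512 k)) 191 = true := by decide +kernel
theorem y0u432 : ∀ i, i < 82703 → fy0 i = true := below_step fy0 82512 191 82703 y0u431 y0c432 rfl
theorem y0c433 : allBelow (fun k => fy0 (Nat.add 82703 k)) 191 = true := by decide +kernel
theorem y0u433 : ∀ i, i < 82894 → fy0 i = true := below_step fy0 82703 191 82894 y0u432 y0c433 rfl
theorem y0c434 : allBelow (fun k => fy0 (Nat.add 82894 k)) 191 = true := by decide +kernel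
theorem y0u434 : ∀ i, i < 83085 → fy0 i = true := below_step fy0 82894 191 83085 y0u433 y0c434 rfl
theorem y0c435 : allBelow (fun k => fy0 (Nat.add 83085 k)) 191 = true := by decide +kernel
theorem y0u435 : ∀ i, i < 83276 → fy0 i = true := below_step fy0 83085 191 83276 y0u434 y0c435 rfl
theorem y0c436 : allBelow (fun k => fy0 (Nat.add 83276 k)) 191 = true := by decide +kernel
theorem y0u436 : ∀ i, i < 83467 → fy0 i = true := below_step fy0 83276 191 83467 y0u435 y0c436 rfl
theorem y0c437 : allBelow (fun k => fy0 (Nat.add 83467 k)) 191 = true := by decide +kernel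
theorem y0u437 : ∀ i, i < 83658 → fy0 i = true := below_step fy0 83467 191 83658 y0u436 y0c437 rfl
theorem y0c438 : allBelow (fun k => fy0 (Nat.add 83658 k)) 191 = true := by decide +kernel
theorem y0u438 : ∀ i, i < 83849 → fy0 i = true := below_step fy0 83658 191 83849 y0u437 y0c438 rfl
theorem y0c439 : allBelow (fun k => fy0 (Nat.add 83849 k)) 191 = true := by decide +kernel
theorem y0u439 : ∀ i, i < 84040 → fy0 i = true := below_step fy0 83849 191 84040 y0u438 y0c439 rfl
theorem y0c440 : allBelow (fun k => fy0 (Nat.add 84040 k)) 191 = true := by decide +kernel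
theorem y0u440 : ∀ i, i < 84231 → fy0 i = true := below_step fy0 84040 191 84231 y0u439 y0c440 rfl
theorem y0c441 : allBelow (fun k => fy0 (Nat.add 84231 k)) 191 = true := by decide +kernel
theorem y0u441 : ∀ i, i < 84422 → fy0 i = true := below_step fy0 84231 191 84422 y0u440 y0c441 rfl
theorem y0c442 : allBelow (fun k => fy0 (Nat.add 84422 k)) 191 = true := by decide +kernel
theorem y0u442 : ∀ i, i < 84613 → fy0 i = true := below_step fy0 84422 191 84613 y0u441 y0c442 rfl
theorem y0c443 : allBelow (fun k => fy0 (Nat.add 84613 k)) 191 = true := by decide +kernel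
theorem y0u443 : ∀ i, i < 84804 → fy0 i = true := below_step fy0 84613 191 84804 y0u442 y0c443 rfl
theorem y0c444 : allBelow (fun k => fy0 (Nat.add 84804 k)) 191 = true := by decide +kernel
theorem y0u444 : ∀ i, i < 84995 → fy0 i = true := below_step fy0 84804 191 84995 y0u443 y0c444 rfl
theorem y0c445 : allBelow (fun k => fy0 (Nat.add 84995 k)) 191 = true := by decide +kernel
theorem y0u445 : ∀ i, i < 85186 → fy0 i = true := below_step fy0 84995 191 85186 y0u444 y0c445 rfl
theorem y0c446 : allBelow (fun k => fy0 (Nat.add 85186 k)) 191 = true := by decide +kernel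
theorem y0u446 : ∀ i, i < 85377 → fy0 i = true := below_step fy0 85186 191 85377 y0u445 y0c446 rfl
theorem y0c447 : allBelow (fun k => fy0 (Nat.add 85377 k)) 191 = true := by decide +kernel
theorem y0u447 : ∀ i, i < 85568 → fy0 i = true := below_step fy0 85377 191 85568 y0u446 y0c447 rfl
theorem y0c448 : allBelow (fun k => fy0 (Nat.add 85568 k)) 191 = true := by decide +kernel
theorem y0u448 : ∀ i, i < 85759 → fy0 i = true := below_step fy0 85568 191 85759 y0u447 y0c448 rfl
theorem y0c449 : allBelow (fun k => fy0 (Nat.add 85759 k)) 191 = true := by decide +kernel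
theorem y0u449 : ∀ i, i < 85950 → fy0 i = true := below_step fy0 85759 191 85950 y0u448 y0c449 rfl
theorem y0c450 : allBelow (fun k => fy0 (Nat.add 85950 k)) 191 = true := by decide +kernel
theorem y0u450 : ∀ i, i < 86141 → fy0 i = true := below_step fy0 85950 191 86141 y0u449 y0c450 rfl
theorem y0c451 : allBelow (fun k => fy0 (Nat.add 86141 k)) 191 = true := by decide +kernel
theorem y0u451 : ∀ i, i < 86332 → fy0 i = true := below_step fy0 86141 191 86332 y0u450 y0c451 rfl
theorem y0c452 : allBelow (fun k => fy0 (Nat.add 86332 k)) 191 = true := by decide +kernel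
theorem y0u452 : ∀ i, i < 86523 → fy0 i = true := below_step fy0 86332 191 86523 y0u451 y0c452 rfl
theorem y0c453 : allBelow (fun k => fy0 (Nat.add 86523 k)) 191 = true := by decide +kernel
theorem y0u453 : ∀ i, i < 86714 → fy0 i = true := below_step fy0 86523 191 86714 y0u452 y0c453 rfl
theorem y0c454 : allBelow (fun k => fy0 (Nat.add 86714 k)) 191 = true := by decide +kernel
theorem y0u454 : ∀ i, i < 86905 → fy0 i = true := below_step fy0 86714 191 86905 y0u453 y0c454 rfl
theorem y0c455 : allBelow (fun k => fy0 (Nat.add 86905 k)) 191 = true := by decide +kernel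
theorem y0u455 : ∀ i, i < 87096 → fy0 i = true := below_step fy0 86905 191 87096 y0u454 y0c455 rfl
theorem y0c456 : allBelow (fun k => fy0 (Nat.add 87096 k)) 191 = true := by decide +kernel
theorem y0u456 : ∀ i, i < 87287 → fy0 i = true := below_step fy0 87096 191 87287 y0u455 y0c456 rfl
theorem y0c457 : allBelow (fun k => fy0 (Nat.add 87287 k)) 191 = true := by decide +kernel
theorem y0u457 : ∀ i, i < 87478 → fy0 i = true := below_step fy0 87287 191 87478 y0u456 y0c457 rfl
theorem y0c458 : allBelow (fun k => fy0 (Nat.add 87478 k)) 191 = true := by decide +kernel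
theorem y0u458 : ∀ i, i < 87669 → fy0 i = true := below_step fy0 87478 191 87669 y0u457 y0c458 rfl
theorem y0c459 : allBelow (fun k => fy0 (Nat.add 87669 k)) 191 = true := by decide +kernel
theorem y0u459 : ∀ i, i < 87860 → fy0 i = true := below_step fy0 87669 191 87860 y0u458 y0c459 rfl
theorem y0c460 : allBelow (fun k => fy0 (Nat.add 87860 k)) 191 = true := by decide +kernel
theorem y0u460 : ∀ i, i < 88051 → fy0 i = true := below_step fy0 87860 191 88051 y0u459 y0c460 rfl
theorem y0c461 : allBelow (fun k => fy0 (Nat.add 88051 k)) 191 = true := by decide +kernel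
theorem y0u461 : ∀ i, i < 88242 → fy0 i = true := below_step fy0 88051 191 88242 y0u460 y0c461 rfl
theorem y0c462 : allBelow (fun k => fy0 (Nat.add 88242 k)) 191 = true := by decide +kernel
theorem y0u462 : ∀ i, i < 88433 → fy0 i = true := below_step fy0 88242 191 88433 y0u461 y0c462 rfl
theorem y0c463 : allBelow (fun k => fy0 (Nat.add 88433 k)) 191 = true := by decide +kernel
theorem y0u463 : ∀ i, i < 88624 → fy0 i = true := below_step fy0 88433 191 88624 y0u462 y0c463 rfl
theorem y0c464 : allBelow (fun k => fy0 (Nat.add 88624 k)) 191 = true := by decide +kernel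
theorem y0u464 : ∀ i, i < 88815 → fy0 i = true := below_step fy0 88624 191 88815 y0u463 y0c464 rfl
theorem y0c465 : allBelow (fun k => fy0 (Nat.add 88815 k)) 191 = true := by decide +kernel
theorem y0u465 : ∀ i, i < 89006 → fy0 i = true := below_step fy0 88815 191 89006 y0u464 y0c465 rfl
theorem y0c466 : allBelow (fun k => fy0 (Nat.add 89006 k)) 191 = true := by decide +kernel
theorem y0u466 : ∀ i, i < 89197 → fy0 i = true := below_step fy0 89006 191 89197 y0u465 y0c466 rfl
theorem y0c467 : allBelow (fun k => fy0 (Nat.add 89197 k)) 191 = true := by decide +kernel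
theorem y0u467 : ∀ i, i < 89388 → fy0 i = true := below_step fy0 89197 191 89388 y0u466 y0c467 rfl
theorem y0c468 : allBelow (fun k => fy0 (Nat.add 89388 k)) 191 = true := by decide +kernel
theorem y0u468 : ∀ i, i < 89579 → fy0 i = true := below_step fy0 89388 191 89579 y0u467 y0c468 rfl
theorem y0c469 : allBelow (fun k => fy0 (Nat.add 89579 k)) 191 = true := by decide +kernel
theorem y0u469 : ∀ i, i < 89770 → fy0 i = true := below_step fy0 89579 191 89770 y0u468 y0c469 rfl
theorem y0c470 : allBelow (fun k => fy0 (Nat.add 89770 k)) 191 = true := by decide +kernel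
theorem y0u470 : ∀ i, i < 89961 → fy0 i = true := below_step fy0 89770 191 89961 y0u469 y0c470 rfl
theorem y0c471 : allBelow (fun k => fy0 (Nat.add 89961 k)) 191 = true := by decide +kernel
theorem y0u471 : ∀ i, i < 90152 → fy0 i = true := below_step fy0 89961 191 90152 y0u470 y0c471 rfl
theorem y0c472 : allBelow (fun k => fy0 (Nat.add 90152 k)) 191 = true := by decide +kernel
theorem y0u472 : ∀ i, i < 90343 → fy0 i = true := below_step fy0 90152 191 90343 y0u471 y0c472 rfl
theorem y0c473 : allBelow (fun k => fy0 (Nat.add 90343 k)) 191 = true := by decide +kernel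
theorem y0u473 : ∀ i, i < 90534 → fy0 i = true := below_step fy0 90343 191 90534 y0u472 y0c473 rfl
theorem y0c474 : allBelow (fun k => fy0 (Nat.add 90534 k)) 191 = true := by decide +kernel
theorem y0u474 : ∀ i, i < 90725 → fy0 i = true := below_step fy0 90534 191 90725 y0u473 y0c474 rfl
theorem y0c475 : allBelow (fun k => fy0 (Nat.add 90725 k)) 191 = true := by decide +kernel
theorem y0u475 : ∀ i, i < 90916 → fy0 i = true := below_step fy0 90725 191 90916 y0u474 y0c475 rfl
theorem y0c476 : allBelow (fun k => fy0 (Nat.add 90916 k)) 191 = true := by decide +kernel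
theorem y0u476 : ∀ i, i < 91107 → fy0 i = true := below_step fy0 90916 191 91107 y0u475 y0c476 rfl
theorem y0c477 : allBelow (fun k => fy0 (Nat.add 91107 k)) 191 = true := by decide +kernel
theorem y0u477 : ∀ i, i < 91298 → fy0 i = true := below_step fy0 91107 191 91298 y0u476 y0c477 rfl
theorem y0c478 : allBelow (fun k => fy0 (Nat.add 91298 k)) 191 = true := by decide +kernel
theorem y0u478 : ∀ i, i < 91489 → fy0 i = true := below_step fy0 91298 191 91489 y0u477 y0c478 rfl
theorem y0c479 : allBelow (fun k => fy0 (Nat.add 91489 k)) 191 = true := by decide +kernel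
theorem y0u479 : ∀ i, i < 91680 → fy0 i = true := below_step fy0 91489 191 91680 y0u478 y0c479 rfl
theorem y0c480 : allBelow (fun k => fy0 (Nat.add 91680 k)) 191 = true := by decide +kernel
theorem y0u480 : ∀ i, i < 91871 → fy0 i = true := below_step fy0 91680 191 91871 y0u479 y0c480 rfl
theorem y0c481 : allBelow (fun k => fy0 (Nat.add 91871 k)) 191 = true := by decide +kernel
theorem y0u481 : ∀ i, i < 92062 → fy0 i = true := below_step fy0 91871 191 92062 y0u480 y0c481 rfl
theorem y0c482 : allBelow (fun k => fy0 (Nat.add 92062 k)) 191 = true := by decide +kernel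
theorem y0u482 : ∀ i, i < 92253 → fy0 i = true := below_step fy0 92062 191 92253 y0u481 y0c482 rfl
theorem y0c483 : allBelow (fun k => fy0 (Nat.add 92253 k)) 191 = true := by decide +kernel
theorem y0u483 : ∀ i, i < 92444 → fy0 i = true := below_step fy0 92253 191 92444 y0u482 y0c483 rfl
theorem y0c484 : allBelow (fun k => fy0 (Nat.add 92444 k)) 191 = true := by decide +kernel
theorem y0u484 : ∀ i, i < 92635 → fy0 i = true := below_step fy0 92444 191 92635 y0u483 y0c484 rfl
theorem y0c485 : allBelow (fun k => fy0 (Nat.add 92635 k)) 191 = true := by decide +kernel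
theorem y0u485 : ∀ i, i < 92826 → fy0 i = true := below_step fy0 92635 191 92826 y0u484 y0c485 rfl
theorem y0c486 : allBelow (fun k => fy0 (Nat.add 92826 k)) 191 = true := by decide +kernel
theorem y0u486 : ∀ i, i < 93017 → fy0 i = true := below_step fy0 92826 191 93017 y0u485 y0c486 rfl
theorem y0c487 : allBelow (fun k => fy0 (Nat.add 93017 k)) 191 = true := by decide +kernel
theorem y0u487 : ∀ i, i < 93208 → fy0 i = true := below_step fy0 93017 191 93208 y0u486 y0c487 rfl
theorem y0c488 : allBelow (fun k => fy0 (Nat.add 93208 k)) 191 = true := by decide +kernel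
theorem y0u488 : ∀ i, i < 93399 → fy0 i = true := below_step fy0 93208 191 93399 y0u487 y0c488 rfl
theorem y0c489 : allBelow (fun k => fy0 (Nat.add 93399 k)) 191 = true := by decide +kernel
theorem y0u489 : ∀ i, i < 93590 → fy0 i = true := below_step fy0 93399 191 93590 y0u488 y0c489 rfl
theorem y0c490 : allBelow (fun k => fy0 (Nat.add 93590 k)) 191 = true := by decide +kernel
theorem y0u490 : ∀ i, i < 93781 → fy0 i = true := below_step fy0 93590 191 93781 y0u489 y0c490 rfl
theorem y0c491 : allBelow (fun k => fy0 (Nat.add 93781 k)) 191 = true := by decide +kernel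
theorem y0u491 : ∀ i, i < 93972 → fy0 i = true := below_step fy0 93781 191 93972 y0u490 y0c491 rfl
theorem y0c492 : allBelow (fun k => fy0 (Nat.add 93972 k)) 191 = true := by decide +kernel
theorem y0u492 : ∀ i, i < 94163 → fy0 i = true := below_step fy0 93972 191 94163 y0u491 y0c492 rfl
theorem y0c493 : allBelow (fun k => fy0 (Nat.add 94163 k)) 191 = true := by decide +kernel
theorem y0u493 : ∀ i, i < 94354 → fy0 i = true := below_step fy0 94163 191 94354 y0u492 y0c493 rfl
theorem y0c494 : allBelow (fun k => fy0 (Nat.add 94354 k)) 191 = true := by decide +kernel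
theorem y0u494 : ∀ i, i < 94545 → fy0 i = true := below_step fy0 94354 191 94545 y0u493 y0c494 rfl
theorem y0c495 : allBelow (fun k => fy0 (Nat.add 94545 k)) 191 = true := by decide +kernel
theorem y0u495 : ∀ i, i < 94736 → fy0 i = true := below_step fy0 94545 191 94736 y0u494 y0c495 rfl
theorem y0c496 : allBelow (fun k => fy0 (Nat.add 94736 k)) 191 = true := by decide +kernel
theorem y0u496 : ∀ i, i < 94927 → fy0 i = true := below_step fy0 94736 191 94927 y0u495 y0c496 rfl
theorem y0c497 : allBelow (fun k => fy0 (Nat.add 94927 k)) 191 = true := by decide +kernel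
theorem y0u497 : ∀ i, i < 95118 → fy0 i = true := below_step fy0 94927 191 95118 y0u496 y0c497 rfl
theorem y0c498 : allBelow (fun k => fy0 (Nat.add 95118 k)) 191 = true := by decide +kernel
theorem y0u498 : ∀ i, i < 95309 → fy0 i = true := below_step fy0 95118 191 95309 y0u497 y0c498 rfl
theorem y0c499 : allBelow (fun k => fy0 (Nat.add 95309 k)) 191 = true := by decide +kernel
theorem y0u499 : ∀ i, i < 95500 → fy0 i = true := below_step fy0 95309 191 95500 y0u498 y0c499 rfl
theorem y0c500 : allBelow (fun k => fy0 (Nat.add 95500 k)) 191 = true := by decide +kernel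
theorem y0u500 : ∀ i, i < 95691 → fy0 i = true := below_step fy0 95500 191 95691 y0u499 y0c500 rfl
theorem y0c501 : allBelow (fun k => fy0 (Nat.add 95691 k)) 191 = true := by decide +kernel
theorem y0u501 : ∀ i, i < 95882 → fy0 i = true := below_step fy0 95691 191 95882 y0u500 y0c501 rfl
theorem y0c502 : allBelow (fun k => fy0 (Nat.add 95882 k)) 191 = true := by decide +kernel
theorem y0u502 : ∀ i, i < 96073 → fy0 i = true := below_step fy0 95882 191 96073 y0u501 y0c502 rfl
theorem y0c503 : allBelow (fun k => fy0 (Nat.add 96073 k)) 191 = true := by decide +kernel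
theorem y0u503 : ∀ i, i < 96264 → fy0 i = true := below_step fy0 96073 191 96264 y0u502 y0c503 rfl
theorem y0c504 : allBelow (fun k => fy0 (Nat.add 96264 k)) 191 = true := by decide +kernel
theorem y0u504 : ∀ i, i < 96455 → fy0 i = true := below_step fy0 96264 191 96455 y0u503 y0c504 rfl
theorem y0c505 : allBelow (fun k => fy0 (Nat.add 96455 k)) 191 = true := by decide +kernel
theorem y0u505 : ∀ i, i < 96646 → fy0 i = true := below_step fy0 96455 191 96646 y0u504 y0c505 rfl
theorem y0c506 : allBelow (fun k => fy0 (Nat.add 96646 k)) 191 = true := by decide +kernel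
theorem y0u506 : ∀ i, i < 96837 → fy0 i = true := below_step fy0 96646 191 96837 y0u505 y0c506 rfl
theorem y0c507 : allBelow (fun k => fy0 (Nat.add 96837 k)) 191 = true := by decide +kernel
theorem y0u507 : ∀ i, i < 97028 → fy0 i = true := below_step fy0 96837 191 97028 y0u506 y0c507 rfl
theorem y0c508 : allBelow (fun k => fy0 (Nat.add 97028 k)) 191 = true := by decide +kernel
theorem y0u508 : ∀ i, i < 97219 → fy0 i = true := below_step fy0 97028 191 97219 y0u507 y0c508 rfl
theorem y0c509 : allBelow (fun k => fy0 (Nat.add 97219 k)) 191 = true := by decide +kernel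
theorem y0u509 : ∀ i, i < 97410 → fy0 i = true := below_step fy0 97219 191 97410 y0u508 y0c509 rfl
theorem y0c510 : allBelow (fun k => fy0 (Nat.add 97410 k)) 191 = true := by decide +kernel
theorem y0u510 : ∀ i, i < 97601 → fy0 i = true := below_step fy0 97410 191 97601 y0u509 y0c510 rfl
theorem y0c511 : allBelow (fun k => fy0 (Nat.add 97601 k)) 191 = true := by decide +kernel
theorem y0u511 : ∀ i, i < 97792 → fy0 i = true := below_step fy0 97601 191 97792 y0u510 y0c511 rfl
theorem y0c512 : allBelow (fun k => fy0 (Nat.add 97792 k)) 191 = true := by decide +kernel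
theorem y0u512 : ∀ i, i < 97983 → fy0 i = true := below_step fy0 97792 191 97983 y0u511 y0c512 rfl
theorem y0c513 : allBelow (fun k => fy0 (Nat.add 97983 k)) 191 = true := by decide +kernel
theorem y0u513 : ∀ i, i < 98174 → fy0 i = true := below_step fy0 97983 191 98174 y0u512 y0c513 rfl
theorem y0c514 : allBelow (fun k => fy0 (Nat.add 98174 k)) 191 = true := by decide +kernel
theorem y0u514 : ∀ i, i < 98365 → fy0 i = true := below_step fy0 98174 191 98365 y0u513 y0c514 rfl
theorem y0c515 : allBelow (fun k => fy0 (Nat.add 98365 k)) 191 = true := by decide +kernel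
theorem y0u515 : ∀ i, i < 98556 → fy0 i = true := below_step fy0 98365 191 98556 y0u514 y0c515 rfl
theorem y0c516 : allBelow (fun k => fy0 (Nat.add 98556 k)) 191 = true := by decide +kernel
theorem y0u516 : ∀ i, i < 98747 → fy0 i = true := below_step fy0 98556 191 98747 y0u515 y0c516 rfl
theorem y0c517 : allBelow (fun k => fy0 (Nat.add 98747 k)) 191 = true := by decide +kernel
theorem y0u517 : ∀ i, i < 98938 → fy0 i = true := below_step fy0 98747 191 98938 y0u516 y0c517 rfl
theorem y0c518 : allBelow (fun k => fy0 (Nat.add 98938 k)) 191 = true := by decide +kernel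
theorem y0u518 : ∀ i, i < 99129 → fy0 i = true := below_step fy0 98938 191 99129 y0u517 y0c518 rfl
theorem y0c519 : allBelow (fun k => fy0 (Nat.add 99129 k)) 191 = true := by decide +kernel
theorem y0u519 : ∀ i, i < 99320 → fy0 i = true := below_step fy0 99129 191 99320 y0u518 y0c519 rfl
theorem y0c520 : allBelow (fun k => fy0 (Nat.add 99320 k)) 191 = true := by decide +kernel
theorem y0u520 : ∀ i, i < 99511 → fy0 i = true := below_step fy0 99320 191 99511 y0u519 y0c520 rfl
theorem y0c521 : allBelow (fun k => fy0 (Nat.add 99511 k)) 191 = true := by decide +kernel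
theorem y0u521 : ∀ i, i < 99702 → fy0 i = true := below_step fy0 99511 191 99702 y0u520 y0c521 rfl
theorem y0c522 : allBelow (fun k => fy0 (Nat.add 99702 k)) 191 = true := by decide +kernel
theorem y0u522 : ∀ i, i < 99893 → fy0 i = true := below_step fy0 99702 191 99893 y0u521 y0c522 rfl
theorem y0c523 : allBelow (fun k => fy0 (Nat.add 99893 k)) 191 = true := by decide +kernel
theorem y0u523 : ∀ i, i < 100084 → fy0 i = true := below_step fy0 99893 191 100084 y0u522 y0c523 rfl
theorem y0c524 : allBelow (fun k => fy0 (Nat.add 100084 k)) 191 = true := by decide +kernel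
theorem y0u524 : ∀ i, i < 100275 → fy0 i = true := below_step fy0 100084 191 100275 y0u523 y0c524 rfl
theorem y0c525 : allBelow (fun k => fy0 (Nat.add 100275 k)) 191 = true := by decide +kernel
theorem y0u525 : ∀ i, i < 100466 → fy0 i = true := below_step fy0 100275 191 100466 y0u524 y0c525 rfl
theorem y0c526 : allBelow (fun k => fy0 (Nat.add 100466 k)) 191 = true := by decide +kernel
theorem y0u526 : ∀ i, i < 100657 → fy0 i = true := below_step fy0 100466 191 100657 y0u525 y0c526 rfl
theorem y0c527 : allBelow (fun k => fy0 (Nat.add 100657 k)) 191 = true := by decide +kernel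
theorem y0u527 : ∀ i, i < 100848 → fy0 i = true := below_step fy0 100657 191 100848 y0u526 y0c527 rfl
theorem y0c528 : allBelow (fun k => fy0 (Nat.add 100848 k)) 191 = true := by decide +kernel
theorem y0u528 : ∀ i, i < 101039 → fy0 i = true := below_step fy0 100848 191 101039 y0u527 y0c528 rfl
theorem y0c529 : allBelow (fun k => fy0 (Nat.add 101039 k)) 191 = true := by decide +kernel
theorem y0u529 : ∀ i, i < 101230 → fy0 i = true := below_step fy0 101039 191 101230 y0u528 y0c529 rfl
theorem y0c530 : allBelow (fun k => fy0 (Nat.add 101230 k)) 191 = true := by decide +kernel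
theorem y0u530 : ∀ i, i < 101421 → fy0 i = true := below_step fy0 101230 191 101421 y0u529 y0c530 rfl
theorem y0c531 : allBelow (fun k => fy0 (Nat.add 101421 k)) 191 = true := by decide +kernel
theorem y0u531 : ∀ i, i < 101612 → fy0 i = true := below_step fy0 101421 191 101612 y0u530 y0c531 rfl
theorem y0c532 : allBelow (fun k => fy0 (Nat.add 101612 k)) 191 = true := by decide +kernel
theorem y0u532 : ∀ i, i < 101803 → fy0 i = true := below_step fy0 101612 191 101803 y0u531 y0c532 rfl
theorem y0c533 : allBelow (fun k => fy0 (Nat.add 101803 k)) 191 = true := by decide +kernel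
theorem y0u533 : ∀ i, i < 101994 → fy0 i = true := below_step fy0 101803 191 101994 y0u532 y0c533 rfl
theorem y0c534 : allBelow (fun k => fy0 (Nat.add 101994 k)) 191 = true := by decide +kernel
theorem y0u534 : ∀ i, i < 102185 → fy0 i = true := below_step fy0 101994 191 102185 y0u533 y0c534 rfl
theorem y0c535 : allBelow (fun k => fy0 (Nat.add 102185 k)) 191 = true := by decide +kernel
theorem y0u535 : ∀ i, i < 102376 → fy0 i = true := below_step fy0 102185 191 102376 y0u534 y0c535 rfl
theorem y0c536 : allBelow (fun k => fy0 (Nat.add 102376 k)) 191 = true := by decide +kernel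
theorem y0u536 : ∀ i, i < 102567 → fy0 i = true := below_step fy0 102376 191 102567 y0u535 y0c536 rfl
theorem y0c537 : allBelow (fun k => fy0 (Nat.add 102567 k)) 191 = true := by decide +kernel
theorem y0u537 : ∀ i, i < 102758 → fy0 i = true := below_step fy0 102567 191 102758 y0u536 y0c537 rfl
theorem y0c538 : allBelow (fun k => fy0 (Nat.add 102758 k)) 191 = true := by decide +kernel
theorem y0u538 : ∀ i, i < 102949 → fy0 i = true := below_step fy0 102758 191 102949 y0u537 y0c538 rfl
theorem y0c539 : allBelow (fun k => fy0 (Nat.add 102949 k)) 191 = true := by decide +kernel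
theorem y0u539 : ∀ i, i < 103140 → fy0 i = true := below_step fy0 102949 191 103140 y0u538 y0c539 rfl
theorem y0c540 : allBelow (fun k => fy0 (Nat.add 103140 k)) 191 = true := by decide +kernel
theorem y0u540 : ∀ i, i < 103331 → fy0 i = true := below_step fy0 103140 191 103331 y0u539 y0c540 rfl
theorem y0c541 : allBelow (fun k => fy0 (Nat.add 103331 k)) 191 = true := by decide +kernel
theorem y0u541 : ∀ i, i < 103522 → fy0 i = true := below_step fy0 103331 191 103522 y0u540 y0c541 rfl
theorem y0c542 : allBelow (fun k => fy0 (Nat.add 103522 k)) 191 = true := by decide +kernel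
theorem y0u542 : ∀ i, i < 103713 → fy0 i = true := below_step fy0 103522 191 103713 y0u541 y0c542 rfl
theorem y0c543 : allBelow (fun k => fy0 (Nat.add 103713 k)) 191 = true := by decide +kernel
theorem y0u543 : ∀ i, i < 103904 → fy0 i = true := below_step fy0 103713 191 103904 y0u542 y0c543 rfl
theorem y0c544 : allBelow (fun k => fy0 (Nat.add 103904 k)) 191 = true := by decide +kernel
theorem y0u544 : ∀ i, i < 104095 → fy0 i = true := below_step fy0 103904 191 104095 y0u543 y0c544 rfl
theorem y0c545 : allBelow (fun k => fy0 (Nat.add 104095 k)) 191 = true := by decide +kernel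
theorem y0u545 : ∀ i, i < 104286 → fy0 i = true := below_step fy0 104095 191 104286 y0u544 y0c545 rfl
theorem y0c546 : allBelow (fun k => fy0 (Nat.add 104286 k)) 191 = true := by decide +kernel
theorem y0u546 : ∀ i, i < 104477 → fy0 i = true := below_step fy0 104286 191 104477 y0u545 y0c546 rfl
theorem y0c547 : allBelow (fun k => fy0 (Nat.add 104477 k)) 191 = true := by decide +kernel
theorem y0u547 : ∀ i, i < 104668 → fy0 i = true := below_step fy0 104477 191 104668 y0u546 y0c547 rfl
theorem y0c548 : allBelow (fun k => fy0 (Nat.add 104668 k)) 191 = true := by decide +kernel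
theorem y0u548 : ∀ i, i < 104859 → fy0 i = true := below_step fy0 104668 191 104859 y0u547 y0c548 rfl
theorem y0c549 : allBelow (fun k => fy0 (Nat.add 104859 k)) 191 = true := by decide +kernel
theorem y0u549 : ∀ i, i < 105050 → fy0 i = true := below_step fy0 104859 191 105050 y0u548 y0c549 rfl
theorem y0c550 : allBelow (fun k => fy0 (Nat.add 105050 k)) 191 = true := by decide +kernel
theorem y0u550 : ∀ i, i < 105241 → fy0 i = true := below_step fy0 105050 191 105241 y0u549 y0c550 rfl
theorem y0c551 : allBelow (fun k => fy0 (Nat.add 105241 k)) 191 = true := by decide +kernel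
theorem y0u551 : ∀ i, i < 105432 → fy0 i = true := below_step fy0 105241 191 105432 y0u550 y0c551 rfl
theorem y0c552 : allBelow (fun k => fy0 (Nat.add 105432 k)) 191 = true := by decide +kernel
theorem y0u552 : ∀ i, i < 105623 → fy0 i = true := below_step fy0 105432 191 105623 y0u551 y0c552 rfl
theorem y0c553 : allBelow (fun k => fy0 (Nat.add 105623 k)) 191 = true := by decide +kernel
theorem y0u553 : ∀ i, i < 105814 → fy0 i = true := below_step fy0 105623 191 105814 y0u552 y0c553 rfl
theorem y0c554 : allBelow (fun k => fy0 (Nat.add 105814 k)) 191 = true := by decide +kernel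
theorem y0u554 : ∀ i, i < 106005 → fy0 i = true := below_step fy0 105814 191 106005 y0u553 y0c554 rfl
theorem y0c555 : allBelow (fun k => fy0 (Nat.add 106005 k)) 191 = true := by decide +kernel
theorem y0u555 : ∀ i, i < 106196 → fy0 i = true := below_step fy0 106005 191 106196 y0u554 y0c555 rfl
theorem y0c556 : allBelow (fun k => fy0 (Nat.add 106196 k)) 191 = true := by decide +kernel
theorem y0u556 : ∀ i, i < 106387 → fy0 i = true := below_step fy0 106196 191 106387 y0u555 y0c556 rfl
theorem y0c557 : allBelow (fun k => fy0 (Nat.add 106387 k)) 191 = true := by decide +kernel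
theorem y0u557 : ∀ i, i < 106578 → fy0 i = true := below_step fy0 106387 191 106578 y0u556 y0c557 rfl
theorem y0c558 : allBelow (fun k => fy0 (Nat.add 106578 k)) 191 = true := by decide +kernel
theorem y0u558 : ∀ i, i < 106769 → fy0 i = true := below_step fy0 106578 191 106769 y0u557 y0c558 rfl
theorem y0c559 : allBelow (fun k => fy0 (Nat.add 106769 k)) 191 = true := by decide +kernel
theorem y0u559 : ∀ i, i < 106960 → fy0 i = true := below_step fy0 106769 191 106960 y0u558 y0c559 rfl
theorem y0c560 : allBelow (fun k => fy0 (Nat.add 106960 k)) 191 = true := by decide +kernel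
theorem y0u560 : ∀ i, i < 107151 → fy0 i = true := below_step fy0 106960 191 107151 y0u559 y0c560 rfl
theorem y0c561 : allBelow (fun k => fy0 (Nat.add 107151 k)) 191 = true := by decide +kernel
theorem y0u561 : ∀ i, i < 107342 → fy0 i = true := below_step fy0 107151 191 107342 y0u560 y0c561 rfl
theorem y0c562 : allBelow (fun k => fy0 (Nat.add 107342 k)) 191 = true := by decide +kernel
theorem y0u562 : ∀ i, i < 107533 → fy0 i = true := below_step fy0 107342 191 107533 y0u561 y0c562 rfl
theorem y0c563 : allBelow (fun k => fy0 (Nat.add 107533 k)) 191 = true := by decide +kernel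
theorem y0u563 : ∀ i, i < 107724 → fy0 i = true := below_step fy0 107533 191 107724 y0u562 y0c563 rfl
theorem y0c564 : allBelow (fun k => fy0 (Nat.add 107724 k)) 191 = true := by decide +kernel
theorem y0u564 : ∀ i, i < 107915 → fy0 i = true := below_step fy0 107724 191 107915 y0u563 y0c564 rfl
theorem y0c565 : allBelow (fun k => fy0 (Nat.add 107915 k)) 191 = true := by decide +kernel
theorem y0u565 : ∀ i, i < 108106 → fy0 i = true := below_step fy0 107915 191 108106 y0u564 y0c565 rfl
theorem y0c566 : allBelow (fun k => fy0 (Nat.add 108106 k)) 191 = true := by decide +kernel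
theorem y0u566 : ∀ i, i < 108297 → fy0 i = true := below_step fy0 108106 191 108297 y0u565 y0c566 rfl
theorem y0c567 : allBelow (fun k => fy0 (Nat.add 108297 k)) 191 = true := by decide +kernel
theorem y0u567 : ∀ i, i < 108488 → fy0 i = true := below_step fy0 108297 191 108488 y0u566 y0c567 rfl
theorem y0c568 : allBelow (fun k => fy0 (Nat.add 108488 k)) 191 = true := by decide +kernel
theorem y0u568 : ∀ i, i < 108679 → fy0 i = true := below_step fy0 108488 191 108679 y0u567 y0c568 rfl
theorem y0c569 : allBelow (fun k => fy0 (Nat.add 108679 k)) 191 = true := by decide +kernel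
theorem y0u569 : ∀ i, i < 108870 → fy0 i = true := below_step fy0 108679 191 108870 y0u568 y0c569 rfl
theorem y0c570 : allBelow (fun k => fy0 (Nat.add 108870 k)) 191 = true := by decide +kernel
theorem y0u570 : ∀ i, i < 109061 → fy0 i = true := below_step fy0 108870 191 109061 y0u569 y0c570 rfl
theorem y0c571 : allBelow (fun k => fy0 (Nat.add 109061 k)) 191 = true := by decide +kernel
theorem y0u571 : ∀ i, i < 109252 → fy0 i = true := below_step fy0 109061 191 109252 y0u570 y0c571 rfl
theorem y0c572 : allBelow (fun k => fy0 (Nat.add 109252 k)) 191 = true := by decide +kernel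
theorem y0u572 : ∀ i, i < 109443 → fy0 i = true := below_step fy0 109252 191 109443 y0u571 y0c572 rfl
theorem y0c573 : allBelow (fun k => fy0 (Nat.add 109443 k)) 191 = true := by decide +kernel
theorem y0u573 : ∀ i, i < 109634 → fy0 i = true := below_step fy0 109443 191 109634 y0u572 y0c573 rfl
theorem y0c574 : allBelow (fun k => fy0 (Nat.add 109634 k)) 191 = true := by decide +kernel
theorem y0u574 : ∀ i, i < 109825 → fy0 i = true := below_step fy0 109634 191 109825 y0u573 y0c574 rfl
theorem y0c575 : allBelow (fun k => fy0 (Nat.add 109825 k)) 191 = true := by decide +kernel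
theorem y0u575 : ∀ i, i < 110016 → fy0 i = true := below_step fy0 109825 191 110016 y0u574 y0c575 rfl
theorem y0c576 : allBelow (fun k => fy0 (Nat.add 110016 k)) 191 = true := by decide +kernel
theorem y0u576 : ∀ i, i < 110207 → fy0 i = true := below_step fy0 110016 191 110207 y0u575 y0c576 rfl
theorem y0c577 : allBelow (fun k => fy0 (Nat.add 110207 k)) 191 = true := by decide +kernel
theorem y0u577 : ∀ i, i < 110398 → fy0 i = true := below_step fy0 110207 191 110398 y0u576 y0c577 rfl
theorem y0c578 : allBelow (fun k => fy0 (Nat.add 110398 k)) 191 = true := by decide +kernel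
theorem y0u578 : ∀ i, i < 110589 → fy0 i = true := below_step fy0 110398 191 110589 y0u577 y0c578 rfl
theorem y0c579 : allBelow (fun k => fy0 (Nat.add 110589 k)) 191 = true := by decide +kernel
theorem y0u579 : ∀ i, i < 110780 → fy0 i = true := below_step fy0 110589 191 110780 y0u578 y0c579 rfl
theorem y0c580 : allBelow (fun k => fy0 (Nat.add 110780 k)) 191 = true := by decide +kernel
theorem y0u580 : ∀ i, i < 110971 → fy0 i = true := below_step fy0 110780 191 110971 y0u579 y0c580 rfl
theorem y0c581 : allBelow (fun k => fy0 (Nat.add 110971 k)) 191 = true := by decide +kernel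
theorem y0u581 : ∀ i, i < 111162 → fy0 i = true := below_step fy0 110971 191 111162 y0u580 y0c581 rfl
theorem y0c582 : allBelow (fun k => fy0 (Nat.add 111162 k)) 191 = true := by decide +kernel
theorem y0u582 : ∀ i, i < 111353 → fy0 i = true := below_step fy0 111162 191 111353 y0u581 y0c582 rfl
theorem y0c583 : allBelow (fun k => fy0 (Nat.add 111353 k)) 191 = true := by decide +kernel
theorem y0u583 : ∀ i, i < 111544 → fy0 i = true := below_step fy0 111353 191 111544 y0u582 y0c583 rfl
theorem y0c584 : allBelow (fun k => fy0 (Nat.add 111544 k)) 191 = true := by decide +kernel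
theorem y0u584 : ∀ i, i < 111735 → fy0 i = true := below_step fy0 111544 191 111735 y0u583 y0c584 rfl
theorem y0c585 : allBelow (fun k => fy0 (Nat.add 111735 k)) 191 = true := by decide +kernel
theorem y0u585 : ∀ i, i < 111926 → fy0 i = true := below_step fy0 111735 191 111926 y0u584 y0c585 rfl
theorem y0c586 : allBelow (fun k => fy0 (Nat.add 111926 k)) 191 = true := by decide +kernel
theorem y0u586 : ∀ i, i < 112117 → fy0 i = true := below_step fy0 111926 191 112117 y0u585 y0c586 rfl
theorem y0c587 : allBelow (fun k => fy0 (Nat.add 112117 k)) 191 = true := by decide +kernel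
theorem y0u587 : ∀ i, i < 112308 → fy0 i = true := below_step fy0 112117 191 112308 y0u586 y0c587 rfl
theorem y0c588 : allBelow (fun k => fy0 (Nat.add 112308 k)) 191 = true := by decide +kernel
theorem y0u588 : ∀ i, i < 112499 → fy0 i = true := below_step fy0 112308 191 112499 y0u587 y0c588 rfl
theorem y0c589 : allBelow (fun k => fy0 (Nat.add 112499 k)) 191 = true := by decide +kernel
theorem y0u589 : ∀ i, i < 112690 → fy0 i = true := below_step fy0 112499 191 112690 y0u588 y0c589 rfl
theorem y0c590 : allBelow (fun k => fy0 (Nat.add 112690 k)) 191 = true := by decide +kernel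
theorem y0u590 : ∀ i, i < 112881 → fy0 i = true := below_step fy0 112690 191 112881 y0u589 y0c590 rfl
theorem y0c591 : allBelow (fun k => fy0 (Nat.add 112881 k)) 191 = true := by decide +kernel
theorem y0u591 : ∀ i, i < 113072 → fy0 i = true := below_step fy0 112881 191 113072 y0u590 y0c591 rfl
theorem y0c592 : allBelow (fun k => fy0 (Nat.add 113072 k)) 191 = true := by decide +kernel
theorem y0u592 : ∀ i, i < 113263 → fy0 i = true := below_step fy0 113072 191 113263 y0u591 y0c592 rfl
theorem y0c593 : allBelow (fun k => fy0 (Nat.add 113263 k)) 191 = true := by decide +kernel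
theorem y0u593 : ∀ i, i < 113454 → fy0 i = true := below_step fy0 113263 191 113454 y0u592 y0c593 rfl
theorem y0c594 : allBelow (fun k => fy0 (Nat.add 113454 k)) 191 = true := by decide +kernel
theorem y0u594 : ∀ i, i < 113645 → fy0 i = true := below_step fy0 113454 191 113645 y0u593 y0c594 rfl
theorem y0c595 : allBelow (fun k => fy0 (Nat.add 113645 k)) 191 = true := by decide +kernel
theorem y0u595 : ∀ i, i < 113836 → fy0 i = true := below_step fy0 113645 191 113836 y0u594 y0c595 rfl
theorem y0c596 : allBelow (fun k => fy0 (Nat.add 113836 k)) 191 = true := by decide +kernel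
theorem y0u596 : ∀ i, i < 114027 → fy0 i = true := below_step fy0 113836 191 114027 y0u595 y0c596 rfl
theorem y0c597 : allBelow (fun k => fy0 (Nat.add 114027 k)) 191 = true := by decide +kernel
theorem y0u597 : ∀ i, i < 114218 → fy0 i = true := below_step fy0 114027 191 114218 y0u596 y0c597 rfl
theorem y0c598 : allBelow (fun k => fy0 (Nat.add 114218 k)) 191 = true := by decide +kernel
theorem y0u598 : ∀ i, i < 114409 → fy0 i = true := below_step fy0 114218 191 114409 y0u597 y0c598 rfl
theorem y0c599 : allBelow (fun k => fy0 (Nat.add 114409 k)) 191 = true := by decide +kernel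
theorem y0u599 : ∀ i, i < 114600 → fy0 i = true := below_step fy0 114409 191 114600 y0u598 y0c599 rfl
theorem y0c600 : allBelow (fun k => fy0 (Nat.add 114600 k)) 191 = true := by decide +kernel
theorem y0u600 : ∀ i, i < 114791 → fy0 i = true := below_step fy0 114600 191 114791 y0u599 y0c600 rfl
theorem y0c601 : allBelow (fun k => fy0 (Nat.add 114791 k)) 191 = true := by decide +kernel
theorem y0u601 : ∀ i, i < 114982 → fy0 i = true := below_step fy0 114791 191 114982 y0u600 y0c601 rfl
theorem y0c602 : allBelow (fun k => fy0 (Nat.add 114982 k)) 191 = true := by decide +kernel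
theorem y0u602 : ∀ i, i < 115173 → fy0 i = true := below_step fy0 114982 191 115173 y0u601 y0c602 rfl
theorem y0c603 : allBelow (fun k => fy0 (Nat.add 115173 k)) 191 = true := by decide +kernel
theorem y0u603 : ∀ i, i < 115364 → fy0 i = true := below_step fy0 115173 191 115364 y0u602 y0c603 rfl
theorem y0c604 : allBelow (fun k => fy0 (Nat.add 115364 k)) 191 = true := by decide +kernel
theorem y0u604 : ∀ i, i < 115555 → fy0 i = true := below_step fy0 115364 191 115555 y0u603 y0c604 rfl
theorem y0c605 : allBelow (fun k => fy0 (Nat.add 115555 k)) 191 = true := by decide +kernel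
theorem y0u605 : ∀ i, i < 115746 → fy0 i = true := below_step fy0 115555 191 115746 y0u604 y0c605 rfl
theorem y0c606 : allBelow (fun k => fy0 (Nat.add 115746 k)) 191 = true := by decide +kernel
theorem y0u606 : ∀ i, i < 115937 → fy0 i = true := below_step fy0 115746 191 115937 y0u605 y0c606 rfl
theorem y0c607 : allBelow (fun k => fy0 (Nat.add 115937 k)) 191 = true := by decide +kernel
theorem y0u607 : ∀ i, i < 116128 → fy0 i = true := below_step fy0 115937 191 116128 y0u606 y0c607 rfl
theorem y0c608 : allBelow (fun k => fy0 (Nat.add 116128 k)) 191 = true := by decide +kernel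
theorem y0u608 : ∀ i, i < 116319 → fy0 i = true := below_step fy0 116128 191 116319 y0u607 y0c608 rfl
theorem y0c609 : allBelow (fun k => fy0 (Nat.add 116319 k)) 191 = true := by decide +kernel
theorem y0u609 : ∀ i, i < 116510 → fy0 i = true := below_step fy0 116319 191 116510 y0u608 y0c609 rfl
theorem y0c610 : allBelow (fun k => fy0 (Nat.add 116510 k)) 191 = true := by decide +kernel
theorem y0u610 : ∀ i, i < 116701 → fy0 i = true := below_step fy0 116510 191 116701 y0u609 y0c610 rfl
theorem y0c611 : allBelow (fun k => fy0 (Nat.add 116701 k)) 191 = true := by decide +kernel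
theorem y0u611 : ∀ i, i < 116892 → fy0 i = true := below_step fy0 116701 191 116892 y0u610 y0c611 rfl
theorem y0c612 : allBelow (fun k => fy0 (Nat.add 116892 k)) 191 = true := by decide +kernel
theorem y0u612 : ∀ i, i < 117083 → fy0 i = true := below_step fy0 116892 191 117083 y0u611 y0c612 rfl
theorem y0c613 : allBelow (fun k => fy0 (Nat.add 117083 k)) 191 = true := by decide +kernel
theorem y0u613 : ∀ i, i < 117274 → fy0 i = true := below_step fy0 117083 191 117274 y0u612 y0c613 rfl
theorem y0c614 : allBelow (fun k => fy0 (Nat.add 117274 k)) 191 = true := by decide +kernel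
theorem y0u614 : ∀ i, i < 117465 → fy0 i = true := below_step fy0 117274 191 117465 y0u613 y0c614 rfl
theorem y0c615 : allBelow (fun k => fy0 (Nat.add 117465 k)) 191 = true := by decide +kernel
theorem y0u615 : ∀ i, i < 117656 → fy0 i = true := below_step fy0 117465 191 117656 y0u614 y0c615 rfl
theorem y0c616 : allBelow (fun k => fy0 (Nat.add 117656 k)) 191 = true := by decide +kernel
theorem y0u616 : ∀ i, i < 117847 → fy0 i = true := below_step fy0 117656 191 117847 y0u615 y0c616 rfl
theorem y0c617 : allBelow (fun k => fy0 (Nat.add 117847 k)) 191 = true := by decide +kernel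
theorem y0u617 : ∀ i, i < 118038 → fy0 i = true := below_step fy0 117847 191 118038 y0u616 y0c617 rfl
theorem y0c618 : allBelow (fun k => fy0 (Nat.add 118038 k)) 191 = true := by decide +kernel
theorem y0u618 : ∀ i, i < 118229 → fy0 i = true := below_step fy0 118038 191 118229 y0u617 y0c618 rfl
theorem y0c619 : allBelow (fun k => fy0 (Nat.add 118229 k)) 191 = true := by decide +kernel
theorem y0u619 : ∀ i, i < 118420 → fy0 i = true := below_step fy0 118229 191 118420 y0u618 y0c619 rfl
theorem y0c620 : allBelow (fun k => fy0 (Nat.add 118420 k)) 191 = true := by decide +kernel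
theorem y0u620 : ∀ i, i < 118611 → fy0 i = true := below_step fy0 118420 191 118611 y0u619 y0c620 rfl
theorem y0c621 : allBelow (fun k => fy0 (Nat.add 118611 k)) 191 = true := by decide +kernel
theorem y0u621 : ∀ i, i < 118802 → fy0 i = true := below_step fy0 118611 191 118802 y0u620 y0c621 rfl
theorem y0c622 : allBelow (fun k => fy0 (Nat.add 118802 k)) 191 = true := by decide +kernel
theorem y0u622 : ∀ i, i < 118993 → fy0 i = true := below_step fy0 118802 191 118993 y0u621 y0c622 rfl
theorem y0c623 : allBelow (fun k => fy0 (Nat.add 118993 k)) 191 = true := by decide +kernel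
theorem y0u623 : ∀ i, i < 119184 → fy0 i = true := below_step fy0 118993 191 119184 y0u622 y0c623 rfl
theorem y0c624 : allBelow (fun k => fy0 (Nat.add 119184 k)) 191 = true := by decide +kernel
theorem y0u624 : ∀ i, i < 119375 → fy0 i = true := below_step fy0 119184 191 119375 y0u623 y0c624 rfl
theorem y0c625 : allBelow (fun k => fy0 (Nat.add 119375 k)) 191 = true := by decide +kernel
theorem y0u625 : ∀ i, i < 119566 → fy0 i = true := below_step fy0 119375 191 119566 y0u624 y0c625 rfl
theorem y0c626 : allBelow (fun k => fy0 (Nat.add 119566 k)) 191 = true := by decide +kernel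
theorem y0u626 : ∀ i, i < 119757 → fy0 i = true := below_step fy0 119566 191 119757 y0u625 y0c626 rfl
theorem y0c627 : allBelow (fun k => fy0 (Nat.add 119757 k)) 191 = true := by decide +kernel
theorem y0u627 : ∀ i, i < 119948 → fy0 i = true := below_step fy0 119757 191 119948 y0u626 y0c627 rfl
theorem y0c628 : allBelow (fun k => fy0 (Nat.add 119948 k)) 191 = true := by decide +kernel
theorem y0u628 : ∀ i, i < 120139 → fy0 i = true := below_step fy0 119948 191 120139 y0u627 y0c628 rfl
theorem y0c629 : allBelow (fun k => fy0 (Nat.add 120139 k)) 191 = true := by decide +kernel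
theorem y0u629 : ∀ i, i < 120330 → fy0 i = true := below_step fy0 120139 191 120330 y0u628 y0c629 rfl
theorem y0c630 : allBelow (fun k => fy0 (Nat.add 120330 k)) 191 = true := by decide +kernel
theorem y0u630 : ∀ i, i < 120521 → fy0 i = true := below_step fy0 120330 191 120521 y0u629 y0c630 rfl
theorem y0c631 : allBelow (fun k => fy0 (Nat.add 120521 k)) 191 = true := by decide +kernel
theorem y0u631 : ∀ i, i < 120712 → fy0 i = true := below_step fy0 120521 191 120712 y0u630 y0c631 rfl
theorem y0c632 : allBelow (fun k => fy0 (Nat.add 120712 k)) 191 = true := by decide +kernel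
theorem y0u632 : ∀ i, i < 120903 → fy0 i = true := below_step fy0 120712 191 120903 y0u631 y0c632 rfl
theorem y0c633 : allBelow (fun k => fy0 (Nat.add 120903 k)) 191 = true := by decide +kernel
theorem y0u633 : ∀ i, i < 121094 → fy0 i = true := below_step fy0 120903 191 121094 y0u632 y0c633 rfl
theorem y0c634 : allBelow (fun k => fy0 (Nat.add 121094 k)) 191 = true := by decide +kernel
theorem y0u634 : ∀ i, i < 121285 → fy0 i = true := below_step fy0 121094 191 121285 y0u633 y0c634 rfl
theorem y0c635 : allBelow (fun k => fy0 (Nat.add 121285 k)) 191 = true := by decide +kernel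
theorem y0u635 : ∀ i, i < 121476 → fy0 i = true := below_step fy0 121285 191 121476 y0u634 y0c635 rfl
theorem y0c636 : allBelow (fun k => fy0 (Nat.add 121476 k)) 191 = true := by decide +kernel
theorem y0u636 : ∀ i, i < 121667 → fy0 i = true := below_step fy0 121476 191 121667 y0u635 y0c636 rfl
theorem y0c637 : allBelow (fun k => fy0 (Nat.add 121667 k)) 191 = true := by decide +kernel
theorem y0u637 : ∀ i, i < 121858 → fy0 i = true := below_step fy0 121667 191 121858 y0u636 y0c637 rfl
theorem y0c638 : allBelow (fun k => fy0 (Nat.add 121858 k)) 191 = true := by decide +kernel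
theorem y0u638 : ∀ i, i < 122049 → fy0 i = true := below_step fy0 121858 191 122049 y0u637 y0c638 rfl
theorem y0c639 : allBelow (fun k => fy0 (Nat.add 122049 k)) 191 = true := by decide +kernel
theorem y0u639 : ∀ i, i < 122240 → fy0 i = true := below_step fy0 122049 191 122240 y0u638 y0c639 rfl
theorem y0c640 : allBelow (fun k => fy0 (Nat.add 122240 k)) 191 = true := by decide +kernel
theorem y0u640 : ∀ i, i < 122431 → fy0 i = true := below_step fy0 122240 191 122431 y0u639 y0c640 rfl
theorem y0c641 : allBelow (fun k => fy0 (Nat.add 122431 k)) 191 = true := by decide +kernel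
theorem y0u641 : ∀ i, i < 122622 → fy0 i = true := below_step fy0 122431 191 122622 y0u640 y0c641 rfl
theorem y0c642 : allBelow (fun k => fy0 (Nat.add 122622 k)) 138 = true := by decide +kernel
theorem y0u642 : ∀ i, i < 122760 → fy0 i = true := below_step fy0 122622 138 122760 y0u641 y0c642 rfl

end Cfsg.Agent.Lib.Helper35.ONOrd.X0
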